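import Cfsg.Agent.Lib.Blocks.Local
import Cfsg.Agent.Lib.Blocks.OrbitSum
import Cfsg.Agent.Lib.Char.Orth

/-!
# Brauer pairs: elementary congruences and transport along isomorphisms

* `sum_sub_sum_centralizer`: the sum of a `P`-invariant local-integral function on `G` is congruent
  to its sum over `C_G(P)` (the augmentation commutes with the Brauer map);
* `sum_mul_sub_of_sameBlock`: characters in one block give congruent values on local-integral
  class functions;
* `sameBlock_comp_equiv`, `blockCoeff_principalBlock_equiv`: transport along `H ≃* G`;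
* `oneIrr`, `isPBlock_principal`, `sum_blockCoeff_principal`, `stabilizes_principal`,
  `conjBlock_principal`.
-/

set_option autoImplicit false

open scoped ComplexConjugate

namespace Cfsg.Agent.BrauerPairs

open Cfsg Cfsg.Agent.Blocks

variable {G : Type*} [Group G] {p : ℕ} {M : Ideal AlgInt}

section sums

open scoped Classical in
theorem finsum_subtype_eq_sum [Fintype G] (C : Subgroup G) (f : G → ℂ) :
    ∑ᶠ x : C, f x = ∑ x ∈ Finset.univ.filter (fun x => x ∈ C), f x := by
  rw [finsum_eq_sum_of_fintype]
  exact (Finset.sum_subtype (Finset.univ.filter (fun x => x ∈ C)) (fun x => by simp) f).symm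

open scoped Classical in
/-- The sum of a `P`-invariant local-integral function is congruent to its sum over `C(P)`. -/
theorem sum_sub_sum_centralizer [Fintype G] (hM : IsPModular p M) {P : Subgroup G}
    (hP : IsPGroup p P) (f : G → ℂ) (hf : ∀ u ∈ P, ∀ x : G, f (u * x * u⁻¹) = f x)
    (hR : ∀ x, MemLocalRing M (f x)) :
    MemLocalIdeal M ((∑ x, f x) -
      ∑ x ∈ Finset.univ.filter (fun x => x ∈ Subgroup.centralizer (P : Set G)), f x) := by
  have : Fact p.Prime := ⟨hM.1⟩
  let S : AddSubmonoid ℂ :=
    { carrier := {z | MemLocalIdeal M z}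
      zero_mem' := memI_zero hM
      add_mem' := fun ha hb => memI_add hM ha hb }
  have h := conj_sum_not_centralizer_mem hP f hf S (fun x => by
    rw [nsmul_eq_mul]
    exact memI_mul_right hM (memI_p hM) (hR x))
  rw [conj_sum_eq_sum_centralizer_add (P := P) f, add_sub_cancel_left]
  exact h

/-- A finite sum over the carrier of a conjugacy class has `centralizer.index` equal terms. -/
theorem card_class [Finite G] (g : G) :
    Nat.card {x : G | IsConj g x} = (Subgroup.centralizer ({g} : Set G)).index := by
  have h1 := Cfsg.Agent.Char.card_conjugates_mul_card_centralizer g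
  have h2 := Subgroup.index_mul_card (Subgroup.centralizer ({g} : Set G))
  exact Nat.eq_of_mul_eq_mul_right Nat.card_pos (h1.trans h2.symm)

open scoped Classical in
/-- Class functions are summed class by class. -/
theorem sum_classFun [Fintype G] {f : G → ℂ} (hf : IsClassFunction G f) :
    ∑ x, f x = ∑ c : ConjClasses G,
      ((Subgroup.centralizer ({Quotient.out c} : Set G)).index : ℂ) * f (Quotient.out c) := by
  rw [← Finset.sum_fiberwise Finset.univ ConjClasses.mk f]
  refine Finset.sum_congr rfl fun c _ => ?_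
  have hc : ConjClasses.mk (Quotient.out c) = c := Quotient.out_eq c
  have hconst : ∀ x ∈ Finset.univ.filter (fun x => ConjClasses.mk x = c), f x = f (Quotient.out c) := by
    intro x hx
    have hx' : ConjClasses.mk (Quotient.out c) = ConjClasses.mk x :=
      hc.trans (Finset.mem_filter.1 hx).2.symm
    obtain ⟨h, rfl⟩ := isConj_iff.1 (ConjClasses.mk_eq_mk_iff_isConj.1 hx')
    exact hf _ _
  rw [Finset.sum_congr rfl hconst, Finset.sum_const, nsmul_eq_mul, ← card_class,
    Nat.card_eq_fintype_card, Fintype.card_subtype]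
  congr 3
  ext x
  simp only [Finset.mem_filter, Finset.mem_univ, true_and, Set.mem_setOf_eq]
  conv_lhs => rw [← hc]
  rw [ConjClasses.mk_eq_mk_iff_isConj]
  exact isConj_comm

/-- Two class functions in one block pair congruently with a local-integral class function. -/
theorem sum_mul_sub_of_sameBlock [Fintype G] (hM : IsPModular p M) {f ξ η : G → ℂ}
    (hf : IsClassFunction G f) (hξ : IsClassFunction G ξ) (hη : IsClassFunction G η)
    (hR : ∀ x, MemLocalRing M (f x)) (h : SameBlock M ξ η) :
    MemLocalIdeal M ((∑ x, f x * ξ x / ξ 1) - ∑ x, f x * η x / η 1) := by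
  classical
  rw [← Finset.sum_sub_distrib, sum_classFun (fun g x => by simp only [hf g x, hξ g x, hη g x])]
  refine memI_sum hM _ fun c _ => ?_
  convert memI_mul_left hM (hR (Quotient.out c)) (h (Quotient.out c)) using 1
  simp only [centralChar]
  ring

end sums

section transport

variable {H : Type*} [Group H]

theorem centralizer_index_equiv (e : H ≃* G) (h : H) :
    (Subgroup.centralizer ({e h} : Set G)).index = (Subgroup.centralizer ({h} : Set H)).index := by
  rw [← Subgroup.index_comap_of_surjective _ (f := e.toMonoidHom) e.surjective]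
  congr 1
  ext x
  simp only [Subgroup.mem_comap, Subgroup.mem_centralizer_singleton_iff, MulEquiv.coe_toMonoidHom,
    ← map_mul, EmbeddingLike.apply_eq_iff_eq]

theorem centralChar_comp_equiv (e : H ≃* G) (χ : G → ℂ) (h : H) :
    centralChar (fun y => χ (e y)) h = centralChar χ (e h) := by
  simp only [centralChar, centralizer_index_equiv, map_one]

theorem sameBlock_comp_equiv (e : H ≃* G) (χ ψ : G → ℂ) :
    SameBlock M (fun y => χ (e y)) (fun y => ψ (e y)) ↔ SameBlock M χ ψ := by
  simp only [SameBlock, centralChar_comp_equiv]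
  exact ⟨fun h g => by simpa using h (e.symm g), fun h g => h (e g)⟩

variable [Finite G] [Finite H]

/-- Pull back of irreducible characters along an isomorphism. -/
def pullIrr (e : H ≃* G) (χ : IrrCharacter G) : IrrCharacter H :=
  ⟨fun y => (χ : G → ℂ) (e y), Cfsg.Agent.Char.IsIrrCharacter.comp_equiv χ.2 e⟩

omit [Finite G] [Finite H] in
theorem pullIrr_apply (e : H ≃* G) (χ : IrrCharacter G) (y : H) :
    (pullIrr e χ : H → ℂ) y = (χ : G → ℂ) (e y) := rfl

omit [Finite G] [Finite H] in
theorem pullIrr_mem_principal (e : H ≃* G) (χ : IrrCharacter G) :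
    pullIrr e χ ∈ principalBlock M H ↔ χ ∈ principalBlock M G :=
  sameBlock_comp_equiv e (fun _ => 1) (χ : G → ℂ)

omit [Finite G] [Finite H] in
theorem blockCoeff_principalBlock_equiv (e : H ≃* G) (h : H) :
    blockCoeff (principalBlock M H) h = blockCoeff (principalBlock M G) (e h) := by
  rw [blockCoeff, blockCoeff, Nat.card_congr e.toEquiv]
  congr 1
  refine (finsum_mem_eq_of_bijOn (pullIrr e) ⟨?_, ?_, ?_⟩ fun χ _ => ?_).symm
  · exact fun χ hχ => (pullIrr_mem_principal e χ).2 hχ
  · intro χ _ ψ _ he
    apply Subtype.ext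
    funext g
    simpa [pullIrr_apply] using congrArg (fun θ : IrrCharacter H => (θ : H → ℂ) (e.symm g)) he
  · intro θ hθ
    have hback : pullIrr e (pullIrr e.symm θ) = θ := by
      apply Subtype.ext
      funext y
      simp [pullIrr_apply]
    exact ⟨pullIrr e.symm θ, (pullIrr_mem_principal e _).1 (hback.symm ▸ hθ), hback⟩
  · simp [pullIrr_apply]

end transport

section principal

/-- The principal character. -/
def oneIrr (G : Type*) [Group G] : IrrCharacter G :=
  ⟨fun _ => 1, Cfsg.Agent.Char.isIrrCharacter_one⟩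

theorem sameBlock_refl (hM : IsPModular p M) (χ : G → ℂ) : SameBlock M χ χ := fun g => by
  rw [sub_self]; exact memI_zero hM

theorem oneIrr_mem_principal (hM : IsPModular p M) : oneIrr G ∈ principalBlock M G :=
  sameBlock_refl hM _

theorem isPBlock_principal : IsPBlock M (principalBlock M G) := ⟨oneIrr G, rfl⟩

theorem isClassFunction_blockCoeff (B : Set (IrrCharacter G)) :
    IsClassFunction G (blockCoeff B) := fun g h => by
  simp only [blockCoeff]
  congr 1
  refine finsum_mem_congr rfl fun χ _ => ?_
  rw [Cfsg.Agent.Char.IsIrrCharacter.isClassFunction χ.2 g h]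

/-- The augmentation of the idempotent of a block containing the principal character is one. -/
theorem sum_blockCoeff [Fintype G] {B : Set (IrrCharacter G)} (hB : oneIrr G ∈ B) :
    ∑ x, blockCoeff B x = 1 := by
  classical
  have := Fintype.ofFinite (IrrCharacter G)
  simp only [blockCoeff, finsum_mem_eq_toFinset_sum]
  rw [← Finset.mul_sum, Finset.sum_comm, Finset.mul_sum, Finset.sum_eq_single (oneIrr G)]
  · simp [oneIrr]
  · intro χ _ hne
    have h := Cfsg.Agent.Char.classInner_irr_of_ne (oneIrr G).2 χ.2
      (fun he => hne (Subtype.ext he).symm)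
    rw [classInner] at h
    rw [← Finset.mul_sum, mul_left_comm]
    simp only [oneIrr, one_mul] at h
    rw [h, mul_zero]
  · intro h
    exact absurd (Set.mem_toFinset.2 hB) h

end principal

section conjugation

variable [Finite G]

/-- Conjugation by `g` from `K` onto `K'`. -/
def conjEquiv (K K' : Subgroup G) (g : G) (h : ∀ x, x ∈ K ↔ g * x * g⁻¹ ∈ K') : K ≃* K' where
  toFun x := ⟨g * x * g⁻¹, (h x).1 x.2⟩
  invFun y := ⟨g⁻¹ * y * g, (h _).2 (by simp [mul_assoc])⟩
  left_inv x := by ext; simp [mul_assoc]
  right_inv y := by ext; simp [mul_assoc]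
  map_mul' x y := by ext; simp [mul_assoc]

theorem coe_conjEquiv (K K' : Subgroup G) (g : G) (h : ∀ x, x ∈ K ↔ g * x * g⁻¹ ∈ K') (x : K) :
    (conjEquiv K K' g h x : G) = g * x * g⁻¹ := rfl

omit [Finite G] in
theorem mem_normalizer_centralizer {Q : Subgroup G} {g : G}
    (hg : g ∈ Subgroup.normalizer (Q : Set G)) :
    g ∈ Subgroup.normalizer (Subgroup.centralizer (Q : Set G) : Set G) := by
  have key : ∀ a ∈ Subgroup.normalizer (Q : Set G), ∀ x ∈ Subgroup.centralizer (Q : Set G),
      a * x * a⁻¹ ∈ Subgroup.centralizer (Q : Set G) := by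
    intro a ha x hx
    rw [Subgroup.mem_centralizer_iff] at hx ⊢
    intro q hq
    have hq' : a⁻¹ * q * a ∈ Q := (Subgroup.mem_normalizer_iff''.1 ha q).1 hq
    calc q * (a * x * a⁻¹) = a * ((a⁻¹ * q * a) * x) * a⁻¹ := by group
      _ = a * (x * (a⁻¹ * q * a)) * a⁻¹ := by rw [hx _ hq']
      _ = a * x * a⁻¹ * q := by group
  rw [Subgroup.mem_normalizer_iff]
  intro x
  refine ⟨key g hg x, fun h => ?_⟩
  simpa [mul_assoc] using key g⁻¹ (inv_mem hg) _ h

omit [Finite G] in
theorem stabilizes_principal (K : Subgroup G) {g : G} (hg : g ∈ Subgroup.normalizer (K : Set G)) :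
    StabilizesBlock K (principalBlock M K) g := by
  refine ⟨hg, fun χ hχ => ?_⟩
  let e := conjEquiv K K g⁻¹ (fun x => Subgroup.mem_normalizer_iff.1 (inv_mem hg) x)
  refine ⟨pullIrr e χ, (pullIrr_mem_principal e χ).2 hχ, fun k k' hk => ?_⟩
  rw [pullIrr_apply]
  refine congrArg (χ : K → ℂ) (Subtype.ext ?_)
  show g⁻¹ * (k' : G) * g⁻¹⁻¹ = (k : G)
  rw [hk]
  group

omit [Finite G] in
theorem mem_centralizer_map_conj (Q : Subgroup G) (g x : G) :
    x ∈ Subgroup.centralizer (Q : Set G) ↔
      g * x * g⁻¹ ∈ Subgroup.centralizer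
        ((Q.map (MulAut.conj g).toMonoidHom : Subgroup G) : Set G) := by
  simp only [Subgroup.mem_centralizer_iff, Subgroup.coe_map, Set.forall_mem_image,
    MulEquiv.coe_toMonoidHom, MulAut.conj_apply]
  refine forall₂_congr fun q _ => ?_
  constructor
  · intro h
    calc g * q * g⁻¹ * (g * x * g⁻¹) = g * (q * x) * g⁻¹ := by group
      _ = g * x * g⁻¹ * (g * q * g⁻¹) := by rw [h]; group
  · intro h
    calc q * x = g⁻¹ * (g * q * g⁻¹ * (g * x * g⁻¹)) * g := by group
      _ = x * q := by rw [h]; group

omit [Finite G] in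
theorem conjBlock_principal (Q : Subgroup G) (g : G) :
    conjBlock Q g (principalBlock M (Subgroup.centralizer (Q : Set G))) =
      principalBlock M (Subgroup.centralizer
        ((Q.map (MulAut.conj g).toMonoidHom : Subgroup G) : Set G)) := by
  let e := conjEquiv _ _ g (mem_centralizer_map_conj Q g)
  ext ξ'
  constructor
  · rintro ⟨ξ, hξ, h⟩
    have : ξ' = pullIrr e.symm ξ := by
      apply Subtype.ext
      funext c'
      rw [pullIrr_apply]
      refine h _ c' ?_
      show (c' : G) = g * (g⁻¹ * (c' : G) * g) * g⁻¹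
      group
    rw [this]
    exact (pullIrr_mem_principal e.symm ξ).2 hξ
  · intro hξ'
    refine ⟨pullIrr e ξ', (pullIrr_mem_principal e ξ').2 hξ', fun c c' h => ?_⟩
    rw [pullIrr_apply]
    have he : e c = c' := Subtype.ext h.symm
    rw [he]

end conjugation

end Cfsg.Agent.BrauerPairs
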