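import Cfsg.Agent.EqLemmas
import Mathlib.GroupTheory.PGroup
import Mathlib.NumberTheory.Basic
import Mathlib.GroupTheory.SpecificGroups.Cyclic
import Mathlib.GroupTheory.Subgroup.Centralizer
import Mathlib.RingTheory.IntegralDomain
import Mathlib.Algebra.Field.ZMod

/-!
# Automorphisms of cyclic `p`-groups fixing an element

* `exists_pow_mem_centralizer_of_fix`: they act as `p`-elements;
* `cyclic_quotient_of_free`: a free action gives a cyclic quotient of order dividing `p - 1`.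
-/

set_option autoImplicit false

namespace Cfsg.Agent.BrauerPairs

variable {G : Type*} [Group G] [Finite G] {p : ℕ} [Fact p.Prime]

theorem exists_conj_eq_zpow {P : Subgroup G} {u : P} (hu : ∀ v : P, v ∈ Subgroup.zpowers u) {g : G}
    (hg : g ∈ Subgroup.normalizer (P : Set G)) :
    ∃ a : ℤ, g * (u : G) * g⁻¹ = (u : G) ^ a := by
  obtain ⟨a, ha⟩ := Subgroup.mem_zpowers_iff.1
    (hu ⟨g * (u : G) * g⁻¹, (Subgroup.mem_normalizer_iff.1 hg _).1 u.2⟩)
  exact ⟨a, (Subgroup.coe_zpow P u a ▸ congrArg Subtype.val ha).symm⟩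

theorem exists_pow_mem_centralizer_of_fix {P : Subgroup G} (hP : IsPGroup p P) (hcyc : IsCyclic P)
    {g x : G} (hg : g ∈ Subgroup.normalizer (P : Set G)) (hx : x ∈ P) (hx1 : x ≠ 1)
    (hfix : g * x * g⁻¹ = x) :
    ∃ k : ℕ, g ^ (p ^ k) ∈ Subgroup.centralizer (P : Set G) := by
  obtain ⟨u, hu⟩ := hcyc.exists_generator
  obtain ⟨a, ha⟩ := exists_conj_eq_zpow hu hg
  obtain ⟨b, hb⟩ := Subgroup.mem_zpowers_iff.1 (hu ⟨x, hx⟩)
  have hb' : (u : G) ^ b = x := by rw [← Subgroup.coe_zpow, hb]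
  obtain ⟨n, hn⟩ := hP u
  have hconj : ∀ z : ℤ, g * (u : G) ^ z * g⁻¹ = (u : G) ^ (a * z) := fun z => by
    rw [zpow_mul, ← ha, ← conj_zpow]
  obtain ⟨k, -, hk⟩ := (Nat.dvd_prime_pow (Fact.out : p.Prime)).1
    (orderOf_dvd_of_pow_eq_one (show (u : G) ^ (p ^ n) = 1 by
      rw [← Subgroup.coe_pow, hn, Subgroup.coe_one]))
  have hab : ((p : ℤ) ^ k) ∣ (a - 1) * b := by
    have h : ((orderOf (u : G) : ℕ) : ℤ) ∣ (a - 1) * b := by
      rw [orderOf_dvd_iff_zpow_eq_one, sub_mul, one_mul, zpow_sub, ← hconj, hb', hfix,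
        mul_inv_cancel]
    rwa [hk, Nat.cast_pow] at h
  have hpa : (p : ℤ) ∣ a - 1 := by
    by_contra hno
    refine hx1 ?_
    have hcop : IsCoprime ((p : ℤ) ^ k) (a - 1) :=
      ((Nat.prime_iff_prime_int.1 (Fact.out : p.Prime)).coprime_iff_not_dvd.2 hno).pow_left
    rw [← hb', ← orderOf_dvd_iff_zpow_eq_one, hk, Nat.cast_pow]
    exact hcop.dvd_of_dvd_mul_left hab
  have hit : ∀ j : ℕ, g ^ j * (u : G) * (g ^ j)⁻¹ = (u : G) ^ (a ^ j) := by
    intro j
    induction j with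
    | zero => simp
    | succ j ih =>
      rw [pow_succ' g, show g * g ^ j * (u : G) * (g * g ^ j)⁻¹ =
        g * (g ^ j * (u : G) * (g ^ j)⁻¹) * g⁻¹ by group, ih, hconj, ← pow_succ']
  refine ⟨k, Subgroup.mem_centralizer_iff.2 fun y hy => ?_⟩
  obtain ⟨c, hc⟩ := Subgroup.mem_zpowers_iff.1 (hu ⟨y, hy⟩)
  have hc' : (u : G) ^ c = y := by rw [← Subgroup.coe_zpow, hc]
  have hmod := dvd_sub_pow_of_dvd_sub (R := ℤ) (p := p) (b := 1) hpa k
  rw [one_pow] at hmod
  have hu1 : (u : G) ^ (a ^ (p ^ k) - 1) = 1 := by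
    rw [← orderOf_dvd_iff_zpow_eq_one, hk, Nat.cast_pow]
    exact (pow_dvd_pow _ k.le_succ).trans hmod
  have hgu : g ^ (p ^ k) * (u : G) * (g ^ (p ^ k))⁻¹ = (u : G) := by
    rw [hit, ← sub_add_cancel (a ^ (p ^ k)) 1, zpow_add, hu1, one_mul, zpow_one]
  rw [← hc']
  exact ((Commute.zpow_right (mul_inv_eq_iff_eq_mul.1 hgu : Commute (g ^ (p ^ k)) (u : G)) c)).symm

theorem cyclic_quotient_of_free {P T : Subgroup G} (hP : IsPGroup p P) (hcyc : IsCyclic P)
    (hP1 : P ≠ ⊥) (hT : T ≤ Subgroup.normalizer (P : Set G))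
    [((Subgroup.centralizer (P : Set G)).subgroupOf T).Normal]
    (hfree : ∀ g ∈ T, ∀ x ∈ P, x ≠ 1 → g * x * g⁻¹ = x →
      g ∈ Subgroup.centralizer (P : Set G)) :
    IsCyclic (T ⧸ (Subgroup.centralizer (P : Set G)).subgroupOf T) ∧
      (Subgroup.centralizer (P : Set G)).relIndex T ∣ p - 1 := by
  have hp : p.Prime := Fact.out
  obtain ⟨u, hu⟩ := hcyc.exists_generator
  have hne : orderOf u ≠ 1 := fun h => hP1 ((Subgroup.eq_bot_iff_forall P).2 fun x hx => by
    obtain ⟨z, hz⟩ := Subgroup.mem_zpowers_iff.1 (hu ⟨x, hx⟩)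
    rw [orderOf_eq_one_iff.1 h, one_zpow] at hz
    exact (congrArg Subtype.val hz).symm)
  obtain ⟨n, hn⟩ := IsPGroup.iff_orderOf.1 hP u
  have hn0 : n ≠ 0 := fun h => hne (by rw [hn, h, pow_zero])
  set w : G := (u : G) ^ (p ^ (n - 1)) with hw
  have hwP : w ∈ P := P.pow_mem u.2 _
  have how : orderOf w = p := by
    rw [hw, orderOf_pow, Subgroup.orderOf_coe, hn, Nat.gcd_eq_right (pow_dvd_pow p (Nat.sub_le n 1)),
      Nat.pow_div (Nat.sub_le n 1) hp.pos, Nat.sub_sub_self (Nat.one_le_iff_ne_zero.2 hn0), pow_one]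
  have hw1 : w ≠ 1 := fun h => hp.one_lt.ne' (by rw [← how, h, orderOf_one])
  have hnorm : T ≤ Subgroup.normalizer ((Subgroup.zpowers w : Subgroup G) : Set G) := by
    intro g hg
    have hmem : ∀ g' ∈ T, ∀ y ∈ Subgroup.zpowers w, g' * y * g'⁻¹ ∈ Subgroup.zpowers w := by
      intro g' hg' y hy
      obtain ⟨a, ha⟩ := exists_conj_eq_zpow hu (hT hg')
      obtain ⟨z, rfl⟩ := Subgroup.mem_zpowers_iff.1 hy
      refine Subgroup.mem_zpowers_iff.2 ⟨a * z, ?_⟩
      rw [← conj_zpow, zpow_mul]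
      congr 1
      rw [hw, ← conj_pow, ha, ← zpow_natCast, ← zpow_natCast, ← zpow_mul, ← zpow_mul, mul_comm]
    rw [Subgroup.mem_normalizer_iff]
    refine fun y => ⟨hmem g hg y, fun h => ?_⟩
    have := hmem g⁻¹ (T.inv_mem hg) _ h
    simpa [mul_assoc] using this
  let ψ : T →* MulAut (Subgroup.zpowers w) :=
    (Subgroup.normalizerMonoidHom (Subgroup.zpowers w)).comp (Subgroup.inclusion hnorm)
  have hker : ψ.ker = (Subgroup.centralizer (P : Set G)).subgroupOf T := by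
    ext g
    rw [MonoidHom.mem_ker, MonoidHom.comp_apply, ← MonoidHom.mem_ker,
      Subgroup.normalizerMonoidHom_ker, Subgroup.mem_subgroupOf, Subgroup.mem_subgroupOf]
    show (g : G) ∈ Subgroup.centralizer _ ↔ _
    constructor
    · intro h
      refine hfree g g.2 w hwP hw1 ?_
      rw [← Subgroup.mem_centralizer_iff.1 h w (Subgroup.mem_zpowers w), mul_inv_cancel_right]
    · exact fun h => Subgroup.centralizer_le (Subgroup.zpowers_le.2 hwP) h
  have hcard : Nat.card (Subgroup.zpowers w) = p := by rw [Nat.card_zpowers, how]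
  have hA : IsCyclic (MulAut (Subgroup.zpowers w)) ∧
      Nat.card (MulAut (Subgroup.zpowers w)) = p - 1 := by
    have e := IsCyclic.mulAutMulEquiv (Subgroup.zpowers w)
    rw [hcard] at e
    refine ⟨isCyclic_of_injective e.toMonoidHom e.injective, ?_⟩
    rw [Nat.card_congr e.toEquiv, Nat.card_eq_fintype_card, ZMod.card_units_eq_totient,
      Nat.totient_prime hp]
  obtain ⟨hA1, hA2⟩ := hA
  have hinj : Function.Injective (QuotientGroup.kerLift ψ) := QuotientGroup.kerLift_injective ψ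
  refine ⟨isCyclic_of_injective ((QuotientGroup.kerLift ψ).comp
    (QuotientGroup.quotientMulEquivOfEq hker.symm).toMonoidHom)
    (hinj.comp (MulEquiv.injective _)), ?_⟩
  show ((Subgroup.centralizer (P : Set G)).subgroupOf T).index ∣ p - 1
  rw [← hker, Subgroup.index_ker, ← hA2]
  exact Subgroup.card_subgroup_dvd_card _

end Cfsg.Agent.BrauerPairs
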