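import Cfsg.Agent.Lib.Blocks.Osima

/-!
# Reduction modulo the maximal ideal

* `Res M = AlgInt ⧸ M`, `res M : ℂ → Res M` (reduction of local integers, junk elsewhere) with
  `res_add`, `res_mul`, `res_sub`, `res_sum`, `res_eq_zero_iff`, `res_eq_iff`;
* `red M f : MonoidAlgebra (Res M) G`, the reduction of a coefficient function, with `coeff_red`,
  `red_conv` (multiplicative), `red_eq_iff`;
* `lift M a`, a local-integral coefficient function reducing to `a`.
-/

set_option autoImplicit false

namespace Cfsg.Agent.BrauerPairs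

open Cfsg Cfsg.Agent.Blocks

/-- The residue ring at `M`. -/
abbrev Res (M : Ideal AlgInt) : Type := AlgInt ⧸ M

variable {p : ℕ} {M : Ideal AlgInt}

theorem res_nontrivial (hM : IsPModular p M) : Nontrivial (Res M) :=
  Ideal.Quotient.nontrivial_iff.2 hM.2.1.ne_top

theorem res_isDomain (hM : IsPModular p M) : IsDomain (Res M) :=
  have := pmod_isPrime hM
  Ideal.Quotient.isDomain M

theorem res_exists_inv (hM : IsPModular p M) {a : Res M} (ha : a ≠ 0) : ∃ b, a * b = 1 :=
  have := hM.2.1
  Ideal.Quotient.exists_inv ha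

theorem res_isUnit (hM : IsPModular p M) {a : Res M} (ha : a ≠ 0) : IsUnit a :=
  let ⟨b, hb⟩ := res_exists_inv hM ha
  IsUnit.of_mul_eq_one b hb

theorem res_charP (hM : IsPModular p M) : CharP (Res M) p := by
  have := res_nontrivial hM
  refine (CharP.charP_iff_prime_eq_zero hM.1).2 ?_
  rw [← map_natCast (Ideal.Quotient.mk M), Ideal.Quotient.eq_zero_iff_mem]
  exact hM.2.2

open scoped Classical in
/-- Reduction of a local integer; zero elsewhere. -/
noncomputable def res (M : Ideal AlgInt) (z : ℂ) : Res M :=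
  if h : MemLocalRing M z then
    Ideal.Quotient.mk M h.choose * Ring.inverse (Ideal.Quotient.mk M h.choose_spec.choose)
  else 0

theorem isUnit_mk (hM : IsPModular p M) {b : AlgInt} (hb : b ∉ M) :
    IsUnit (Ideal.Quotient.mk M b) :=
  res_isUnit hM fun h => hb (Ideal.Quotient.eq_zero_iff_mem.1 h)

/-- Reduction does not depend on the chosen fraction. -/
theorem res_div (hM : IsPModular p M) {a b : AlgInt} (hb : b ∉ M) :
    res M ((a : ℂ) / (b : ℂ)) * Ideal.Quotient.mk M b = Ideal.Quotient.mk M a := by
  have h : MemLocalRing M ((a : ℂ) / (b : ℂ)) := ⟨a, b, hb, rfl⟩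
  rw [res, dif_pos h]
  have h2 := h.choose_spec.choose_spec
  have hd := h2.1
  have e : h.choose * b = a * h.choose_spec.choose := by
    apply Subtype.ext
    have := h2.2
    rw [div_eq_div_iff (pmod_ne_zero hd) (pmod_ne_zero hb)] at this
    push_cast
    exact this
  have e' := congrArg (Ideal.Quotient.mk M) e
  rw [map_mul, map_mul] at e'
  rw [mul_right_comm, e', mul_assoc, Ring.mul_inverse_cancel _ (isUnit_mk hM hd), mul_one]

theorem res_coe (hM : IsPModular p M) (a : AlgInt) : res M (a : ℂ) = Ideal.Quotient.mk M a := by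
  have := res_div hM (a := a) (pmod_one_notMem hM)
  simpa using this

theorem res_zero (hM : IsPModular p M) : res M 0 = 0 := by
  simpa using res_coe hM 0

theorem res_one (hM : IsPModular p M) : res M 1 = 1 := by
  simpa using res_coe hM 1

theorem res_natCast (hM : IsPModular p M) (n : ℕ) : res M (n : ℂ) = (n : Res M) := by
  simpa using res_coe hM (n : AlgInt)

theorem res_add (hM : IsPModular p M) {x y : ℂ} (hx : MemLocalRing M x) (hy : MemLocalRing M y) :
    res M (x + y) = res M x + res M y := by
  obtain ⟨a, b, hb, rfl⟩ := hx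
  obtain ⟨c, d, hd, rfl⟩ := hy
  refine (isUnit_mk hM (pmod_mul_notMem hM hb hd)).mul_left_injective ?_
  dsimp only
  have e : (a : ℂ) / b + (c : ℂ) / d = ((a * d + b * c : AlgInt) : ℂ) / ((b * d : AlgInt) : ℂ) := by
    rw [div_add_div _ _ (pmod_ne_zero hb) (pmod_ne_zero hd)]
    push_cast
    rfl
  rw [e, res_div hM (pmod_mul_notMem hM hb hd), map_add, map_mul, map_mul, ← res_div hM (a := a) hb,
    ← res_div hM (a := c) hd, map_mul]
  ring

theorem res_mul (hM : IsPModular p M) {x y : ℂ} (hx : MemLocalRing M x) (hy : MemLocalRing M y) :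
    res M (x * y) = res M x * res M y := by
  obtain ⟨a, b, hb, rfl⟩ := hx
  obtain ⟨c, d, hd, rfl⟩ := hy
  refine (isUnit_mk hM (pmod_mul_notMem hM hb hd)).mul_left_injective ?_
  dsimp only
  have e : (a : ℂ) / b * ((c : ℂ) / d) = ((a * c : AlgInt) : ℂ) / ((b * d : AlgInt) : ℂ) := by
    rw [div_mul_div_comm]
    push_cast
    rfl
  rw [e, res_div hM (pmod_mul_notMem hM hb hd), map_mul, ← res_div hM (a := a) hb,
    ← res_div hM (a := c) hd, map_mul]
  ring

theorem res_eq_zero_iff (hM : IsPModular p M) {x : ℂ} (hx : MemLocalRing M x) :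
    res M x = 0 ↔ MemLocalIdeal M x := by
  obtain ⟨a, b, hb, rfl⟩ := hx
  rw [← (isUnit_mk hM hb).mul_left_eq_zero, res_div hM hb, Ideal.Quotient.eq_zero_iff_mem]
  constructor
  · exact fun ha => ⟨a, b, ha, hb, rfl⟩
  · intro h
    have := memI_mul_right hM h (memR_coe hM b)
    rw [div_mul_cancel₀ _ (pmod_ne_zero hb)] at this
    exact (memI_coe hM).1 this

theorem res_neg (hM : IsPModular p M) {x : ℂ} (hx : MemLocalRing M x) : res M (-x) = -res M x := by
  rw [eq_neg_iff_add_eq_zero, ← res_add hM (memR_neg hx) hx, neg_add_cancel, res_zero hM]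

theorem res_sub (hM : IsPModular p M) {x y : ℂ} (hx : MemLocalRing M x) (hy : MemLocalRing M y) :
    res M (x - y) = res M x - res M y := by
  rw [sub_eq_add_neg, res_add hM hx (memR_neg hy), res_neg hM hy, sub_eq_add_neg]

theorem res_eq_iff (hM : IsPModular p M) {x y : ℂ} (hx : MemLocalRing M x) (hy : MemLocalRing M y) :
    res M x = res M y ↔ MemLocalIdeal M (x - y) := by
  rw [← res_eq_zero_iff hM (memR_sub hM hx hy), res_sub hM hx hy, sub_eq_zero]

theorem res_sum (hM : IsPModular p M) {ι : Type*} (s : Finset ι) {f : ι → ℂ}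
    (h : ∀ i ∈ s, MemLocalRing M (f i)) : res M (∑ i ∈ s, f i) = ∑ i ∈ s, res M (f i) := by
  classical
  induction s using Finset.induction_on with
  | empty => simp [res_zero hM]
  | insert i s his ih =>
    rw [Finset.sum_insert his, Finset.sum_insert his,
      res_add hM (h i (Finset.mem_insert_self i s))
        (memR_sum hM s fun j hj => h j (Finset.mem_insert_of_mem hj)),
      ih fun j hj => h j (Finset.mem_insert_of_mem hj)]

theorem res_eq_one_iff (hM : IsPModular p M) {x : ℂ} (hx : MemLocalRing M x) :
    res M x = 1 ↔ MemLocalIdeal M (x - 1) := by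
  rw [← res_eq_iff hM hx (memR_one hM), res_one hM]

/-- A representative of a residue. -/
noncomputable def unres (a : Res M) : ℂ :=
  (((Ideal.Quotient.mk_surjective a).choose : AlgInt) : ℂ)

theorem memR_unres (hM : IsPModular p M) (a : Res M) : MemLocalRing M (unres a) := memR_coe hM _

theorem res_unres (hM : IsPModular p M) (a : Res M) : res M (unres a) = a := by
  rw [unres, res_coe hM]
  exact (Ideal.Quotient.mk_surjective a).choose_spec

section algebra

variable {G : Type*} [Group G] [Finite G]

/-- The reduction of a coefficient function. -/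
noncomputable def red (M : Ideal AlgInt) (f : G → ℂ) : MonoidAlgebra (Res M) G :=
  MonoidAlgebra.ofCoeff (Finsupp.equivFunOnFinite.symm fun x => res M (f x))

theorem coeff_red (f : G → ℂ) (x : G) : (red M f).coeff x = res M (f x) := rfl

/-- A coefficient function lifting an element of the reduced group algebra. -/
noncomputable def lift (a : MonoidAlgebra (Res M) G) : G → ℂ := fun x => unres (a.coeff x)

theorem memR_lift (hM : IsPModular p M) (a : MonoidAlgebra (Res M) G) (x : G) :
    MemLocalRing M (lift a x) := memR_unres hM _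

theorem red_lift (hM : IsPModular p M) (a : MonoidAlgebra (Res M) G) : red M (lift a) = a := by
  ext x
  exact res_unres hM _

theorem red_eq_iff (hM : IsPModular p M) {f f' : G → ℂ} (hf : ∀ x, MemLocalRing M (f x))
    (hf' : ∀ x, MemLocalRing M (f' x)) :
    red M f = red M f' ↔ ∀ x, MemLocalIdeal M (f x - f' x) := by
  constructor
  · intro h x
    rw [← res_eq_iff hM (hf x) (hf' x), ← coeff_red, ← coeff_red, h]
  · intro h
    ext x
    rw [coeff_red, coeff_red, res_eq_iff hM (hf x) (hf' x)]
    exact h x

theorem red_add (hM : IsPModular p M) {f f' : G → ℂ} (hf : ∀ x, MemLocalRing M (f x))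
    (hf' : ∀ x, MemLocalRing M (f' x)) : red M (f + f') = red M f + red M f' := by
  ext x
  rw [MonoidAlgebra.coeff_add, Finsupp.add_apply]
  simp only [coeff_red, Pi.add_apply, res_add hM (hf x) (hf' x)]

open scoped Classical in
theorem red_one (hM : IsPModular p M) :
    red M (fun x : G => if x = 1 then (1 : ℂ) else 0) = 1 := by
  ext x
  rw [coeff_red, MonoidAlgebra.one_def, MonoidAlgebra.coeff_single, Finsupp.single_apply]
  split_ifs with h h' <;> simp_all [res_one hM, res_zero hM]

theorem coeff_mul_eq_sum {k : Type*} [Semiring k] [Fintype G] (a b : MonoidAlgebra k G) (x : G) :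
    (a * b).coeff x = ∑ y, a.coeff y * b.coeff (y⁻¹ * x) := by
  rw [MonoidAlgebra.coeff_mul_apply_left, Finsupp.sum_fintype]
  intro y
  simp

theorem red_conv (hM : IsPModular p M) {f f' : G → ℂ} (hf : ∀ x, MemLocalRing M (f x))
    (hf' : ∀ x, MemLocalRing M (f' x)) : red M (conv f f') = red M f * red M f' := by
  have := Fintype.ofFinite G
  ext x
  rw [coeff_red, conv_eq_sum, coeff_mul_eq_sum,
    res_sum hM _ fun y _ => memR_mul hM (hf y) (hf' _)]
  simp only [coeff_red, res_mul hM (hf _) (hf' _)]

end algebra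

end Cfsg.Agent.BrauerPairs
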