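import Cfsg.Agent.Lib.BrauerPairs.LocalFusion

/-!
# The Brauer correspondence over a subgroup containing a normaliser

* `mul_br_blk_of_defect`, `mul_br_bIdem_of_defect`;
* `exists_sub_correspondent`, `exists_sup_correspondent`.
-/

set_option autoImplicit false

namespace Cfsg.Agent.BrauerPairs

open Cfsg Cfsg.Agent.Blocks

variable {G : Type*} [Group G] [Finite G] {p : ℕ} {M : Ideal AlgInt}
  (hM : IsPModular p M) [Fact p.Prime]
include hM

theorem exists_pair_of_defectGroup {B : Set (IrrCharacter G)} (hB : IsPBlock M B) {P : Subgroup G}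
    (hP : IsDefectGroup p M B P) :
    ∃ e : Set (IrrCharacter (Subgroup.centralizer (P : Set G))),
      IsBrauerPairOf p M B P e := by
  have hPp := isPGroup_defectGroup hM hP
  obtain ⟨e, he, hle⟩ := exists_block_le hM (br_blk_central hM P B) (br_blk_mul_self hM hPp hB)
    (br_defectGroup_ne_zero hM hP)
  exact ⟨e, (isBrauerPairOf_iff hM).2 ⟨⟨hPp, he⟩, hB, hle⟩⟩

/-- A `N(P)`-stable idempotent over one pair of `B` on a defect group `P` lies over `br P B`. -/
theorem mul_br_blk_of_defect {B : Set (IrrCharacter G)} {P : Subgroup G}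
    (hP : IsDefectGroup p M B P) {e : Set (IrrCharacter (Subgroup.centralizer (P : Set G)))}
    (he : IsBrauerPairOf p M B P e) {y : MonoidAlgebra (Res M) G}
    (hyN : Fixed (Subgroup.normalizer (P : Set G)) y)
    (hye : y * cb M P e = cb M P e) : y * br P (blk M B) = br P (blk M B) := by
  classical
  obtain ⟨⟨hPp, -⟩, hB, -⟩ := (isBrauerPairOf_iff hM).1 he
  conv_lhs => rw [← mul_one (br P (blk M B)), ← sum_bIdem hM (Subgroup.centralizer (P : Set G))]
  conv_rhs => rw [← mul_one (br P (blk M B)), ← sum_bIdem hM (Subgroup.centralizer (P : Set G))]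
  rw [Finset.mul_sum, Finset.mul_sum]
  refine Finset.sum_congr rfl fun e' he' => ?_
  rcases mul_bIdem_cases hM (br_blk_central hM P B) (br_blk_mul_self hM hPp hB)
    (mem_blocks.1 he') with h | h
  · rw [h]
    obtain ⟨n, hn, hidx⟩ := maximal_conj_of_same_subgroup hM (isMaximal_of_isDefectGroup hM he hP)
      ((isBrauerPairOf_iff hM).2 ⟨⟨hPp, mem_blocks.1 he'⟩, hB, h⟩)
    have hcj : cj n (cb M P e) = bIdem M (Subgroup.centralizer (P : Set G)) e' := by
      rw [cj_cb hM]
      exact cb_congr hidx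
    rw [← hcj]
    conv_lhs => rw [← hyN n hn, ← map_mul, hye]
  · rw [h, mul_zero]

/-- The same in a subgroup `H ⊇ N(P)`. -/
theorem mul_br_bIdem_of_defect {P H : Subgroup G} (hH : Subgroup.normalizer (P : Set G) ≤ H)
    {c : Set (IrrCharacter H)} (hc : IsPBlock M c) (hP : IsDefectGroup p M c (P.subgroupOf H))
    {e : Set (IrrCharacter (Subgroup.centralizer (P : Set G)))} (he : IsPBlock M e)
    (hce : br P (bIdem M H c) * cb M P e = cb M P e) {y : MonoidAlgebra (Res M) G}
    (hy : SuppIn (Subgroup.centralizer (P : Set G)) y)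
    (hyN : Fixed (Subgroup.normalizer (P : Set G)) y) (hye : y * cb M P e = cb M P e) :
    y * br P (bIdem M H c) = br P (bIdem M H c) := by
  have hPH : P ≤ H := Subgroup.le_normalizer.trans hH
  have hCH : Subgroup.centralizer (P : Set G) ≤ H :=
    (centralizer_le_normalizer hM P).trans hH
  obtain ⟨P', rfl⟩ : ∃ P' : Subgroup H, P = P'.map H.subtype :=
    ⟨P.subgroupOf H, (Subgroup.map_subgroupOf_eq_of_le hPH).symm⟩
  rw [show (P'.map H.subtype).subgroupOf H = P' from
    Subgroup.comap_map_eq_self_of_injective H.subtype_injective P'] at hP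
  obtain ⟨e', he', rfl⟩ := exists_upBlock hM P' hCH he
  have hy' : emb H (pull H y) = y := emb_pull fun x hx => hy x fun h => hx (hCH h)
  have hpair : IsBrauerPairOf p M c P' e' :=
    (isBrauerPairOf_sub_iff hM P' hCH hc he').2 ⟨(isPGroup_defectGroup hM hP).map _, hce⟩
  have h := mul_br_blk_of_defect hM hP hpair (y := pull H y) (fun u hu => emb_injective H (by
      rw [emb_cj, hy', hyN _ ((mem_normalizer_sub_iff hM P' u).1 hu)])) (emb_injective H (by
      rw [map_mul, hy', emb_cb hM P' hCH, hye]))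
  have := congrArg (emb H) h
  rwa [map_mul, hy', emb_br] at this

theorem br_bIdem_fixed_normalizer {P H : Subgroup G} (hH : Subgroup.normalizer (P : Set G) ≤ H)
    (c : Set (IrrCharacter H)) :
    Fixed (Subgroup.normalizer (P : Set G)) (br P (bIdem M H c)) :=
  Fixed.br ((bIdem_central H c).2.mono hH) le_rfl

theorem br_eq_of_common_pair {B : Set (IrrCharacter G)} {P H : Subgroup G}
    (hH : Subgroup.normalizer (P : Set G) ≤ H) (hBP : IsDefectGroup p M B P)
    {c : Set (IrrCharacter H)} (hc : IsPBlock M c) (hcP : IsDefectGroup p M c (P.subgroupOf H))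
    {e : Set (IrrCharacter (Subgroup.centralizer (P : Set G)))}
    (he : IsBrauerPairOf p M B P e) (hce : br P (bIdem M H c) * cb M P e = cb M P e) :
    br P (blk M B) = br P (bIdem M H c) := by
  have := Fintype.ofFinite G
  obtain ⟨⟨-, he1⟩, -, hBe⟩ := (isBrauerPairOf_iff hM).1 he
  have h1 := mul_br_blk_of_defect hM hBP he (br_bIdem_fixed_normalizer hM hH c) hce
  have h2 := mul_br_bIdem_of_defect hM hH hc hcP he1 hce (suppIn_br P _)
    (Fixed.br ((fixed_blk B).mono le_top) le_rfl) hBe
  rw [← h1]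
  conv_rhs => rw [← h2]
  exact (br_bIdem_central hM ((centralizer_le_normalizer hM P).trans hH) c).2.commute
    (suppIn_br P _)

/-- The correspondent in `H ⊇ N(P)` of a block of `G` with defect group `P`. -/
theorem exists_sub_correspondent {B : Set (IrrCharacter G)} (hB : IsPBlock M B) {P H : Subgroup G}
    (hH : Subgroup.normalizer (P : Set G) ≤ H) (hBP : IsDefectGroup p M B P) :
    ∃ c : Set (IrrCharacter H), IsPBlock M c ∧ IsDefectGroup p M c (P.subgroupOf H) ∧
      br P (blk M B) = br P (bIdem M H c) := by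
  obtain ⟨e, he⟩ := exists_pair_of_defectGroup hM hB hBP
  have hPH : P ≤ H := Subgroup.le_normalizer.trans hH
  obtain ⟨P', rfl⟩ : ∃ P' : Subgroup H, P = P'.map H.subtype :=
    ⟨P.subgroupOf H, (Subgroup.map_subgroupOf_eq_of_le hPH).symm⟩
  have hP' : (P'.map H.subtype).subgroupOf H = P' :=
    Subgroup.comap_map_eq_self_of_injective H.subtype_injective P'
  have hCH : Subgroup.centralizer ((P'.map H.subtype : Subgroup G) : Set G) ≤ H :=
    (centralizer_le_normalizer hM _).trans hH
  obtain ⟨e', he', rfl⟩ := exists_upBlock hM P' hCH he.1.2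
  have hPe' : IsBrauerPair p M P' e' := ⟨(he.1.1).of_equiv
    (Subgroup.equivMapOfInjective P' H.subtype H.subtype_injective).symm, he'⟩
  obtain ⟨c, hce, -⟩ := existsUnique_block_of_pair hM hPe'
  have hc : IsPBlock M c := hce.2.1
  obtain ⟨D, g, hmax, hle⟩ := exists_maximal_ge hM hce
  have hD := maximal_isDefectGroup hM hmax
  have hP'D : P' ≤ D :=
    subgroup_le_of_subpairLE (a := (⟨P', e'⟩ : BrauerPairIdx H)) (b := ⟨D, g⟩) hle
  have hup := (isBrauerPairOf_iff_of_le hM hB (subpairLE_up hM hCH hle)).2 he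
  obtain ⟨-, -, hgB⟩ := (isBrauerPairOf_iff hM).1 hup
  have hcard : Nat.card D ≤ Nat.card P' := by
    have h := card_le_of_br_ne_zero hM hB hup.1.1 (fun h0 => bIdem_ne_zero hM hup.1.2 (by
      rw [h0, zero_mul] at hgB; exact hgB.symm)) hBP
    rwa [Subgroup.card_map_of_injective H.subtype_injective,
      Subgroup.card_map_of_injective H.subtype_injective] at h
  obtain rfl := Subgroup.eq_of_le_of_card_ge hP'D hcard
  refine ⟨c, hc, by rw [hP']; exact hD, br_eq_of_common_pair hM hH hBP hc
    (by rw [hP']; exact hD) he ?_⟩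
  exact ((isBrauerPairOf_sub_iff hM P' hCH hc he').1 hce).2

/-- The correspondent in `G` of a block of `H ⊇ N(P)` with defect group `P`. -/
theorem exists_sup_correspondent {P H : Subgroup G} (hH : Subgroup.normalizer (P : Set G) ≤ H)
    {c : Set (IrrCharacter H)} (hc : IsPBlock M c) (hcP : IsDefectGroup p M c (P.subgroupOf H)) :
    ∃ B : Set (IrrCharacter G), IsPBlock M B ∧ IsDefectGroup p M B P ∧
      br P (blk M B) = br P (bIdem M H c) := by
  have := res_charP hM
  have := Fintype.ofFinite G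
  have hPH : P ≤ H := Subgroup.le_normalizer.trans hH
  have hPp : IsPGroup p P :=
    (isPGroup_defectGroup hM hcP).of_equiv (Subgroup.subgroupOfEquivOfLe hPH)
  have hCH := (centralizer_le_normalizer hM P).trans hH
  have hne := sub_br_defectGroup_ne_zero hM hcP
  rw [Subgroup.map_subgroupOf_eq_of_le hPH] at hne
  have hfix : Fixed P (bIdem M H c) := (bIdem_central H c).2.mono hPH
  obtain ⟨e, he, hce⟩ := exists_block_le hM (br_bIdem_central hM hCH c)
    (br_bIdem_mul_self hM hPp hc hfix) hne
  obtain ⟨B, hBe, -⟩ := existsUnique_block_of_pair hM (⟨hPp, he⟩ : IsBrauerPair p M P e)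
  have hB : IsPBlock M B := hBe.2.1
  suffices hBP : IsDefectGroup p M B P from
    ⟨B, hB, hBP, br_eq_of_common_pair hM hH hBP hc hcP hBe hce⟩
  obtain ⟨D, g, hmax, hle⟩ := exists_maximal_ge hM hBe
  have hPD : P ≤ D := subgroup_le_of_subpairLE (a := (⟨P, e⟩ : BrauerPairIdx G)) (b := ⟨D, g⟩) hle
  rcases eq_or_lt_of_le hPD with rfl | hlt
  · exact maximal_isDefectGroup hM hmax
  exfalso
  have hDp : IsPGroup p D := hmax.1.1.1
  obtain ⟨h, hPh, hRh, -⟩ := subpair_between hM hmax.1.1 hle
    (lt_inf_normalizer hDp hlt).le inf_le_left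
  have hRp : IsPGroup p (D ⊓ Subgroup.normalizer (P : Set G) : Subgroup G) := hDp.to_le inf_le_left
  obtain ⟨-, ⟨-, hh⟩, hPR, hRN, hfixe, hle'⟩ := (isNormalSubpair_iff hM).1
    (normalSubpair_of_le hM ⟨hRp, hPh⟩ hRh inf_le_right)
  have hRH : (D ⊓ Subgroup.normalizer (P : Set G) : Subgroup G) ≤ H := inf_le_right.trans hH
  have hbrR : br (D ⊓ Subgroup.normalizer (P : Set G)) (bIdem M H c) ≠ 0 := fun h0 =>
    bIdem_ne_zero hM hh (by
      show cb M _ h = 0
      have hyR : Fixed (D ⊓ Subgroup.normalizer (P : Set G)) (br P (bIdem M H c)) :=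
        Fixed.br ((bIdem_central H c).2.mono hRH) inf_le_right
      rw [← hle', show cb M P e = br P (bIdem M H c) * cb M P e from hce.symm,
        br_mul (p := p) hRp hyR hfixe, br_br hPR, h0, zero_mul, zero_mul])
  have hcard := sub_card_le_of_br_ne_zero hM hc hRH hRp hbrR hcP
  rw [Nat.card_congr (Subgroup.subgroupOfEquivOfLe hPH).toEquiv] at hcard
  exact (lt_inf_normalizer hDp hlt).ne
    (Subgroup.eq_of_le_of_card_ge (lt_inf_normalizer hDp hlt).le hcard)

end Cfsg.Agent.BrauerPairs
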