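import Cfsg.Agent.Lib.BrauerPairs.NilpotentFusion

/-!
# Blocks with abelian defect groups

* `inf_normalizer_le_pairStab`: `N_G(P, e) ∩ N(Q)` fixes the pair on `Q` below `(P, e)`;
* `abelian_decomp`: for abelian `P` the stabiliser of a subpair is `C(Q)` times that of `(P, e)`.
-/

set_option autoImplicit false

namespace Cfsg.Agent.BrauerPairs

open Cfsg Cfsg.Agent.Blocks

variable {G : Type*} [Group G] [Finite G] {p : ℕ} {M : Ideal AlgInt}
variable (hM : IsPModular p M) [Fact p.Prime]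
include hM

theorem conjIdx_eq_self_of_mem_pairStab {Q : Subgroup G}
    {f : Set (IrrCharacter (Subgroup.centralizer (Q : Set G)))} (hf : IsPBlock M f) {x : G}
    (hx : x ∈ pairStab M Q f) : conjIdx x (⟨Q, f⟩ : BrauerPairIdx G) = ⟨Q, f⟩ := by
  refine idx_ext hM (conjSub_eq_self_iff.2 hx.1) (isPBlock_conjBlock _ _ hf) hf ?_
  show cb M (conjSub x Q) (conjBlock Q x f) = cb M Q f
  rw [← cj_cb hM, hx.2]

theorem inf_normalizer_le_pairStab {P Q : Subgroup G}
    {e : Set (IrrCharacter (Subgroup.centralizer (P : Set G)))}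
    {f : Set (IrrCharacter (Subgroup.centralizer (Q : Set G)))}
    (hPe : IsBrauerPair p M P e) (hf : IsPBlock M f) (hle : SubpairLE p M Q f P e) {y : G}
    (hy : y ∈ pairStab M P e) (hyN : y ∈ Subgroup.normalizer (Q : Set G)) :
    y ∈ pairStab M Q f := by
  have hmem := mem_normalizer_centralizer hyN
  have hb : IsPBlock M (conjImg _ _ y (mem_normalizer_iff_conj hmem) f) := isPBlock_conjImg _ hf
  have hcj : cj y (cb M Q f) = cb M Q (conjImg _ _ y (mem_normalizer_iff_conj hmem) f) :=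
    cj_bIdem hM _ f
  refine ⟨hyN, ?_⟩
  suffices hsp : SubpairLE p M Q (conjImg _ _ y (mem_normalizer_iff_conj hmem) f) P e by
    rw [hcj, subpair_unique hM hPe hsp hle]
  have hidx : conjIdx y (⟨Q, f⟩ : BrauerPairIdx G) =
      ⟨Q, conjImg _ _ y (mem_normalizer_iff_conj hmem) f⟩ := by
    refine idx_ext hM (conjSub_eq_self_iff.2 hyN) (isPBlock_conjBlock _ _ hf) hb ?_
    show cb M (conjSub y Q) (conjBlock Q y f) = _
    rw [← cj_cb hM, hcj]
  have h := subpairLE_conj hM hle y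
  unfold SubpairLE at h ⊢
  rw [show (⟨conjSub y Q, conjBlock Q y f⟩ : BrauerPairIdx G) = conjIdx y ⟨Q, f⟩ from rfl, hidx,
    show (⟨conjSub y P, conjBlock P y e⟩ : BrauerPairIdx G) = conjIdx y ⟨P, e⟩ from rfl,
    conjIdx_eq_self_of_mem_pairStab hM hPe.2 hy] at h
  exact h

theorem abelian_decomp {B : Set (IrrCharacter G)} {P Q : Subgroup G}
    {e : Set (IrrCharacter (Subgroup.centralizer (P : Set G)))}
    {f : Set (IrrCharacter (Subgroup.centralizer (Q : Set G)))}
    (hmax : IsMaximalBrauerPair p M B P e) (hab : ∀ x ∈ P, ∀ y ∈ P, x * y = y * x)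
    (hf : IsPBlock M f) (hle : SubpairLE p M Q f P e) {x : G} (hx : x ∈ pairStab M Q f) :
    ∃ c ∈ Subgroup.centralizer (Q : Set G), c * x ∈ pairStab M P e := by
  have hPe : IsBrauerPair p M P e := hmax.1.1
  have hQP : Q ≤ P :=
    subgroup_le_of_subpairLE (a := (⟨Q, f⟩ : BrauerPairIdx G)) (b := ⟨P, e⟩) hle
  have hPC : P ≤ Subgroup.centralizer (Q : Set G) := fun u hu =>
    Subgroup.mem_centralizer_iff.2 fun q hq => hab q (hQP hq) u hu
  have hCN := centralizer_le_normalizer hM Q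
  have hD : IsDefectGroup p M f
      ((P ⊓ Subgroup.centralizer (Q : Set G)).subgroupOf (Subgroup.centralizer (Q : Set G))) :=
    (local_fully_iff hM hmax hle hf hCN hf rfl).1 fun g _ => by
      rw [inf_eq_left.2 hPC]
      exact Subgroup.card_le_of_le inf_le_left
  have hn : NormalSubpairRel p M (⟨Q, f⟩ : BrauerPairIdx G) ⟨P, e⟩ :=
    normalSubpair_of_le hM hPe hle (hPC.trans hCN)
  have hn' := normalSubpairRel_conj hM hn x
  rw [conjIdx_eq_self_of_mem_pairStab hM hf hx] at hn'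
  have hxP : conjSub x P ≤ Subgroup.centralizer (Q : Set G) := by
    intro u hu
    have h1 := hPC (mem_conjSub.1 hu)
    exact (Subgroup.mem_normalizer_iff''.1 (mem_normalizer_centralizer hx.1) u).2 h1
  obtain ⟨c, hc, hcle⟩ := local_extend hM hPe hle (fun u hu => hPC (hQP hu)) hCN le_rfl hf rfl hD
    hn' hxP
  refine ⟨c, hc, stab_eq_of_subgroup_eq hM hPe ?_⟩
  have hidx := conjIdx_conjIdx hM c x (a := (⟨P, e⟩ : BrauerPairIdx G)) hPe.2
  unfold SubpairLE at hcle ⊢
  rw [show (⟨conjSub (c * x) P, conjBlock P (c * x) e⟩ : BrauerPairIdx G) =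
    conjIdx (c * x) ⟨P, e⟩ from rfl, ← hidx]
  exact hcle

end Cfsg.Agent.BrauerPairs
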