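import Cfsg.Agent.Lib.Blocks.WeakOrth

/-!
# Orthogonality of blocks on p-regular elements and the p-regular rank

* `classInner_pRegularPart_eq_zero`: characters in different blocks are orthogonal on the
  p-regular elements;
* `pRegularPart_eq_sum`: the p-regular part of a member of `B` lies in the span of `B`;
* `card_mul_blockRank`: the rank of a block as a trace.
-/

set_option autoImplicit false

open scoped ComplexConjugate

namespace Cfsg.Agent.BrauerPairs

open Cfsg Cfsg.Agent.Blocks

variable {G : Type*} [Group G] [Fintype G] {p : ℕ} {M : Ideal AlgInt}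

omit [Fintype G] in
theorem isClassFunction_pRegularPart {f : G → ℂ} (hf : IsClassFunction G f) :
    IsClassFunction G (pRegularPart p f) := by
  intro g h
  have : IsPRegular p (h * g * h⁻¹) ↔ IsPRegular p g := by
    unfold IsPRegular
    rw [show orderOf (h * g * h⁻¹) = orderOf g from orderOf_injective (MulAut.conj h).toMonoidHom
      (MulAut.conj h).injective g]
  simp only [pRegularPart, hf g h]
  by_cases hg : IsPRegular p g
  · rw [if_pos hg, if_pos (this.2 hg)]
  · rw [if_neg hg, if_neg (fun hc => hg (this.1 hc))]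

/-- Characters in different blocks are orthogonal on the p-regular elements. -/
theorem classInner_pRegularPart_eq_zero (hM : IsPModular p M) {B : Set (IrrCharacter G)}
    (hB : IsPBlock M B) {χ ψ : IrrCharacter G} (hχ : χ ∈ B) (hψ : ψ ∉ B) :
    classInner (pRegularPart p (χ : G → ℂ)) (ψ : G → ℂ) = 0 := by
  classical
  have := Fintype.ofFinite (IrrCharacter G)
  have hA : blockInd Bᶜ ∈ intRing hM := by
    have : blockInd Bᶜ = 1 - blockInd B := by
      ext φ
      by_cases h : φ ∈ B
      · simp [blockInd_of_mem h, blockInd_of_notMem (show φ ∉ Bᶜ from fun h' => h' h)]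
      · simp [blockInd_of_notMem h, blockInd_of_mem (show φ ∈ Bᶜ from h)]
    rw [this]
    exact (intRing hM).sub_mem (intRing hM).one_mem (blockInd_mem_intRing hM hB)
  set c : IrrCharacter G → ℂ := fun φ => classInner (pRegularPart p (χ : G → ℂ)) (φ : G → ℂ) with hc
  set N : Finset (IrrCharacter G) := Bᶜ.toFinset with hN
  set Z : G → ℂ := ∑ φ ∈ N, c φ • (φ : G → ℂ) with hZ
  -- Z vanishes on singular elements
  have hZ0 : ∀ y : G, ¬ IsPRegular p y → Z y = 0 := by
    intro y hy
    simp only [hZ, Finset.sum_apply, Pi.smul_apply, smul_eq_mul, hc, classInner, Finset.mul_sum,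
      Finset.sum_mul]
    rw [Finset.sum_comm]
    refine Finset.sum_eq_zero fun x _ => ?_
    by_cases hx : IsPRegular p x
    · have h0 := congrArg conj (weak_orth hM hA hx (not_not.1 hy))
      rw [map_zero, finsum_mem_eq_toFinset_sum, map_sum] at h0
      simp only [map_mul, Complex.conj_conj] at h0
      simp only [pRegularPart, hx, if_true]
      rw [← mul_zero ((Nat.card G : ℂ)⁻¹ * (χ : G → ℂ) x), ← h0, Finset.mul_sum]
      exact Finset.sum_congr rfl fun φ _ => by ring
    · simp [pRegularPart, hx]
  -- coefficients of Z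
  have hcoef : ∀ φ ∈ N, classInner Z (φ : G → ℂ) = c φ := fun φ hφ =>
    Cfsg.Agent.Char.classInner_sum_smul _ _ φ hφ
  have hZZ : classInner Z Z = 0 := by
    have e1 : classInner Z Z = classInner (pRegularPart p (χ : G → ℂ)) Z := by
      conv_lhs => arg 2; rw [hZ]
      conv_rhs => rw [hZ]
      rw [Cfsg.Agent.Char.classInner_sum_right, Cfsg.Agent.Char.classInner_sum_right]
      refine Finset.sum_congr rfl fun φ hφ => ?_
      rw [Cfsg.Agent.Char.classInner_smul_right, Cfsg.Agent.Char.classInner_smul_right, hcoef φ hφ]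
    have e2 : classInner (pRegularPart p (χ : G → ℂ)) Z = classInner (χ : G → ℂ) Z := by
      simp only [classInner]
      congr 1
      refine Finset.sum_congr rfl fun x _ => ?_
      by_cases hx : IsPRegular p x
      · simp [pRegularPart, hx]
      · simp [hZ0 x hx]
    rw [e1, e2, hZ, Cfsg.Agent.Char.classInner_sum_right]
    refine Finset.sum_eq_zero fun φ hφ => ?_
    rw [Cfsg.Agent.Char.classInner_smul_right, Cfsg.Agent.Char.classInner_irr_of_ne χ.2 φ.2, mul_zero]
    intro h
    exact (Set.mem_toFinset.1 hφ : φ ∈ Bᶜ) (Subtype.ext h ▸ hχ)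
  have hψN : ψ ∈ N := Set.mem_toFinset.2 hψ
  show c ψ = 0
  rw [← hcoef ψ hψN, Cfsg.Agent.Char.classInner_self_eq_zero.1 hZZ]
  simp [classInner]

open scoped Classical in
theorem pRegularPart_eq_sum (hM : IsPModular p M) [Fintype (IrrCharacter G)]
    {B : Set (IrrCharacter G)} (hB : IsPBlock M B) {χ : IrrCharacter G} (hχ : χ ∈ B) :
    pRegularPart p (χ : G → ℂ) =
      ∑ φ ∈ B.toFinset, classInner (pRegularPart p (χ : G → ℂ)) (φ : G → ℂ) • (φ : G → ℂ) := by
  refine (Cfsg.Agent.Char.classFunction_eq_sum
    (isClassFunction_pRegularPart (irr_class χ))).trans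
    (Finset.sum_subset (Finset.subset_univ _) fun φ _ hφ => ?_).symm
  rw [classInner_pRegularPart_eq_zero hM hB hχ (fun h => hφ (Set.mem_toFinset.2 h)), zero_smul]

/-- The p-regular rank of a block is the trace of the projection onto the p-regular parts. -/
theorem card_mul_blockRank (hM : IsPModular p M) {B : Set (IrrCharacter G)} (hB : IsPBlock M B) :
    (blockRank p B : ℂ) = ∑ᶠ χ ∈ B, classInner (pRegularPart p (χ : G → ℂ)) (χ : G → ℂ) := by
  classical
  have := Fintype.ofFinite (IrrCharacter G)
  set W := Submodule.span ℂ ((fun χ : IrrCharacter G => pRegularPart p (χ : G → ℂ)) '' B) with hW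
  let ip : IrrCharacter G → (G → ℂ) →ₗ[ℂ] ℂ := fun χ =>
    { toFun := fun f => classInner f (χ : G → ℂ)
      map_add' := fun f g => Cfsg.Agent.Char.classInner_add_left f g _
      map_smul' := fun a f => by simp [Cfsg.Agent.Char.classInner_smul_left] }
  set Φ : (G → ℂ) →ₗ[ℂ] (G → ℂ) :=
    ∑ χ ∈ B.toFinset, (ip χ).smulRight (pRegularPart p (χ : G → ℂ)) with hΦ
  have hΦapp : ∀ f, Φ f = ∑ χ ∈ B.toFinset,
      classInner f (χ : G → ℂ) • pRegularPart p (χ : G → ℂ) := fun f => by
    simp [hΦ, ip, LinearMap.sum_apply]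
  have hproj : LinearMap.IsProj W Φ := by
    refine ⟨fun f => ?_, fun f hf => ?_⟩
    · rw [hΦapp]
      exact Submodule.sum_mem _ fun χ hχ =>
        W.smul_mem _ (Submodule.subset_span ⟨χ, Set.mem_toFinset.1 hχ, rfl⟩)
    · induction hf using Submodule.span_induction with
      | mem f hf =>
        obtain ⟨ψ, hψ, rfl⟩ := hf
        show Φ (pRegularPart p (ψ : G → ℂ)) = pRegularPart p (ψ : G → ℂ)
        rw [hΦapp]
        conv_rhs => rw [show pRegularPart p (ψ : G → ℂ) =
          pRegularPart p (pRegularPart p (ψ : G → ℂ)) from by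
            funext x; simp only [pRegularPart]; split_ifs <;> rfl]
        conv_rhs => arg 2; rw [pRegularPart_eq_sum hM hB hψ]
        funext x
        simp only [Finset.sum_apply, Pi.smul_apply, smul_eq_mul, pRegularPart]
        split_ifs <;> simp
      | zero => simp
      | add f g _ _ hf hg => rw [map_add, hf, hg]
      | smul a f _ hf => rw [map_smul, hf]
  have htr := hproj.trace
  rw [blockRank, ← hW, ← htr, hΦ, map_sum, finsum_mem_eq_toFinset_sum]
  exact Finset.sum_congr rfl fun χ _ => by rw [LinearMap.trace_smulRight]; rfl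

end Cfsg.Agent.BrauerPairs
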