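import Cfsg.Agent.Lib.BrauerPairs.Basic

/-!
# Principal Brauer pairs

`IntegralPrincipal M` says that the idempotent of a principal block has local integer coefficients.
Under it: `brauerPairOf_principal`, `normalSubpair_principal`, `subpairLE_principal`, and
`subpairLE_subgroup_le`.
-/

set_option autoImplicit false

namespace Cfsg.Agent.BrauerPairs

open Cfsg Cfsg.Agent.Blocks

universe u

variable {G : Type u} [Group G] {p : ℕ} {M : Ideal AlgInt}

/-- The idempotents of principal blocks have local integer coefficients. -/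
def IntegralPrincipal (M : Ideal AlgInt) : Prop :=
  ∀ (H : Type u) [Group H] [Finite H] (h : H), MemLocalRing M (blockCoeff (principalBlock M H) h)

theorem brauerOmega_principal [Fintype G] (hM : IsPModular p M) {P : Subgroup G}
    (hP : IsPGroup p P) {β : G → ℂ} (hinv : ∀ u ∈ P, ∀ x : G, β (u * x * u⁻¹) = β x)
    (hcls : ∀ c ∈ Subgroup.centralizer (P : Set G), ∀ x : G, β (c * x * c⁻¹) = β x)
    (hR : ∀ x, MemLocalRing M (β x)) (hsum : ∑ x, β x = 1)
    {ξ : IrrCharacter (Subgroup.centralizer (P : Set G))}
    (hξ : ξ ∈ principalBlock M (Subgroup.centralizer (P : Set G))) :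
    MemLocalIdeal M (brauerOmega P β (ξ : Subgroup.centralizer (P : Set G) → ℂ) - 1) := by
  classical
  have h1 := sum_mul_sub_of_sameBlock (f := fun x : Subgroup.centralizer (P : Set G) => β x) hM
    (fun g h => hcls h h.2 g) (fun _ _ => rfl)
    (Cfsg.Agent.Char.IsIrrCharacter.isClassFunction ξ.2) (fun x => hR x) hξ
  simp only [mul_one, div_one] at h1
  rw [brauerOmega, finsum_eq_sum_of_fintype]
  refine memI_sub_trans hM (memI_sub_comm h1) ?_
  have h2 := sum_sub_sum_centralizer hM hP β hinv hR
  rw [hsum, Finset.sum_subtype (p := fun x => x ∈ Subgroup.centralizer (P : Set G)) _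
    (fun x => by simp) β] at h2
  exact memI_sub_comm h2

theorem subgroupBlockCoeff_principal_conj (K : Subgroup G) {g : G}
    (hg : g ∈ Subgroup.normalizer (K : Set G)) [Finite G] (x : G) :
    subgroupBlockCoeff K (principalBlock M K) (g * x * g⁻¹) =
      subgroupBlockCoeff K (principalBlock M K) x := by
  simp only [subgroupBlockCoeff]
  have hiff := Subgroup.mem_normalizer_iff.1 hg x
  by_cases hx : x ∈ K
  · rw [dif_pos hx, dif_pos (hiff.1 hx)]
    exact (blockCoeff_principalBlock_equiv
      (conjEquiv K K g (fun y => Subgroup.mem_normalizer_iff.1 hg y)) ⟨x, hx⟩).symm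
  · rw [dif_neg hx, dif_neg (fun h => hx (hiff.2 h))]

theorem sum_subgroupBlockCoeff_principal [Fintype G] (hM : IsPModular p M) (K : Subgroup G) :
    ∑ x, subgroupBlockCoeff K (principalBlock M K) x = 1 := by
  classical
  rw [← sum_blockCoeff (oneIrr_mem_principal (G := K) hM),
    ← Finset.sum_filter_add_sum_filter_not Finset.univ (fun x => x ∈ K),
    Finset.sum_eq_zero (s := Finset.univ.filter (fun x => ¬ x ∈ K)), add_zero,
    Finset.sum_subtype (p := fun x => x ∈ K) _ (fun x => by simp)]
  · refine Finset.sum_congr rfl fun x _ => ?_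
    rw [subgroupBlockCoeff, dif_pos x.2]
  · intro x hx
    rw [subgroupBlockCoeff, dif_neg (Finset.mem_filter.1 hx).2]

theorem brauerPairOf_principal [Fintype G] (hM : IsPModular p M)
    (hint : IntegralPrincipal.{u} M) {Q : Subgroup G} (hQ : IsPGroup p Q) :
    IsBrauerPairOf p M (principalBlock M G) Q
      (principalBlock M (Subgroup.centralizer (Q : Set G))) :=
  ⟨⟨hQ, isPBlock_principal⟩, isPBlock_principal, fun _ hξ =>
    brauerOmega_principal hM hQ (fun u _ x => isClassFunction_blockCoeff _ x u)
      (fun c _ x => isClassFunction_blockCoeff _ x c) (fun x => hint G x)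
      (sum_blockCoeff (oneIrr_mem_principal hM)) hξ⟩

theorem normalSubpair_principal [Fintype G] (hM : IsPModular p M)
    (hint : IntegralPrincipal.{u} M) {Q P : Subgroup G} (hP : IsPGroup p P) (hQP : Q ≤ P)
    (hPN : P ≤ Subgroup.normalizer (Q : Set G)) :
    IsNormalSubpair p M Q (principalBlock M (Subgroup.centralizer (Q : Set G))) P
      (principalBlock M (Subgroup.centralizer (P : Set G))) := by
  refine ⟨⟨hP.to_le hQP, isPBlock_principal⟩, ⟨hP, isPBlock_principal⟩, hQP, hPN,
    fun x hx => stabilizes_principal _ (mem_normalizer_centralizer (hPN hx)), fun ξ hξ => ?_⟩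
  refine brauerOmega_principal hM hP
    (fun u hu x => subgroupBlockCoeff_principal_conj _ (mem_normalizer_centralizer (hPN hu)) x)
    (fun c hc x => subgroupBlockCoeff_principal_conj _
      (Subgroup.le_normalizer (Subgroup.centralizer_le hQP hc)) x)
    (fun x => ?_) (sum_subgroupBlockCoeff_principal hM _) hξ
  unfold subgroupBlockCoeff
  split_ifs
  · exact hint _ _
  · exact memR_zero hM

theorem subpairLE_principal [Fintype G] (hM : IsPModular p M) (hint : IntegralPrincipal.{u} M)
    {Q P : Subgroup G} (hP : IsPGroup p P) (hQP : Q ≤ P) :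
    SubpairLE p M Q (principalBlock M (Subgroup.centralizer (Q : Set G))) P
      (principalBlock M (Subgroup.centralizer (P : Set G))) := by
  induction hn : Nat.card P - Nat.card Q using Nat.strong_induction_on generalizing Q with
  | _ n ih =>
  rcases eq_or_lt_of_le hQP with rfl | hlt
  · exact Relation.ReflTransGen.refl
  have : Fact p.Prime := ⟨hM.1⟩
  have : Group.IsNilpotent P := hP.isNilpotent
  set Q₁ := P ⊓ Subgroup.normalizer (Q : Set G) with hQ₁
  have hQQ₁ : Q ≤ Q₁ := le_inf hQP Subgroup.le_normalizer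
  have hne : Q ≠ Q₁ := by
    intro he
    have h' : Q.subgroupOf P < ⊤ := by
      rw [lt_top_iff_ne_top]
      intro h
      exact not_le_of_gt hlt (Subgroup.subgroupOf_eq_top.1 h)
    refine (normalizerCondition_of_isNilpotent (G := P) _ h').not_ge ?_
    intro x hx
    rw [Subgroup.mem_subgroupOf, he]
    refine ⟨x.2, ?_⟩
    show (x : G) ∈ Subgroup.normalizer (Q : Set G)
    rw [Subgroup.mem_normalizer_iff]
    intro y
    rw [Subgroup.mem_normalizer_iff] at hx
    by_cases hy : y ∈ P
    · simpa [Subgroup.mem_subgroupOf] using hx ⟨y, hy⟩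
    · refine ⟨fun h => absurd (hQP h) hy, fun h => absurd ?_ hy⟩
      simpa [mul_assoc] using P.mul_mem (P.mul_mem (P.inv_mem x.2) (hQP h)) x.2
  have hcard : Nat.card Q < Nat.card Q₁ :=
    lt_of_le_of_ne (Subgroup.card_le_of_le hQQ₁)
      fun h => hne (SetLike.coe_injective
        (Set.eq_of_subset_of_ncard_le hQQ₁
          (by rw [← Nat.card_coe_set_eq, ← Nat.card_coe_set_eq]; exact h.ge)))
  have hstep : NormalSubpairRel p M ⟨Q, principalBlock M (Subgroup.centralizer (Q : Set G))⟩
      ⟨Q₁, principalBlock M (Subgroup.centralizer (Q₁ : Set G))⟩ :=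
    normalSubpair_principal hM hint (hP.to_le inf_le_left) hQQ₁ inf_le_right
  refine Relation.ReflTransGen.head hstep ?_
  refine ih (Nat.card P - Nat.card Q₁) ?_ inf_le_left rfl
  have : Nat.card Q₁ ≤ Nat.card P := Subgroup.card_le_of_le inf_le_left
  omega

theorem subpairLE_subgroup_le {Q P : Subgroup G}
    {f : Set (IrrCharacter (Subgroup.centralizer (Q : Set G)))}
    {e : Set (IrrCharacter (Subgroup.centralizer (P : Set G)))}
    (h : SubpairLE p M Q f P e) : Q ≤ P := by
  suffices ∀ a b : BrauerPairIdx G, Relation.ReflTransGen (NormalSubpairRel p M) a b → a.1 ≤ b.1 from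
    this ⟨Q, f⟩ ⟨P, e⟩ h
  intro a b hab
  induction hab with
  | refl => exact le_rfl
  | tail _ h ih => exact ih.trans h.2.2.1

end Cfsg.Agent.BrauerPairs
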