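import Cfsg.Agent.Lib.BrauerPairs.Maximal

/-!
# Brauer pairs of subgroups

For `H ≤ G` and `R' : Subgroup H` with image `R`, when `C(R) ≤ H` the blocks of `C_H(R')` are the
blocks of `C(R)`: `upBlock`, `emb_cb`, `exists_upBlock`, `isBrauerPairOf_sub_iff`,
`stabilizes_sub_iff`, `subpairLE_up`.
-/

set_option autoImplicit false

namespace Cfsg.Agent.BrauerPairs

open Cfsg Cfsg.Agent.Blocks

variable {G : Type*} [Group G] {p : ℕ} {M : Ideal AlgInt}

theorem emb_injective (H : Subgroup G) : Function.Injective (emb (M := M) H) :=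
  Function.LeftInverse.injective (pull_emb H)

theorem emb_cj (H : Subgroup G) (u : H) (a : MonoidAlgebra (Res M) H) :
    emb H (cj u a) = cj (u : G) (emb H a) := by
  ext x
  rw [coeff_cj]
  by_cases hx : x ∈ H
  · have h1 := coeff_emb_coe H (cj u a) ⟨x, hx⟩
    have h2 := coeff_emb_coe H a (u⁻¹ * ⟨x, hx⟩ * u)
    simp only [Subgroup.coe_mul, Subgroup.coe_inv] at h1 h2
    rw [h1, h2, coeff_cj]
  · rw [suppIn_emb H _ x hx, suppIn_emb H _ _ fun h => hx ?_]
    have := H.mul_mem (H.mul_mem u.2 h) (H.inv_mem u.2)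
    simpa [mul_assoc] using this

theorem mem_centralizer_sub_iff {H : Subgroup G} (R' : Subgroup H) (x : H) :
    x ∈ Subgroup.centralizer (R' : Set H) ↔
      (x : G) ∈ Subgroup.centralizer ((R'.map H.subtype : Subgroup G) : Set G) := by
  simp only [Subgroup.mem_centralizer_iff, Subgroup.coe_map, Set.forall_mem_image,
    Subgroup.coe_subtype, SetLike.mem_coe, Subtype.ext_iff, Subgroup.coe_mul]

/-- The isomorphism `C(R) ≃* C_H(R')`. -/
def centEquiv {H : Subgroup G} (R' : Subgroup H)
    (hC : Subgroup.centralizer ((R'.map H.subtype : Subgroup G) : Set G) ≤ H) :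
    Subgroup.centralizer ((R'.map H.subtype : Subgroup G) : Set G) ≃*
      Subgroup.centralizer (R' : Set H) where
  toFun x := ⟨⟨x, hC x.2⟩, (mem_centralizer_sub_iff R' _).2 x.2⟩
  invFun y := ⟨((y : H) : G), (mem_centralizer_sub_iff R' _).1 y.2⟩
  left_inv _ := rfl
  right_inv _ := rfl
  map_mul' _ _ := rfl

/-- A set of characters of `C_H(R')` read on `C(R)`. -/
def upBlock {H : Subgroup G} (R' : Subgroup H)
    (e : Set (IrrCharacter (Subgroup.centralizer (R' : Set H)))) :
    Set (IrrCharacter (Subgroup.centralizer ((R'.map H.subtype : Subgroup G) : Set G))) :=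
  {ξ | ∃ η ∈ e, ∀ (c : Subgroup.centralizer ((R'.map H.subtype : Subgroup G) : Set G))
    (c' : Subgroup.centralizer (R' : Set H)), (c : G) = ((c' : H) : G) →
      (ξ : _ → ℂ) c = (η : Subgroup.centralizer (R' : Set H) → ℂ) c'}

theorem upBlock_eq {H : Subgroup G} (R' : Subgroup H)
    (hC : Subgroup.centralizer ((R'.map H.subtype : Subgroup G) : Set G) ≤ H)
    (e : Set (IrrCharacter (Subgroup.centralizer (R' : Set H)))) :
    upBlock R' e = pullIrr (centEquiv R' hC) '' e := by
  ext ξ
  constructor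
  · rintro ⟨η, hη, h⟩
    refine ⟨η, hη, ?_⟩
    apply Subtype.ext
    funext c
    exact (h c _ rfl).symm
  · rintro ⟨η, hη, rfl⟩
    refine ⟨η, hη, fun c c' h => ?_⟩
    rw [pullIrr_apply]
    exact congrArg (η : Subgroup.centralizer (R' : Set H) → ℂ) (Subtype.ext (Subtype.ext h))

theorem isPBlock_upBlock {H : Subgroup G} (R' : Subgroup H)
    (hC : Subgroup.centralizer ((R'.map H.subtype : Subgroup G) : Set G) ≤ H)
    {e : Set (IrrCharacter (Subgroup.centralizer (R' : Set H)))} (he : IsPBlock M e) :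
    IsPBlock M (upBlock R' e) := by
  rw [upBlock_eq R' hC]
  exact isPBlock_image _ he

variable [Finite G] (hM : IsPModular p M)
include hM

theorem emb_cb {H : Subgroup G} (R' : Subgroup H)
    (hC : Subgroup.centralizer ((R'.map H.subtype : Subgroup G) : Set G) ≤ H)
    (e : Set (IrrCharacter (Subgroup.centralizer (R' : Set H)))) :
    emb H (cb M R' e) = cb M (R'.map H.subtype) (upBlock R' e) := by
  ext x
  rw [upBlock_eq R' hC]
  by_cases hx : x ∈ H
  · refine (coeff_emb_coe H (cb M R' e) ⟨x, hx⟩).trans ?_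
    rw [coeff_bIdem hM, coeff_bIdem hM]
    congr 1
    simp only [subgroupBlockCoeff]
    by_cases hxC : x ∈ Subgroup.centralizer ((R'.map H.subtype : Subgroup G) : Set G)
    · rw [dif_pos hxC, dif_pos ((mem_centralizer_sub_iff R' ⟨x, hx⟩).2 hxC)]
      exact (blockCoeff_image (centEquiv R' hC) e ⟨x, hxC⟩).symm
    · rw [dif_neg hxC, dif_neg fun h => hxC ((mem_centralizer_sub_iff R' ⟨x, hx⟩).1 h)]
  · rw [suppIn_emb H _ x hx, (bIdem_central _ _).1 x fun h => hx (hC h)]

theorem exists_upBlock {H : Subgroup G} (R' : Subgroup H)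
    (hC : Subgroup.centralizer ((R'.map H.subtype : Subgroup G) : Set G) ≤ H)
    {e : Set (IrrCharacter (Subgroup.centralizer ((R'.map H.subtype : Subgroup G) : Set G)))}
    (he : IsPBlock M e) :
    ∃ e' : Set (IrrCharacter (Subgroup.centralizer (R' : Set H))),
      IsPBlock M e' ∧ upBlock R' e' = e := by
  let _ := hM
  refine ⟨pullIrr (centEquiv R' hC).symm '' e, isPBlock_image _ he, ?_⟩
  rw [upBlock_eq R' hC, Set.image_image]
  conv_rhs => rw [← Set.image_id e]
  refine congrArg (fun f => f '' e) (funext fun η => ?_)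
  apply Subtype.ext
  funext c
  rw [pullIrr_apply, pullIrr_apply]
  exact congrArg (η : _ → ℂ) ((centEquiv R' hC).symm_apply_apply c)

theorem upBlock_injective {H : Subgroup G} (R' : Subgroup H)
    (hC : Subgroup.centralizer ((R'.map H.subtype : Subgroup G) : Set G) ≤ H)
    {e e' : Set (IrrCharacter (Subgroup.centralizer (R' : Set H)))} (he : IsPBlock M e)
    (he' : IsPBlock M e') (h : upBlock R' e = upBlock R' e') : e = e' :=
  bIdem_injective hM he he' (emb_injective H (by
    show emb H (cb M R' e) = emb H (cb M R' e')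
    rw [emb_cb hM R' hC, emb_cb hM R' hC, h]))

variable [Fact p.Prime]

/-- Brauer pairs of a block of a subgroup. -/
theorem isBrauerPairOf_sub_iff {H : Subgroup G} (R' : Subgroup H)
    (hC : Subgroup.centralizer ((R'.map H.subtype : Subgroup G) : Set G) ≤ H)
    {b : Set (IrrCharacter H)} (hb : IsPBlock M b)
    {e : Set (IrrCharacter (Subgroup.centralizer (R' : Set H)))} (he : IsPBlock M e) :
    IsBrauerPairOf p M b R' e ↔ IsPGroup p (R'.map H.subtype : Subgroup G) ∧
      br (R'.map H.subtype) (bIdem M H b) * cb M (R'.map H.subtype) (upBlock R' e) =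
        cb M (R'.map H.subtype) (upBlock R' e) := by
  rw [isBrauerPairOf_iff hM]
  have hp : IsPGroup p R' ↔ IsPGroup p (R'.map H.subtype : Subgroup G) :=
    ⟨fun h => h.map _, fun h => h.of_equiv
      (Subgroup.equivMapOfInjective R' H.subtype H.subtype_injective).symm⟩
  rw [← emb_cb hM R' hC, show bIdem M H b = emb H (blk M b) from rfl, ← emb_br, ← map_mul,
    (emb_injective H).eq_iff]
  exact ⟨fun ⟨⟨h1, _⟩, _, h3⟩ => ⟨hp.1 h1, h3⟩, fun ⟨h1, h3⟩ => ⟨⟨hp.2 h1, he⟩, hb, h3⟩⟩

theorem mem_normalizer_sub_iff {H : Subgroup G} (R' : Subgroup H) (x : H) :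
    x ∈ Subgroup.normalizer (R' : Set H) ↔
      (x : G) ∈ Subgroup.normalizer ((R'.map H.subtype : Subgroup G) : Set G) := by
  rw [← conjSub_eq_self_iff, ← conjSub_eq_self_iff]
  have hmap : (conjSub x R').map H.subtype = conjSub (x : G) (R'.map H.subtype) := by
    rw [conjSub, conjSub, Subgroup.map_map, Subgroup.map_map]
    rfl
  constructor
  · intro h
    rw [← hmap, h]
  · intro h
    rw [← hmap] at h
    exact Subgroup.map_injective H.subtype_injective h

theorem stabilizes_sub_iff {H : Subgroup G} (R' : Subgroup H)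
    (hC : Subgroup.centralizer ((R'.map H.subtype : Subgroup G) : Set G) ≤ H)
    {e : Set (IrrCharacter (Subgroup.centralizer (R' : Set H)))} (he : IsPBlock M e) {x : H}
    (hx : x ∈ Subgroup.normalizer (R' : Set H)) :
    StabilizesBlock (Subgroup.centralizer (R' : Set H)) e x ↔
      StabilizesBlock (Subgroup.centralizer ((R'.map H.subtype : Subgroup G) : Set G))
        (upBlock R' e) (x : G) := by
  rw [stabilizesBlock_iff hM he (mem_normalizer_centralizer hx),
    stabilizesBlock_iff hM (isPBlock_upBlock R' hC he)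
      (mem_normalizer_centralizer ((mem_normalizer_sub_iff hM R' x).1 hx)),
    show bIdem M _ (upBlock R' e) = _ from (emb_cb hM R' hC e).symm, ← emb_cj,
    (emb_injective H).eq_iff]

theorem normalSubpair_up {H : Subgroup G} {Q' P' : Subgroup H}
    (hC : Subgroup.centralizer ((Q'.map H.subtype : Subgroup G) : Set G) ≤ H)
    {f : Set (IrrCharacter (Subgroup.centralizer (Q' : Set H)))}
    {e : Set (IrrCharacter (Subgroup.centralizer (P' : Set H)))}
    (h : IsNormalSubpair p M Q' f P' e) :
    IsNormalSubpair p M (Q'.map H.subtype) (upBlock Q' f) (P'.map H.subtype) (upBlock P' e) := by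
  obtain ⟨⟨hQ, hf⟩, ⟨hP, he⟩, hQP, hPN, hfix, hle⟩ := (isNormalSubpair_iff hM).1 h
  have hCP : Subgroup.centralizer ((P'.map H.subtype : Subgroup G) : Set G) ≤ H :=
    (Subgroup.centralizer_le (Subgroup.map_mono hQP)).trans hC
  refine (isNormalSubpair_iff hM).2 ⟨⟨hQ.map _, isPBlock_upBlock Q' hC hf⟩,
    ⟨hP.map _, isPBlock_upBlock P' hCP he⟩, Subgroup.map_mono hQP, ?_, ?_, ?_⟩
  · rintro _ ⟨u, hu, rfl⟩
    exact (mem_normalizer_sub_iff hM Q' u).1 (hPN hu)
  · rintro _ ⟨u, hu, rfl⟩
    rw [← emb_cb hM Q' hC]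
    exact (emb_cj H u _).symm.trans (congrArg (emb H) (hfix u hu))
  · rw [← emb_cb hM Q' hC, ← emb_cb hM P' hCP, ← emb_br, ← map_mul, hle]

/-- Inclusions of pairs of a subgroup are inclusions of pairs of the group. -/
theorem subpairLE_up {H : Subgroup G} {Q' P' : Subgroup H}
    (hC : Subgroup.centralizer ((Q'.map H.subtype : Subgroup G) : Set G) ≤ H)
    {f : Set (IrrCharacter (Subgroup.centralizer (Q' : Set H)))}
    {e : Set (IrrCharacter (Subgroup.centralizer (P' : Set H)))}
    (h : SubpairLE p M Q' f P' e) :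
    SubpairLE p M (Q'.map H.subtype) (upBlock Q' f) (P'.map H.subtype) (upBlock P' e) := by
  let up : BrauerPairIdx H → BrauerPairIdx G := fun a => ⟨a.1.map H.subtype, upBlock a.1 a.2⟩
  have key : ∀ a b : BrauerPairIdx H, Relation.ReflTransGen (NormalSubpairRel p M) a b →
      Subgroup.centralizer ((a.1.map H.subtype : Subgroup G) : Set G) ≤ H →
      Relation.ReflTransGen (NormalSubpairRel p M) (up a) (up b) := by
    intro a b hab
    induction hab using Relation.ReflTransGen.head_induction_on with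
    | refl => exact fun _ => Relation.ReflTransGen.refl
    | @head c d hcd _ ih =>
      intro hc
      exact Relation.ReflTransGen.head
        (b := up d) (normalSubpair_up hM hc hcd)
        (ih ((Subgroup.centralizer_le (Subgroup.map_mono hcd.2.2.1)).trans hc))
  exact key _ _ h hC

end Cfsg.Agent.BrauerPairs
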