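import Cfsg.Agent.Lib.BrauerPairs.Subpair
import Cfsg.Agent.Lib.BrauerPairs.Transport
import Cfsg.Agent.Lib.Blocks.Induced
import Cfsg.Agent.Lib.SecondMain.Second
import Cfsg.Prelude.Def_BlockLocal

/-!
# Induced blocks from centralisers of abelian subgroups and Brauer pairs

* `isBrauerPairOf_of_induced`, `isNormalSubpair_of_inducedIn`, `exists_inducedIn`.
-/

set_option autoImplicit false

namespace Cfsg.Agent.BrauerPairs

open Cfsg Cfsg.Agent.Blocks

variable {G : Type*} [Group G] [Finite G] {p : ℕ} {M : Ideal AlgInt}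
  (hM : IsPModular p M) [Fact p.Prime]
include hM

theorem brauerPhi_centralizer_eq (P : Subgroup G) (B : Set (IrrCharacter G))
    (ξ : IrrCharacter (Subgroup.centralizer (P : Set G))) :
    brauerPhi P (Subgroup.centralizer (P : Set G)) ξ (blockInd B) =
      brauerOmega P (blockCoeff B) (ξ : Subgroup.centralizer (P : Set G) → ℂ) := by
  classical
  let _ := hM
  have := Fintype.ofFinite (Subgroup.centralizer (P : Set G))
  rw [brauerPhi, omega_eq_sum, brauerOmega, finsum_eq_sum_of_fintype, Finset.sum_div]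
  refine Finset.sum_congr rfl fun x _ => ?_
  rw [brauerTrunc, if_pos x.2, blockCoeff_eq_ofOmega]

theorem exists_induced_of_centralizer_pair {P : Subgroup G} (hP : IsPGroup p P)
    (hPC : P ≤ Subgroup.centralizer (P : Set G))
    {c : Set (IrrCharacter (Subgroup.centralizer (P : Set G)))} (hc : IsPBlock M c) :
    ∃ B, IsInducedBlock M (Subgroup.centralizer (P : Set G)) c B ∧
      IsBrauerPairOf p M B P c := by
  obtain ⟨ξ, hξ⟩ := isPBlock_nonempty hM hc
  obtain ⟨B, hind, h1, -⟩ := exists_isInducedBlock hM hP hPC le_rfl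
    (centralizer_le_normalizer hM P) hc hξ
  refine ⟨B, hind, ⟨hP, hc⟩, hind.2.1, fun η hη => ?_⟩
  obtain ⟨B', hind', h1', -⟩ := exists_isInducedBlock hM hP hPC le_rfl
    (centralizer_le_normalizer hM P) hc hη
  obtain rfl := SecondMain.induced_unique hM hind hind'
  rwa [brauerPhi_centralizer_eq hM] at h1'

/-- A block of `C(P)` inducing `B` gives a pair of `B`. -/
theorem isBrauerPairOf_of_induced {P : Subgroup G} (hP : IsPGroup p P)
    (hPC : P ≤ Subgroup.centralizer (P : Set G))
    {c : Set (IrrCharacter (Subgroup.centralizer (P : Set G)))} {B : Set (IrrCharacter G)}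
    (h : IsInducedBlock M (Subgroup.centralizer (P : Set G)) c B) : IsBrauerPairOf p M B P c := by
  obtain ⟨B', hind, hpair⟩ := exists_induced_of_centralizer_pair hM hP hPC h.1
  exact SecondMain.induced_unique hM hind h ▸ hpair

omit [Fact p.Prime] in
theorem inducedCentralCharIn_up {H : Subgroup G} (R' : Subgroup H)
    (hC : Subgroup.centralizer ((R'.map H.subtype : Subgroup G) : Set G) ≤ H)
    (η : IrrCharacter (Subgroup.centralizer (R' : Set H))) (h : H) :
    inducedCentralCharIn H (Subgroup.centralizer ((R'.map H.subtype : Subgroup G) : Set G))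
        (pullIrr (centEquiv R' hC) η : _ → ℂ) (h : G) =
      inducedCentralChar (Subgroup.centralizer (R' : Set H))
        (η : Subgroup.centralizer (R' : Set H) → ℂ) h := by
  classical
  let _ := hM
  rw [inducedCentralCharIn, inducedCentralChar, finsum_mem_def, finsum_mem_def,
    ← finsum_comp_equiv (centEquiv R' hC).toEquiv]
  refine finsum_congr fun k => ?_
  simp only [Set.indicator_apply, Set.mem_ofPred_eq]
  refine if_congr ?_ ?_ rfl
  · constructor
    · rintro ⟨x, hx⟩
      exact (isConj_iff.2 ⟨x, Subtype.ext hx⟩).symm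
    · intro hx
      obtain ⟨x, hx⟩ := isConj_iff.1 hx.symm
      exact ⟨x, congrArg Subtype.val hx⟩
  · rw [pullIrr_apply, pullIrr_apply, map_one]
    rfl

omit [Fact p.Prime] in
theorem isInducedBlockIn_up_iff {H : Subgroup G} (R' : Subgroup H)
    (hC : Subgroup.centralizer ((R'.map H.subtype : Subgroup G) : Set G) ≤ H)
    {e : Set (IrrCharacter (Subgroup.centralizer (R' : Set H)))} (he : IsPBlock M e)
    (f : Set (IrrCharacter H)) :
    IsInducedBlockIn M H (Subgroup.centralizer ((R'.map H.subtype : Subgroup G) : Set G))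
        (upBlock R' e) f ↔
      IsInducedBlock M (Subgroup.centralizer (R' : Set H)) e f := by
  constructor
  · intro hh
    refine ⟨he, hh.2.1, fun η hη χ hχ h => ?_⟩
    rw [← inducedCentralCharIn_up hM R' hC η h]
    exact hh.2.2 _ (by rw [upBlock_eq R' hC]; exact ⟨η, hη, rfl⟩) χ hχ h
  · intro hh
    refine ⟨isPBlock_upBlock R' hC he, hh.2.1, fun ξ hξ χ hχ h => ?_⟩
    rw [upBlock_eq R' hC] at hξ
    obtain ⟨η, hη, rfl⟩ := hξ
    rw [inducedCentralCharIn_up hM R' hC η h]
    exact hh.2.2 η hη χ hχ h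

omit [Fact p.Prime] in
theorem le_centralizer_sub {H : Subgroup G} {R' : Subgroup H}
    (h : (R'.map H.subtype : Subgroup G) ≤
      Subgroup.centralizer ((R'.map H.subtype : Subgroup G) : Set G)) :
    R' ≤ Subgroup.centralizer (R' : Set H) := by
  let _ := hM
  exact fun u hu => (mem_centralizer_sub_iff R' u).2 (h ⟨u, hu, rfl⟩)

/-- Induction inside `C(Q)` gives inclusion of pairs. -/
theorem isNormalSubpair_of_inducedIn {Q P : Subgroup G} (hQP : Q ≤ P) (hP : IsPGroup p P)
    (hPC : P ≤ Subgroup.centralizer (P : Set G))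
    {c : Set (IrrCharacter (Subgroup.centralizer (P : Set G)))}
    {f : Set (IrrCharacter (Subgroup.centralizer (Q : Set G)))}
    (h : IsInducedBlockIn M (Subgroup.centralizer (Q : Set G))
      (Subgroup.centralizer (P : Set G)) c f) : IsNormalSubpair p M Q f P c := by
  have hc := h.1
  have hf := h.2.1
  have hCC : Subgroup.centralizer (P : Set G) ≤ Subgroup.centralizer (Q : Set G) :=
    Subgroup.centralizer_le hQP
  have hPQ : P ≤ Subgroup.centralizer (Q : Set G) := hPC.trans hCC
  refine (isNormalSubpair_iff hM).2 ⟨⟨hP.to_le hQP, hf⟩, ⟨hP, hc⟩, hQP,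
    hPQ.trans (centralizer_le_normalizer hM Q), (bIdem_central _ f).2.mono hPQ, ?_⟩
  obtain ⟨P', rfl⟩ : ∃ P' : Subgroup (Subgroup.centralizer (Q : Set G)),
      P = P'.map (Subgroup.centralizer (Q : Set G)).subtype :=
    ⟨P.subgroupOf _, (Subgroup.map_subgroupOf_eq_of_le hPQ).symm⟩
  obtain ⟨c', hc', rfl⟩ := exists_upBlock hM P' hCC hc
  exact ((isBrauerPairOf_sub_iff hM P' hCC hf hc').1 (isBrauerPairOf_of_induced hM
    (hP.of_equiv (Subgroup.equivMapOfInjective P' _ (Subgroup.subtype_injective _)).symm)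
    (le_centralizer_sub hM hPC) ((isInducedBlockIn_up_iff hM P' hCC hc' f).1 h))).2

/-- Every block of `C(P)` induces one inside `C(Q)`, `Q ≤ P`. -/
theorem exists_inducedIn {Q P : Subgroup G} (hQP : Q ≤ P) (hP : IsPGroup p P)
    (hPC : P ≤ Subgroup.centralizer (P : Set G))
    {c : Set (IrrCharacter (Subgroup.centralizer (P : Set G)))} (hc : IsPBlock M c) :
    ∃ f, IsInducedBlockIn M (Subgroup.centralizer (Q : Set G))
      (Subgroup.centralizer (P : Set G)) c f := by
  have hCC : Subgroup.centralizer (P : Set G) ≤ Subgroup.centralizer (Q : Set G) :=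
    Subgroup.centralizer_le hQP
  obtain ⟨P', rfl⟩ : ∃ P' : Subgroup (Subgroup.centralizer (Q : Set G)),
      P = P'.map (Subgroup.centralizer (Q : Set G)).subtype :=
    ⟨P.subgroupOf _, (Subgroup.map_subgroupOf_eq_of_le (hPC.trans hCC)).symm⟩
  obtain ⟨c', hc', rfl⟩ := exists_upBlock hM P' hCC hc
  obtain ⟨f, hf, -⟩ := exists_induced_of_centralizer_pair hM
    (hP.of_equiv (Subgroup.equivMapOfInjective P' _ (Subgroup.subtype_injective _)).symm)
    (le_centralizer_sub hM hPC) hc'
  exact ⟨f, (isInducedBlockIn_up_iff hM P' hCC hc' f).2 hf⟩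

end Cfsg.Agent.BrauerPairs
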