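import Cfsg.Agent.Lib.Blocks.OrbitSum
import Cfsg.Agent.Lib.Blocks.SylowIn

/-!
# The Brauer map on a group algebra in characteristic p

All subgroup algebras live inside one ambient `MonoidAlgebra k G`.

* `SuppIn H a` (support in `H`), `cj g` (conjugation, a ring automorphism), `Fixed H a`,
  `IsCentralIn H a` (central in `k[H]`);
* `br P a` (truncation to `C(P)`), `br_mul` (multiplicative on `P`-fixed elements, `P` a p-group),
  `br_br`, `cj_br`, `br_sum_cj_eq_zero` (a non-trivial orbit sum dies under `br`).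
-/

set_option autoImplicit false

namespace Cfsg.Agent.BrauerPairs

open Cfsg.Agent.Blocks

variable {k : Type*} [CommRing k] {G : Type*} [Group G]

/-- `a` is supported in `H`. -/
def SuppIn (H : Subgroup G) (a : MonoidAlgebra k G) : Prop := ∀ x, x ∉ H → a.coeff x = 0

/-- Conjugation by `g`. -/
noncomputable def cj (g : G) : MonoidAlgebra k G ≃+* MonoidAlgebra k G :=
  MonoidAlgebra.mapDomainRingEquiv k (MulAut.conj g)

theorem coeff_cj (g : G) (a : MonoidAlgebra k G) (x : G) :
    (cj g a).coeff x = a.coeff (g⁻¹ * x * g) := by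
  rw [cj, MonoidAlgebra.coeff_mapDomainRingEquiv, Finsupp.equivMapDomain_apply]
  rfl

theorem cj_one (a : MonoidAlgebra k G) : cj 1 a = a := by
  ext x
  simp [coeff_cj]

theorem cj_mul (g h : G) (a : MonoidAlgebra k G) : cj (g * h) a = cj g (cj h a) := by
  ext x
  simp [coeff_cj, mul_assoc]

theorem cj_inv_cj (g : G) (a : MonoidAlgebra k G) : cj g⁻¹ (cj g a) = a := by
  rw [← cj_mul, inv_mul_cancel, cj_one]

theorem cj_cj_inv (g : G) (a : MonoidAlgebra k G) : cj g (cj g⁻¹ a) = a := by
  rw [← cj_mul, mul_inv_cancel, cj_one]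

theorem cj_single (g x : G) (r : k) :
    cj g (MonoidAlgebra.single x r) = MonoidAlgebra.single (g * x * g⁻¹) r := by
  classical
  ext y
  simp only [coeff_cj, MonoidAlgebra.coeff_single, Finsupp.single_apply]
  have : x = g⁻¹ * y * g ↔ g * x * g⁻¹ = y := by
    constructor
    · rintro rfl; group
    · rintro rfl; group
  simp only [this]

/-- `a` is fixed under conjugation by `S`. -/
def Fixed (S : Subgroup G) (a : MonoidAlgebra k G) : Prop := ∀ u ∈ S, cj u a = a

/-- `a` is a central element of `k[H]`. -/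
def IsCentralIn (H : Subgroup G) (a : MonoidAlgebra k G) : Prop := SuppIn H a ∧ Fixed H a

namespace SuppIn

variable {H K : Subgroup G} {a b : MonoidAlgebra k G}

theorem mem_of_ne (ha : SuppIn H a) {x : G} (hx : a.coeff x ≠ 0) : x ∈ H :=
  by_contra fun h => hx (ha x h)

theorem mono (ha : SuppIn H a) (h : H ≤ K) : SuppIn K a := fun x hx => ha x fun h' => hx (h h')

theorem top : SuppIn ⊤ a := fun x hx => absurd (Subgroup.mem_top x) hx

theorem zero : SuppIn H (0 : MonoidAlgebra k G) := fun _ _ => rfl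

theorem one : SuppIn H (1 : MonoidAlgebra k G) := fun x hx => by
  classical
  rw [MonoidAlgebra.one_def, MonoidAlgebra.coeff_single, Finsupp.single_apply, if_neg]
  exact fun h => hx (h ▸ H.one_mem)

theorem add (ha : SuppIn H a) (hb : SuppIn H b) : SuppIn H (a + b) := fun x hx => by
  rw [MonoidAlgebra.coeff_add, Finsupp.add_apply, ha x hx, hb x hx, add_zero]

theorem sum {ι : Type*} (s : Finset ι) {f : ι → MonoidAlgebra k G}
    (h : ∀ i ∈ s, SuppIn H (f i)) : SuppIn H (∑ i ∈ s, f i) :=
  Finset.sum_induction f (SuppIn H) (fun _ _ => add) zero h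

theorem mul [Fintype G] (ha : SuppIn H a) (hb : SuppIn H b) : SuppIn H (a * b) := fun x hx => by
  rw [MonoidAlgebra.coeff_mul_apply_left, Finsupp.sum_fintype _ _ (fun _ => by simp)]
  refine Finset.sum_eq_zero fun y _ => ?_
  by_cases hy : y ∈ H
  · rw [hb (y⁻¹ * x) fun h => hx (by simpa using H.mul_mem hy h), mul_zero]
  · rw [ha y hy, zero_mul]

theorem cj_mem (ha : SuppIn H a) {g : G} (h : ∀ x ∈ H, g * x * g⁻¹ ∈ K) :
    SuppIn K (cj g a) := fun x hx => by
  rw [coeff_cj]
  refine ha _ fun hH => hx ?_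
  have := h _ hH
  simpa [mul_assoc] using this

end SuppIn

theorem Fixed.mono {S T : Subgroup G} {a : MonoidAlgebra k G} (ha : Fixed T a) (h : S ≤ T) :
    Fixed S a := fun u hu => ha u (h hu)

theorem Fixed.mul {S : Subgroup G} {a b : MonoidAlgebra k G} (ha : Fixed S a) (hb : Fixed S b) :
    Fixed S (a * b) := fun u hu => by rw [map_mul, ha u hu, hb u hu]

theorem Fixed.add {S : Subgroup G} {a b : MonoidAlgebra k G} (ha : Fixed S a) (hb : Fixed S b) :
    Fixed S (a + b) := fun u hu => by rw [map_add, ha u hu, hb u hu]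

theorem Fixed.one {S : Subgroup G} : Fixed S (1 : MonoidAlgebra k G) := fun _ _ => map_one _

theorem Fixed.sum {S : Subgroup G} {ι : Type*} (s : Finset ι) {f : ι → MonoidAlgebra k G}
    (h : ∀ i ∈ s, Fixed S (f i)) : Fixed S (∑ i ∈ s, f i) :=
  Finset.sum_induction f (Fixed S) (fun _ _ => Fixed.add) (fun _ _ => map_zero _) h

theorem coeff_conj_of_fixed {S : Subgroup G} {a : MonoidAlgebra k G} (ha : Fixed S a) {u : G}
    (hu : u ∈ S) (x : G) : a.coeff (u * x * u⁻¹) = a.coeff x := by
  conv_rhs => rw [← ha u⁻¹ (inv_mem hu)]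
  rw [coeff_cj, inv_inv]

/-- An element fixed by `H` commutes with every element supported in `H`. -/
theorem Fixed.commute [Fintype G] {H : Subgroup G} {a b : MonoidAlgebra k G} (ha : Fixed H a)
    (hb : SuppIn H b) : a * b = b * a := by
  ext x
  rw [MonoidAlgebra.coeff_mul_apply_right, MonoidAlgebra.coeff_mul_apply_left,
    Finsupp.sum_fintype _ _ (fun _ => by simp), Finsupp.sum_fintype _ _ (fun _ => by simp)]
  refine Finset.sum_congr rfl fun y _ => ?_
  by_cases hy : y ∈ H
  · rw [mul_comm, ← coeff_conj_of_fixed ha hy (y⁻¹ * x), mul_inv_cancel_left]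
  · simp [hb y hy]

theorem IsCentralIn.mul [Fintype G] {H : Subgroup G} {a b : MonoidAlgebra k G}
    (ha : IsCentralIn H a) (hb : IsCentralIn H b) : IsCentralIn H (a * b) :=
  ⟨ha.1.mul hb.1, ha.2.mul hb.2⟩

theorem IsCentralIn.cj_mem {H K : Subgroup G} {a : MonoidAlgebra k G} (ha : IsCentralIn H a) {g : G}
    (h : ∀ x, x ∈ H ↔ g * x * g⁻¹ ∈ K) : IsCentralIn K (cj g a) := by
  refine ⟨ha.1.cj_mem fun x hx => (h x).1 hx, fun u hu => ?_⟩
  have hu' : g⁻¹ * u * g ∈ H := (h _).2 (by simpa [mul_assoc] using hu)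
  conv_rhs => rw [← ha.2 _ hu', ← cj_mul]
  rw [← cj_mul]
  congr 2
  group

open scoped Classical in
/-- Truncation to the centraliser of `P`. -/
noncomputable def br (P : Subgroup G) (a : MonoidAlgebra k G) : MonoidAlgebra k G :=
  MonoidAlgebra.ofCoeff (a.coeff.filter (fun x => x ∈ Subgroup.centralizer (P : Set G)))

open scoped Classical in
theorem coeff_br (P : Subgroup G) (a : MonoidAlgebra k G) (x : G) :
    (br P a).coeff x = if x ∈ Subgroup.centralizer (P : Set G) then a.coeff x else 0 := by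
  simp [br, Finsupp.filter_apply]

theorem suppIn_br (P : Subgroup G) (a : MonoidAlgebra k G) :
    SuppIn (Subgroup.centralizer (P : Set G)) (br P a) := fun x hx => by
  rw [coeff_br, if_neg hx]

theorem br_eq_self {P : Subgroup G} {a : MonoidAlgebra k G}
    (ha : SuppIn (Subgroup.centralizer (P : Set G)) a) : br P a = a := by
  ext x
  rw [coeff_br]
  split_ifs with h
  · rfl
  · exact (ha x h).symm

theorem br_zero (P : Subgroup G) : br P (0 : MonoidAlgebra k G) = 0 := br_eq_self SuppIn.zero

theorem br_one (P : Subgroup G) : br P (1 : MonoidAlgebra k G) = 1 := br_eq_self SuppIn.one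

theorem br_add (P : Subgroup G) (a b : MonoidAlgebra k G) : br P (a + b) = br P a + br P b := by
  ext x
  simp only [coeff_br, MonoidAlgebra.coeff_add, Finsupp.add_apply]
  split_ifs <;> simp

theorem br_sum {ι : Type*} (P : Subgroup G) (s : Finset ι) (f : ι → MonoidAlgebra k G) :
    br P (∑ i ∈ s, f i) = ∑ i ∈ s, br P (f i) :=
  map_sum ({ toFun := br P, map_zero' := br_zero P, map_add' := br_add P } :
    MonoidAlgebra k G →+ MonoidAlgebra k G) f s

theorem br_br {Q P : Subgroup G} (h : Q ≤ P) (a : MonoidAlgebra k G) :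
    br P (br Q a) = br P a := by
  ext x
  simp only [coeff_br]
  split_ifs with h1 h2
  · rfl
  · exact absurd (Subgroup.centralizer_le h h1) h2
  · rfl

theorem suppIn_br_of_suppIn {P H : Subgroup G} {a : MonoidAlgebra k G} (ha : SuppIn H a) :
    SuppIn H (br P a) := fun x hx => by
  rw [coeff_br, ha x hx, ite_self]

theorem cj_br (g : G) (P : Subgroup G) (a : MonoidAlgebra k G) :
    cj g (br P a) = br (conjSub g P) (cj g a) := by
  ext x
  simp only [coeff_cj, coeff_br]
  have : g⁻¹ * x * g ∈ Subgroup.centralizer (P : Set G) ↔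
      x ∈ Subgroup.centralizer (conjSub g P : Set G) := by
    rw [Subgroup.mem_centralizer_iff, Subgroup.mem_centralizer_iff]
    constructor
    · intro h y hy
      have h' := h _ (mem_conjSub.1 hy)
      calc y * x = g * (g⁻¹ * y * g * (g⁻¹ * x * g)) * g⁻¹ := by group
        _ = x * y := by rw [h']; group
    · intro h y hy
      have h' := h (g * y * g⁻¹) (mem_conjSub.2 (by simpa [mul_assoc] using hy))
      calc y * (g⁻¹ * x * g) = g⁻¹ * (g * y * g⁻¹ * x) * g := by group
        _ = g⁻¹ * x * g * y := by rw [h']; group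
  by_cases h : x ∈ Subgroup.centralizer (conjSub g P : Set G)
  · rw [if_pos h, if_pos (this.2 h)]
  · rw [if_neg h, if_neg fun h' => h (this.1 h')]

/-- `br P` of an element fixed by `S ≤ N(P)` is fixed by `S`. -/
theorem Fixed.br [Finite G] {P S : Subgroup G} {a : MonoidAlgebra k G} (ha : Fixed S a)
    (hS : S ≤ Subgroup.normalizer (P : Set G)) : Fixed S (br P a) := fun u hu => by
  rw [cj_br, ha u hu, conjSub_eq_self_iff.2 (hS hu)]

variable {p : ℕ} [Fact p.Prime] [CharP k p]

/-- The Brauer map is multiplicative on `P`-fixed elements. -/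
theorem br_mul [Fintype G] {P : Subgroup G} (hP : IsPGroup p P) {a b : MonoidAlgebra k G}
    (ha : Fixed P a) (hb : Fixed P b) : br P (a * b) = br P a * br P b := by
  classical
  ext x
  by_cases hx : x ∈ Subgroup.centralizer (P : Set G)
  swap
  · rw [coeff_br, if_neg hx, ((suppIn_br P a).mul (suppIn_br P b)) x hx]
  rw [coeff_br, if_pos hx, MonoidAlgebra.coeff_mul_apply_left, MonoidAlgebra.coeff_mul_apply_left,
    Finsupp.sum_fintype _ _ (fun _ => by simp), Finsupp.sum_fintype _ _ (fun _ => by simp),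
    conj_sum_eq_sum_centralizer_add (P := P),
    AddSubmonoid.mem_bot.1 (conj_sum_not_centralizer_mem hP _ ?_ ⊥ ?_), add_zero, Finset.sum_filter]
  · refine Finset.sum_congr rfl fun y _ => ?_
    rw [coeff_br, coeff_br]
    by_cases hy : y ∈ Subgroup.centralizer (P : Set G)
    · rw [if_pos hy, if_pos hy, if_pos (Subgroup.mul_mem _ (Subgroup.inv_mem _ hy) hx)]
    · rw [if_neg hy, if_neg hy, zero_mul]
  · intro u hu y
    have hxu : u⁻¹ * x = x * u⁻¹ := Subgroup.mem_centralizer_iff.1 hx u⁻¹ (P.inv_mem hu)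
    have he : (u * y * u⁻¹)⁻¹ * x = u * (y⁻¹ * x) * u⁻¹ := by
      simp only [mul_inv_rev, inv_inv, mul_assoc, hxu]
    rw [coeff_conj_of_fixed ha hu, he, coeff_conj_of_fixed hb hu]
  · intro y
    rw [AddSubmonoid.mem_bot, nsmul_eq_mul, CharP.cast_eq_zero, zero_mul]

open scoped Classical in
/-- A `P`-invariant sum indexed by a set on which `P` has no fixed point dies under `br P`. -/
theorem br_sum_eq_zero_of_no_fixed {P : Subgroup G} (hP : IsPGroup p P) {α : Type*} [Fintype α]
    [MulAction P α] (f : α → MonoidAlgebra k G) (hf : ∀ (u : P) (i : α), f (u • i) = cj (u : G) (f i))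
    (hfix : ∀ i : α, i ∈ MulAction.fixedPoints P α → f i = 0) : br P (∑ i, f i) = 0 := by
  ext x
  rw [coeff_br, MonoidAlgebra.coeff_zero, Finsupp.zero_apply]
  split_ifs with hx
  swap
  · rfl
  rw [MonoidAlgebra.coeff_sum, Finsupp.finsetSum_apply]
  have hinv : ∀ (u : P) (i : α), (f (u • i)).coeff x = (f i).coeff x := by
    intro u i
    rw [hf, coeff_cj, mul_assoc, ← Subgroup.mem_centralizer_iff.1 hx (u : G) u.2, inv_mul_cancel_left]
  have h := sum_not_fixed_mem hP (fun i => (f i).coeff x) hinv ⊥ fun i => by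
    rw [AddSubmonoid.mem_bot, nsmul_eq_mul, CharP.cast_eq_zero, zero_mul]
  rw [← Finset.sum_filter_add_sum_filter_not Finset.univ (fun i => i ∈ MulAction.fixedPoints P α),
    AddSubmonoid.mem_bot.1 h, add_zero]
  refine Finset.sum_eq_zero fun i hi => ?_
  rw [hfix i (Finset.mem_filter.1 hi).2, MonoidAlgebra.coeff_zero, Finsupp.zero_apply]

end Cfsg.Agent.BrauerPairs
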