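import Cfsg.Agent.Lib.BrauerPairs.Residue
import Cfsg.Agent.Lib.BrauerPairs.GroupRing

/-!
# Block idempotents and central characters modulo M

For a group `H`: `blk M B` (reduced block idempotent), `lamG M ξ` (central character), the exact
lifting lemma `eq_of_red_eq` for idempotent class functions.
For a subgroup `H` of `G`, inside the ambient algebra of `G`: `emb`, `pull`, `bIdem M H b`,
`blocks M H`, `lam M H ξ`, with `bIdem_central`, `bIdem_mul_self`, `bIdem_mul_of_ne`, `sum_bIdem`,
`bIdem_ne_zero`, `mul_bIdem_cases`, `mul_bIdem_eq_iff`, `exists_inverse`, `isNilpotent_of_lam`.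
-/

set_option autoImplicit false

namespace Cfsg.Agent.BrauerPairs

open Cfsg Cfsg.Agent.Blocks

variable {p : ℕ} {M : Ideal AlgInt}

section abstract

variable {G : Type*} [Group G] [Finite G]

theorem isClassFunction_lift {z : MonoidAlgebra (Res M) G} (hz : Fixed ⊤ z) :
    IsClassFunction G (lift z) := fun x u => by
  rw [lift, coeff_conj_of_fixed hz (Subgroup.mem_top u)]
  rfl

theorem fixed_red {f : G → ℂ} (hf : IsClassFunction G f) : Fixed ⊤ (red M f) := fun u _ => by
  ext x
  rw [coeff_cj, coeff_red, coeff_red]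
  congr 1
  simpa using hf x u⁻¹

/-- The central character modulo `M` on the centre of the group algebra. -/
noncomputable def lamG (M : Ideal AlgInt) (ξ : IrrCharacter G) (z : MonoidAlgebra (Res M) G) :
    Res M :=
  res M (Blocks.omega (ξ : G → ℂ) (lift z))

/-- Any lift of a central element computes its central character. -/
theorem lamG_red (hM : IsPModular p M) {f : G → ℂ} (hf : IsClassFunction G f)
    (hR : ∀ x, MemLocalRing M (f x)) (ξ : IrrCharacter G) :
    lamG M ξ (red M f) = res M (Blocks.omega (ξ : G → ℂ) f) := by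
  have := Fintype.ofFinite G
  have hl := isClassFunction_lift (fixed_red (M := M) hf)
  have hlR := memR_lift hM (red M f)
  rw [lamG, res_eq_iff hM (Blocks.memR_omega hM hl hlR ξ) (Blocks.memR_omega hM hf hR ξ)]
  have hd : ∀ x, MemLocalIdeal M (lift (red M f) x - f x) :=
    (red_eq_iff hM hlR hR).1 (red_lift hM _)
  have hdc : IsClassFunction G (fun x => lift (red M f) x - f x) := fun x u => by
    simp only [hl x u, hf x u]
  convert Blocks.memI_omega hM hdc hd ξ using 1
  simp only [omega_eq_sum, sub_mul, Finset.sum_sub_distrib, sub_div]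

theorem lamG_mul (hM : IsPModular p M) {z w : MonoidAlgebra (Res M) G} (hz : Fixed ⊤ z)
    (hw : Fixed ⊤ w) (ξ : IrrCharacter G) : lamG M ξ (z * w) = lamG M ξ z * lamG M ξ w := by
  have hzc := isClassFunction_lift hz
  have hwc := isClassFunction_lift hw
  have hzR := memR_lift hM z
  have hwR := memR_lift hM w
  have e : z * w = red M (Blocks.conv (lift z) (lift w)) := by
    rw [red_conv hM hzR hwR, red_lift hM, red_lift hM]
  have hR : ∀ x, MemLocalRing M (Blocks.conv (lift z) (lift w) x) := fun x => by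
    have := Fintype.ofFinite G
    rw [conv_eq_sum]
    exact memR_sum hM _ fun y _ => memR_mul hM (hzR y) (hwR _)
  rw [e, lamG_red hM (Blocks.isClassFunction_conv hzc hwc) hR, Blocks.omega_conv hzc hwc,
    res_mul hM (Blocks.memR_omega hM hzc hzR ξ) (Blocks.memR_omega hM hwc hwR ξ)]
  rfl

theorem lamG_add (hM : IsPModular p M) {z w : MonoidAlgebra (Res M) G} (hz : Fixed ⊤ z)
    (hw : Fixed ⊤ w) (ξ : IrrCharacter G) : lamG M ξ (z + w) = lamG M ξ z + lamG M ξ w := by
  have := Fintype.ofFinite G
  have hzc := isClassFunction_lift hz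
  have hwc := isClassFunction_lift hw
  have hzR := memR_lift hM z
  have hwR := memR_lift hM w
  have e : z + w = red M (lift z + lift w) := by
    rw [red_add hM hzR hwR, red_lift hM, red_lift hM]
  have hc : IsClassFunction G (lift z + lift w) := fun x u => by
    simp only [Pi.add_apply, hzc x u, hwc x u]
  have hR : ∀ x, MemLocalRing M ((lift z + lift w) x) := fun x => memR_add hM (hzR x) (hwR x)
  rw [e, lamG_red hM hc hR, lamG, lamG,
    ← res_add hM (Blocks.memR_omega hM hzc hzR ξ) (Blocks.memR_omega hM hwc hwR ξ)]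
  simp only [omega_eq_sum, Pi.add_apply, add_mul, Finset.sum_add_distrib, add_div]

theorem lamG_one (hM : IsPModular p M) (ξ : IrrCharacter G) : lamG M ξ 1 = 1 := by
  classical
  rw [← red_one hM (G := G), lamG_red hM _ _ ξ]
  · rw [← ofOmega_one (G := G), omega_ofOmega]
    exact res_one hM
  · rw [← ofOmega_one (G := G)]
    exact isClassFunction_ofOmega _
  · intro x
    rw [← congrFun (ofOmega_one (G := G)) x]
    exact (intRing hM).one_mem x

theorem lamG_zero (hM : IsPModular p M) (ξ : IrrCharacter G) : lamG M ξ 0 = 0 := by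
  have h := lamG_add hM (fun _ _ => map_zero _) (fun _ _ => map_zero _) ξ (z := 0) (w := 0)
  rwa [add_zero, left_eq_add] at h

theorem lamG_sum (hM : IsPModular p M) {ι : Type*} (s : Finset ι)
    {f : ι → MonoidAlgebra (Res M) G} (h : ∀ i ∈ s, Fixed ⊤ (f i)) (ξ : IrrCharacter G) :
    lamG M ξ (∑ i ∈ s, f i) = ∑ i ∈ s, lamG M ξ (f i) := by
  classical
  induction s using Finset.induction_on with
  | empty => exact lamG_zero hM ξ
  | insert i s his ih =>
    rw [Finset.sum_insert his, Finset.sum_insert his,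
      lamG_add hM (h i (Finset.mem_insert_self i s))
        (Fixed.sum s fun j hj => h j (Finset.mem_insert_of_mem hj)) ξ,
      ih fun j hj => h j (Finset.mem_insert_of_mem hj)]

theorem lamG_congr_of_sameBlock (hM : IsPModular p M) {z : MonoidAlgebra (Res M) G} (hz : Fixed ⊤ z)
    {ξ η : IrrCharacter G} (h : SameBlock M (ξ : G → ℂ) (η : G → ℂ)) :
    lamG M ξ z = lamG M η z := by
  have hzc := isClassFunction_lift hz
  have hzR := memR_lift hM z
  rw [lamG, lamG, res_eq_iff hM (Blocks.memR_omega hM hzc hzR ξ) (Blocks.memR_omega hM hzc hzR η)]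
  exact intRing_congr hM (omega_mem_intRing hM hzc hzR) h

theorem isNilpotent_of_lamG (hM : IsPModular p M) {z : MonoidAlgebra (Res M) G} (hz : Fixed ⊤ z)
    (h : ∀ ξ : IrrCharacter G, lamG M ξ z = 0) : IsNilpotent z := by
  have hzc := isClassFunction_lift hz
  have hzR := memR_lift hM z
  have hI : ∀ ξ, MemLocalIdeal M (omegaFun (lift z) ξ) := fun ξ =>
    (res_eq_zero_iff hM (Blocks.memR_omega hM hzc hzR ξ)).1 (h ξ)
  obtain ⟨N, hN⟩ := exists_small_pow hM hI
  refine ⟨N + 1, ?_⟩
  have key : ∀ n : ℕ, red M (ofOmega (omegaFun (lift z) ^ (n + 1))) = z ^ (n + 1) := by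
    intro n
    induction n with
    | zero => rw [zero_add, pow_one, pow_one, ofOmega_omega hzc, red_lift hM]
    | succ n ih =>
      rw [pow_succ, ofOmega_mul, red_conv hM ((intRing hM).pow_mem (omega_mem_intRing hM hzc hzR) _)
        (omega_mem_intRing hM hzc hzR), ih, ofOmega_omega hzc, red_lift hM, ← pow_succ]
  rw [← key N]
  ext x
  rw [coeff_red, MonoidAlgebra.coeff_zero, Finsupp.zero_apply]
  exact (res_eq_zero_iff hM (memR_of_memI (hN _ (Nat.le_succ N) x))).2 (hN _ (Nat.le_succ N) x)

/-- The reduced block idempotent. -/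
noncomputable def blk (M : Ideal AlgInt) (B : Set (IrrCharacter G)) : MonoidAlgebra (Res M) G :=
  red M (blockCoeff B)

theorem fixed_blk (B : Set (IrrCharacter G)) : Fixed ⊤ (blk M B) :=
  fixed_red (Blocks.isClassFunction_blockCoeff B)

open scoped Classical in
theorem lamG_blk (hM : IsPModular p M) {B : Set (IrrCharacter G)} (hB : IsPBlock M B)
    (ξ : IrrCharacter G) : lamG M ξ (blk M B) = if ξ ∈ B then 1 else 0 := by
  rw [blk, lamG_red hM (Blocks.isClassFunction_blockCoeff B) (Blocks.memR_blockCoeff hM hB),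
    blockCoeff_eq_ofOmega, omega_ofOmega]
  by_cases h : ξ ∈ B
  · rw [if_pos h, blockInd_of_mem h, res_one hM]
  · rw [if_neg h, blockInd_of_notMem h, res_zero hM]

theorem blk_mul_self (hM : IsPModular p M) {B : Set (IrrCharacter G)} (hB : IsPBlock M B) :
    blk M B * blk M B = blk M B := by
  rw [blk, ← red_conv hM (Blocks.memR_blockCoeff hM hB) (Blocks.memR_blockCoeff hM hB),
    blockCoeff_eq_ofOmega, ← ofOmega_mul, blockInd_mul_self]

theorem blk_mul_of_ne (hM : IsPModular p M) {B B' : Set (IrrCharacter G)} (hB : IsPBlock M B)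
    (hB' : IsPBlock M B') (h : B ≠ B') : blk M B * blk M B' = 0 := by
  rw [blk, blk, ← red_conv hM (Blocks.memR_blockCoeff hM hB) (Blocks.memR_blockCoeff hM hB'),
    blockCoeff_eq_ofOmega, blockCoeff_eq_ofOmega, ← ofOmega_mul]
  have : blockInd B * blockInd B' = 0 := by
    ext χ
    by_cases hχ : χ ∈ B
    · have : χ ∉ B' := fun h' => h (isPBlock_eq_of_mem hM hB hB' hχ h')
      simp [blockInd_of_notMem this]
    · simp [blockInd_of_notMem hχ]
  rw [this, ofOmega_zero]
  ext x
  exact res_zero hM

theorem blk_ne_zero (hM : IsPModular p M) {B : Set (IrrCharacter G)} (hB : IsPBlock M B) :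
    blk M B ≠ 0 := by
  classical
  intro h
  obtain ⟨ξ, hξ⟩ := isPBlock_nonempty hM hB
  have := lamG_blk hM hB ξ
  rw [h, lamG_zero hM, if_pos hξ] at this
  have := res_nontrivial hM
  exact zero_ne_one ‹_›

open scoped Classical in
theorem sum_blk (hM : IsPModular p M) [Fintype (IrrCharacter G)] :
    ∑ B ∈ Finset.univ.image (fun χ : IrrCharacter G => blockOf M (χ : G → ℂ)), blk M B = 1 := by
  rw [← red_one hM, ← ofOmega_one, ← sum_blockInd hM]
  ext x
  rw [MonoidAlgebra.coeff_sum, Finsupp.finsetSum_apply, coeff_red, ofOmega_eq_sum]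
  simp only [blk, coeff_red, Finset.sum_apply, Finset.sum_mul, Finset.mul_sum]
  rw [Finset.sum_comm, res_sum hM]
  · refine Finset.sum_congr rfl fun B _ => ?_
    rw [blockCoeff_eq_ofOmega, ofOmega_eq_sum, Finset.mul_sum]
  · intro B hB
    obtain ⟨χ, -, rfl⟩ := Finset.mem_image.1 hB
    rw [← Finset.mul_sum, ← ofOmega_eq_sum]
    exact blockInd_mem_intRing hM ⟨χ, rfl⟩ x

/-- An idempotent class function with local integer values is determined by its reduction. -/
theorem eq_of_red_eq (hM : IsPModular p M) {f f' : G → ℂ} (hf : IsClassFunction G f)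
    (hf' : IsClassFunction G f') (hR : ∀ x, MemLocalRing M (f x))
    (hR' : ∀ x, MemLocalRing M (f' x)) (hi : Blocks.conv f f = f) (hi' : Blocks.conv f' f' = f')
    (h : red M f = red M f') : f = f' := by
  refine eq_of_omega_eq hf hf' fun χ => ?_
  have h01 : ∀ {g : G → ℂ}, IsClassFunction G g → Blocks.conv g g = g →
      Blocks.omega (χ : G → ℂ) g = 0 ∨ Blocks.omega (χ : G → ℂ) g = 1 := by
    intro g hg hgg
    have e := Blocks.omega_conv hg hg χ
    rw [hgg] at e
    have e' : Blocks.omega (χ : G → ℂ) g * (Blocks.omega (χ : G → ℂ) g - 1) = 0 := by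
      linear_combination -e
    exact (mul_eq_zero.1 e').imp id sub_eq_zero.1
  have e : res M (Blocks.omega (χ : G → ℂ) f) = res M (Blocks.omega (χ : G → ℂ) f') := by
    rw [← lamG_red hM hf hR, ← lamG_red hM hf' hR', h]
  have := res_nontrivial hM
  rcases h01 hf hi with a | a <;> rcases h01 hf' hi' with b | b <;>
    rw [a, b] at e ⊢ <;> simp [res_zero hM, res_one hM] at e

/-- A central element outside the radical of a block is invertible in the block. -/
theorem exists_inverseG (hM : IsPModular p M) {z : MonoidAlgebra (Res M) G} (hz : Fixed ⊤ z)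
    {B : Set (IrrCharacter G)} (hB : IsPBlock M B) {ξ : IrrCharacter G} (hξ : ξ ∈ B)
    (h : lamG M ξ z ≠ 0) : ∃ w, Fixed ⊤ w ∧ z * w = blk M B := by
  classical
  have := Fintype.ofFinite G
  obtain ⟨c, hc⟩ := res_exists_inv hM h
  let r : MonoidAlgebra (Res M) G := red M (fun x => if x = 1 then unres c else 0)
  have hrR : ∀ x : G, MemLocalRing M (if x = 1 then unres c else 0) := fun x => by
    split_ifs
    · exact memR_unres hM c
    · exact memR_zero hM
  have hrc : IsClassFunction G (fun x : G => if x = 1 then unres c else 0) := fun x u => by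
    simp only [conj_eq_one_iff]
  have hr : Fixed ⊤ r := fixed_red hrc
  have hlr : ∀ η : IrrCharacter G, lamG M η r = c := fun η => by
    rw [lamG_red hM hrc hrR, omega_eq_sum, Finset.sum_eq_single (1 : G)]
    · rw [if_pos rfl, mul_div_assoc, div_self (irr_one_ne_zero η), mul_one, res_unres hM]
    · intro x _ hx
      rw [if_neg hx, zero_mul]
    · exact fun h' => absurd (Finset.mem_univ _) h'
  set e := blk M B with he
  have hef : Fixed ⊤ e := fixed_blk B
  have hu : Fixed ⊤ (z * r * e) := (hz.mul hr).mul hef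
  have hn : Fixed ⊤ (e - z * r * e) := fun u hu' => by rw [map_sub, hef u hu', hu u hu']
  obtain ⟨N, hN⟩ := isNilpotent_of_lamG hM hn fun η => by
    have e1 := lamG_add hM hn hu η
    rw [sub_add_cancel, lamG_blk hM hB, lamG_mul hM (hz.mul hr) hef,
      lamG_mul hM hz hr, hlr, lamG_blk hM hB] at e1
    by_cases hη : η ∈ B
    · rw [if_pos hη, mul_one, lamG_congr_of_sameBlock hM hz (sameBlock_of_mem hM hB hη hξ), hc] at e1
      exact add_eq_right.1 e1.symm
    · rw [if_neg hη, mul_zero, add_zero] at e1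
      exact e1.symm
  have hfs : Fixed ⊤ (∑ i ∈ Finset.range N, (e - z * r * e) ^ i) := Fixed.sum _ fun i _ u hu' => by
    rw [map_pow, hn u hu']
  refine ⟨r * e * ∑ i ∈ Finset.range N, (e - z * r * e) ^ i, (hr.mul hef).mul hfs, ?_⟩
  have hgeom : (1 - (e - z * r * e)) * ∑ i ∈ Finset.range N, (e - z * r * e) ^ i = 1 := by
    have := mul_geom_sum (e - z * r * e) N
    rw [hN, zero_sub] at this
    calc _ = -((e - z * r * e - 1) * ∑ i ∈ Finset.range N, (e - z * r * e) ^ i) := by noncomm_ring
      _ = 1 := by rw [this, neg_neg]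
  have hee : e * e = e := blk_mul_self hM hB
  calc z * (r * e * ∑ i ∈ Finset.range N, (e - z * r * e) ^ i)
      = (z * r * (e * e)) * ∑ i ∈ Finset.range N, (e - z * r * e) ^ i := by
        rw [hee]; noncomm_ring
    _ = e * ((1 - (e - z * r * e)) * ∑ i ∈ Finset.range N, (e - z * r * e) ^ i) := by
        have h1 : z * r * e = e * (z * r) := (hef.commute SuppIn.top).symm
        have h2 : e * (1 - (e - z * r * e)) = z * r * (e * e) := by
          rw [mul_sub, mul_one, mul_sub, hee, sub_sub_cancel, ← mul_assoc e (z * r) e, ← h1,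
            mul_assoc (z * r) e e, hee]
        rw [← h2, mul_assoc]
    _ = e := by rw [hgeom, mul_one]

theorem blk_injective (hM : IsPModular p M) {B B' : Set (IrrCharacter G)} (hB : IsPBlock M B)
    (hB' : IsPBlock M B') (h : blk M B = blk M B') : B = B' := by
  by_contra hne
  have := blk_mul_of_ne hM hB hB' hne
  rw [← h, blk_mul_self hM hB] at this
  exact blk_ne_zero hM hB this

/-- A central idempotent times a block idempotent is that idempotent or zero. -/
theorem mul_blk_cases (hM : IsPModular p M) {z : MonoidAlgebra (Res M) G} (hz : Fixed ⊤ z)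
    (hzz : z * z = z) {B : Set (IrrCharacter G)} (hB : IsPBlock M B) {ξ : IrrCharacter G}
    (hξ : ξ ∈ B) :
    (lamG M ξ z = 1 ∧ z * blk M B = blk M B) ∨ (lamG M ξ z = 0 ∧ z * blk M B = 0) := by
  classical
  have := res_isDomain hM
  have := Fintype.ofFinite G
  have hl : lamG M ξ z * (lamG M ξ z - 1) = 0 := by
    rw [mul_sub, mul_one, ← lamG_mul hM hz hz, hzz, sub_self]
  have hef := fixed_blk (M := M) B
  rcases mul_eq_zero.1 hl with h | h
  · refine Or.inr ⟨h, ?_⟩
    have hidem : IsIdempotentElem (z * blk M B) := by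
      show z * blk M B * (z * blk M B) = z * blk M B
      rw [mul_assoc, ← mul_assoc (blk M B) z, hef.commute (b := z) SuppIn.top, mul_assoc z,
        blk_mul_self hM hB, ← mul_assoc, hzz]
    obtain ⟨n, hn⟩ := isNilpotent_of_lamG hM (hz.mul hef) fun η => by
      rw [lamG_mul hM hz hef, lamG_blk hM hB]
      by_cases hη : η ∈ B
      · rw [if_pos hη, mul_one, lamG_congr_of_sameBlock hM hz (sameBlock_of_mem hM hB hη hξ), h]
      · rw [if_neg hη, mul_zero]
    rcases Nat.eq_zero_or_pos n with rfl | hn0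
    · rw [pow_zero] at hn
      calc z * blk M B = z * blk M B * 1 := (mul_one _).symm
        _ = 0 := by rw [hn, mul_zero]
    · rwa [IsIdempotentElem.pow_eq hidem hn0.ne'] at hn
  · rw [sub_eq_zero] at h
    refine Or.inl ⟨h, ?_⟩
    obtain ⟨w, -, hw⟩ := exists_inverseG hM hz hB hξ (by
      rw [h]
      have := res_nontrivial hM
      exact one_ne_zero)
    conv_lhs => rw [← hw, ← mul_assoc, hzz, hw]

end abstract

section ambient

variable {G : Type*} [Group G]

/-- The inclusion of the algebra of a subgroup. -/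
noncomputable def emb (H : Subgroup G) : MonoidAlgebra (Res M) H →+* MonoidAlgebra (Res M) G :=
  MonoidAlgebra.mapDomainRingHom (Res M) H.subtype

theorem coeff_emb_coe (H : Subgroup G) (a : MonoidAlgebra (Res M) H) (h : H) :
    (emb H a).coeff h = a.coeff h := by
  simp only [emb, MonoidAlgebra.mapDomainRingHom_apply, MonoidAlgebra.coeff_mapDomain]
  exact Finsupp.mapDomain_apply Subtype.val_injective a.coeff h

theorem suppIn_emb (H : Subgroup G) (a : MonoidAlgebra (Res M) H) : SuppIn H (emb H a) :=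
  fun x hx => by
    simp only [emb, MonoidAlgebra.mapDomainRingHom_apply, MonoidAlgebra.coeff_mapDomain]
    exact Finsupp.mapDomain_notin_range a.coeff x fun ⟨h, hh⟩ => hx (hh ▸ h.2)

/-- The restriction to the algebra of a subgroup. -/
noncomputable def pull (H : Subgroup G) (a : MonoidAlgebra (Res M) G) : MonoidAlgebra (Res M) H :=
  MonoidAlgebra.ofCoeff (a.coeff.comapDomain Subtype.val Subtype.val_injective.injOn)

theorem coeff_pull (H : Subgroup G) (a : MonoidAlgebra (Res M) G) (h : H) :
    (pull H a).coeff h = a.coeff h := rfl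

theorem pull_emb (H : Subgroup G) (a : MonoidAlgebra (Res M) H) : pull H (emb H a) = a := by
  ext h
  rw [coeff_pull, coeff_emb_coe]

theorem emb_pull {H : Subgroup G} {a : MonoidAlgebra (Res M) G} (ha : SuppIn H a) :
    emb H (pull H a) = a := by
  ext x
  by_cases hx : x ∈ H
  · exact coeff_emb_coe H (pull H a) ⟨x, hx⟩
  · rw [suppIn_emb H _ x hx, ha x hx]

theorem pull_add (H : Subgroup G) (a b : MonoidAlgebra (Res M) G) :
    pull H (a + b) = pull H a + pull H b := by
  ext h
  simp [coeff_pull]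

theorem pull_one (H : Subgroup G) : pull H (1 : MonoidAlgebra (Res M) G) = 1 := by
  rw [← map_one (emb (M := M) H), pull_emb]

theorem pull_mul {H : Subgroup G} {a b : MonoidAlgebra (Res M) G} (ha : SuppIn H a)
    (hb : SuppIn H b) : pull H (a * b) = pull H a * pull H b := by
  conv_lhs => rw [← emb_pull ha, ← emb_pull hb, ← map_mul, pull_emb]

theorem fixed_pull {H : Subgroup G} {a : MonoidAlgebra (Res M) G} (ha : Fixed H a) :
    Fixed ⊤ (pull H a) := fun u _ => by
  ext x
  rw [coeff_cj, coeff_pull, coeff_pull]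
  simpa using coeff_conj_of_fixed ha (inv_mem u.2) (x : G)

theorem fixed_emb {H : Subgroup G} {a : MonoidAlgebra (Res M) H} (ha : Fixed ⊤ a) :
    Fixed H (emb H a) := fun u hu => by
  ext x
  rw [coeff_cj]
  by_cases hx : x ∈ H
  · have h1 : u⁻¹ * x * u ∈ H := H.mul_mem (H.mul_mem (H.inv_mem hu) hx) hu
    rw [show (emb H a).coeff (u⁻¹ * x * u) = _ from coeff_emb_coe H a ⟨_, h1⟩,
      show (emb H a).coeff x = _ from coeff_emb_coe H a ⟨x, hx⟩,
      ← coeff_conj_of_fixed ha (Subgroup.mem_top (⟨u⁻¹, H.inv_mem hu⟩ : H)) ⟨x, hx⟩]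
    congr 1
    exact Subtype.ext (by simp)
  · rw [suppIn_emb H a x hx, suppIn_emb H a _ fun h => hx ?_]
    have := H.mul_mem (H.mul_mem hu h) (H.inv_mem hu)
    simpa [mul_assoc] using this

variable [Finite G]

/-- The idempotent of a block of the subgroup `H`, in the ambient algebra. -/
noncomputable def bIdem (M : Ideal AlgInt) (H : Subgroup G) (b : Set (IrrCharacter H)) :
    MonoidAlgebra (Res M) G :=
  emb H (blk M b)

/-- The blocks of a subgroup. -/
noncomputable def blocks (M : Ideal AlgInt) (H : Subgroup G) : Finset (Set (IrrCharacter H)) :=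
  haveI := Fintype.ofFinite (IrrCharacter H)
  haveI := Classical.decEq (Set (IrrCharacter H))
  Finset.univ.image fun χ : IrrCharacter H => blockOf M (χ : H → ℂ)

theorem mem_blocks {H : Subgroup G} {b : Set (IrrCharacter H)} :
    b ∈ blocks M H ↔ IsPBlock M b := by
  simp [blocks, IsPBlock, eq_comm]

/-- The central character of a subgroup on the ambient algebra. -/
noncomputable def lam (M : Ideal AlgInt) (H : Subgroup G) (ξ : IrrCharacter H)
    (z : MonoidAlgebra (Res M) G) : Res M :=
  lamG M ξ (pull H z)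

theorem bIdem_central (H : Subgroup G) (b : Set (IrrCharacter H)) :
    IsCentralIn H (bIdem M H b) :=
  ⟨suppIn_emb H _, fixed_emb (fixed_blk b)⟩

theorem coeff_bIdem (hM : IsPModular p M) (H : Subgroup G) (b : Set (IrrCharacter H)) (x : G) :
    (bIdem M H b).coeff x = res M (subgroupBlockCoeff H b x) := by
  unfold subgroupBlockCoeff
  split_ifs with hx
  · exact coeff_emb_coe H _ ⟨x, hx⟩
  · rw [res_zero hM]
    exact suppIn_emb H _ x hx

variable (hM : IsPModular p M)
include hM

theorem bIdem_mul_self {H : Subgroup G} {b : Set (IrrCharacter H)} (hb : IsPBlock M b) :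
    bIdem M H b * bIdem M H b = bIdem M H b := by
  rw [bIdem, ← map_mul, blk_mul_self hM hb]

theorem bIdem_mul_of_ne {H : Subgroup G} {b b' : Set (IrrCharacter H)} (hb : IsPBlock M b)
    (hb' : IsPBlock M b') (h : b ≠ b') : bIdem M H b * bIdem M H b' = 0 := by
  rw [bIdem, bIdem, ← map_mul, blk_mul_of_ne hM hb hb' h, map_zero]

theorem bIdem_ne_zero {H : Subgroup G} {b : Set (IrrCharacter H)} (hb : IsPBlock M b) :
    bIdem M H b ≠ 0 := fun h => blk_ne_zero hM hb (by
  have := congrArg (pull H) h
  rwa [bIdem, pull_emb, ← map_zero (emb (M := M) H), pull_emb] at this)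

theorem bIdem_injective {H : Subgroup G} {b b' : Set (IrrCharacter H)} (hb : IsPBlock M b)
    (hb' : IsPBlock M b') (h : bIdem M H b = bIdem M H b') : b = b' :=
  blk_injective hM hb hb' (by simpa [bIdem, pull_emb] using congrArg (pull H) h)

theorem sum_bIdem (H : Subgroup G) : ∑ b ∈ blocks M H, bIdem M H b = 1 := by
  classical
  have := Fintype.ofFinite (IrrCharacter H)
  simp only [bIdem, ← map_sum]
  rw [← map_one (emb (M := M) H)]
  congr 1
  rw [← sum_blk hM (G := H)]
  congr 1
  ext b
  simp [mem_blocks, IsPBlock, eq_comm]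

theorem lam_mul {H : Subgroup G} {z w : MonoidAlgebra (Res M) G} (hz : IsCentralIn H z)
    (hw : IsCentralIn H w) (ξ : IrrCharacter H) :
    lam M H ξ (z * w) = lam M H ξ z * lam M H ξ w := by
  rw [lam, pull_mul hz.1 hw.1, lamG_mul hM (fixed_pull hz.2) (fixed_pull hw.2)]
  rfl

theorem lam_add {H : Subgroup G} {z w : MonoidAlgebra (Res M) G} (hz : IsCentralIn H z)
    (hw : IsCentralIn H w) (ξ : IrrCharacter H) :
    lam M H ξ (z + w) = lam M H ξ z + lam M H ξ w := by
  rw [lam, pull_add, lamG_add hM (fixed_pull hz.2) (fixed_pull hw.2)]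
  rfl

theorem lam_one (H : Subgroup G) (ξ : IrrCharacter H) : lam M H ξ 1 = 1 := by
  rw [lam, pull_one, lamG_one hM]

theorem lam_zero (H : Subgroup G) (ξ : IrrCharacter H) : lam M H ξ 0 = 0 := by
  rw [lam, ← map_zero (emb (M := M) H), pull_emb, lamG_zero hM]

open scoped Classical in
theorem lam_bIdem {H : Subgroup G} {b : Set (IrrCharacter H)} (hb : IsPBlock M b)
    (ξ : IrrCharacter H) : lam M H ξ (bIdem M H b) = if ξ ∈ b then 1 else 0 := by
  rw [lam, bIdem, pull_emb, lamG_blk hM hb]

theorem lam_congr {H : Subgroup G} {b : Set (IrrCharacter H)} (hb : IsPBlock M b)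
    {ξ η : IrrCharacter H} (hξ : ξ ∈ b) (hη : η ∈ b) {z : MonoidAlgebra (Res M) G}
    (hz : IsCentralIn H z) : lam M H ξ z = lam M H η z :=
  lamG_congr_of_sameBlock hM (fixed_pull hz.2) (sameBlock_of_mem hM hb hξ hη)

theorem isNilpotent_of_lam {H : Subgroup G} {z : MonoidAlgebra (Res M) G} (hz : IsCentralIn H z)
    (h : ∀ ξ : IrrCharacter H, lam M H ξ z = 0) : IsNilpotent z := by
  have := (isNilpotent_of_lamG hM (fixed_pull hz.2) h).map (emb (M := M) H)
  rwa [emb_pull hz.1] at this

theorem mul_bIdem_cases {H : Subgroup G} {z : MonoidAlgebra (Res M) G} (hz : IsCentralIn H z)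
    (hzz : z * z = z) {b : Set (IrrCharacter H)} (hb : IsPBlock M b) :
    z * bIdem M H b = bIdem M H b ∨ z * bIdem M H b = 0 := by
  obtain ⟨ξ, hξ⟩ := isPBlock_nonempty hM hb
  have hpz : pull H z * pull H z = pull H z := by rw [← pull_mul hz.1 hz.1, hzz]
  rcases mul_blk_cases hM (fixed_pull hz.2) hpz hb hξ with ⟨-, h⟩ | ⟨-, h⟩
  · left
    rw [← emb_pull hz.1, bIdem, ← map_mul, h]
  · right
    rw [← emb_pull hz.1, bIdem, ← map_mul, h, map_zero]

/-- Membership of a block in a central idempotent, in terms of the central character. -/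
theorem mul_bIdem_eq_iff {H : Subgroup G} {z : MonoidAlgebra (Res M) G} (hz : IsCentralIn H z)
    (hzz : z * z = z) {b : Set (IrrCharacter H)} (hb : IsPBlock M b) {ξ : IrrCharacter H}
    (hξ : ξ ∈ b) : z * bIdem M H b = bIdem M H b ↔ lam M H ξ z = 1 := by
  classical
  have hpz : pull H z * pull H z = pull H z := by rw [← pull_mul hz.1 hz.1, hzz]
  have := res_nontrivial hM
  rcases mul_blk_cases hM (fixed_pull hz.2) hpz hb hξ with ⟨h1, h⟩ | ⟨h1, h⟩
  · refine iff_of_true ?_ h1
    rw [← emb_pull hz.1, bIdem, ← map_mul, h]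
  · refine iff_of_false ?_ (by rw [lam, h1]; exact zero_ne_one)
    rw [← emb_pull hz.1, bIdem, ← map_mul, h, map_zero]
    exact fun h0 => bIdem_ne_zero hM hb h0.symm

theorem exists_inverse {H : Subgroup G} {z : MonoidAlgebra (Res M) G} (hz : IsCentralIn H z)
    {b : Set (IrrCharacter H)} (hb : IsPBlock M b) {ξ : IrrCharacter H} (hξ : ξ ∈ b)
    (h : lam M H ξ z ≠ 0) : ∃ w, IsCentralIn H w ∧ z * w = bIdem M H b := by
  obtain ⟨w, hw, e⟩ := exists_inverseG hM (fixed_pull hz.2) hb hξ h
  refine ⟨emb H w, ⟨suppIn_emb H w, fixed_emb hw⟩, ?_⟩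
  rw [bIdem, ← e, map_mul, emb_pull hz.1]

/-- A nonzero central idempotent contains a block. -/
theorem exists_block_le {H : Subgroup G} {z : MonoidAlgebra (Res M) G} (hz : IsCentralIn H z)
    (hzz : z * z = z) (h0 : z ≠ 0) :
    ∃ b, IsPBlock M b ∧ z * bIdem M H b = bIdem M H b := by
  by_contra h
  push Not at h
  apply h0
  calc z = z * ∑ b ∈ blocks M H, bIdem M H b := by rw [sum_bIdem hM, mul_one]
    _ = 0 := by
      rw [Finset.mul_sum]
      exact Finset.sum_eq_zero fun b hb =>
        (mul_bIdem_cases hM hz hzz (mem_blocks.1 hb)).resolve_left (h b (mem_blocks.1 hb))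

end ambient

end Cfsg.Agent.BrauerPairs
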