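import Cfsg.Agent.Lib.BrauerPairs.Normal

/-!
# Maximal Brauer pairs and defect groups

* `exists_defectGroup_ge`, `br_defectGroup_ne_zero`, and their versions `sub_*` for a block of a
  subgroup: defect groups are the maximal `p`-subgroups with non-zero Brauer image;
* `exists_defect_element`: the central element attached to a maximal pair;
* `maximal_isDefectGroup`, `maximal_conj_of_same_subgroup`, `exists_maximal_ge`,
  `exists_conj_le_maximal`.
-/

set_option autoImplicit false

namespace Cfsg.Agent.BrauerPairs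

open Cfsg Cfsg.Agent.Blocks

variable {G : Type*} [Group G] [Finite G] {p : ℕ} {M : Ideal AlgInt}

theorem emb_br {H : Subgroup G} (R' : Subgroup H) (a : MonoidAlgebra (Res M) H) :
    emb H (br R' a) = br (R'.map H.subtype) (emb H a) := by
  classical
  ext x
  rw [coeff_br]
  by_cases hx : x ∈ H
  · have h1 := coeff_emb_coe H (br R' a) ⟨x, hx⟩
    have h2 := coeff_emb_coe H a ⟨x, hx⟩
    simp only at h1 h2
    rw [h1, h2, coeff_br]
    have hiff : (⟨x, hx⟩ : H) ∈ Subgroup.centralizer (R' : Set H) ↔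
        x ∈ Subgroup.centralizer ((R'.map H.subtype : Subgroup G) : Set G) := by
      simp only [Subgroup.mem_centralizer_iff, Subgroup.coe_map, Set.forall_mem_image,
        Subgroup.coe_subtype, SetLike.mem_coe, Subtype.ext_iff, Subgroup.coe_mul]
    simp only [hiff]
  · rw [suppIn_emb H (br R' a) x hx, suppIn_emb H a x hx, ite_self]

variable (hM : IsPModular p M) [Fact p.Prime]
include hM

/-- A `p`-subgroup with non-zero Brauer image lies in a defect group. -/
theorem exists_defectGroup_ge {B : Set (IrrCharacter G)} (hB : IsPBlock M B) {R : Subgroup G}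
    (hR : IsPGroup p R) (h : br R (blk M B) ≠ 0) : ∃ D, IsDefectGroup p M B D ∧ R ≤ D := by
  classical
  obtain ⟨x, hx⟩ : ∃ x, (br R (blk M B)).coeff x ≠ 0 := by
    by_contra hno
    push Not at hno
    exact h (MonoidAlgebra.coeff_injective (Finsupp.ext hno))
  rw [coeff_br] at hx
  by_cases hxC : x ∈ Subgroup.centralizer (R : Set G)
  swap
  · exact absurd (if_neg hxC) hx
  rw [if_pos hxC, blk, coeff_red, Ne,
    res_eq_zero_iff hM (Blocks.memR_blockCoeff hM hB x)] at hx
  obtain ⟨χ, hχ⟩ := isPBlock_nonempty hM hB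
  obtain ⟨D, g, hg, hgD⟩ := Blocks.exists_isDefectGroup (p := p) hM hB
  obtain ⟨y, hy⟩ := minmax hM hB hχ (hg.2.2 χ hχ) hx hR (le_centralizer_singleton.2 hxC) hgD
  exact ⟨conjSub y D, isDefectGroup_conjSub hM ⟨g, hg, hgD⟩ y, hy⟩

/-- The Brauer image at a defect group is non-zero. -/
theorem br_defectGroup_ne_zero {B : Set (IrrCharacter G)} {D : Subgroup G}
    (hD : IsDefectGroup p M B D) : br D (blk M B) ≠ 0 := by
  classical
  obtain ⟨g, hg, hgD⟩ := hD
  intro h
  have h' := congrArg (fun w : MonoidAlgebra (Res M) G => w.coeff g) h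
  simp only [coeff_br, if_pos (le_centralizer_singleton.1 (sylowIn_le hgD)), blk, coeff_red,
    MonoidAlgebra.coeff_zero, Finsupp.zero_apply] at h'
  exact hg.2.1 ((res_eq_zero_iff hM hg.1).1 h')

/-- The order of a `p`-subgroup with non-zero Brauer image is at most the defect. -/
theorem card_le_of_br_ne_zero {B : Set (IrrCharacter G)} (hB : IsPBlock M B) {R D : Subgroup G}
    (hR : IsPGroup p R) (h : br R (blk M B) ≠ 0) (hD : IsDefectGroup p M B D) :
    Nat.card R ≤ Nat.card D := by
  obtain ⟨D', hD', hle⟩ := exists_defectGroup_ge hM hB hR h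
  obtain ⟨y, rfl⟩ := isDefectGroup_conj_eq hM hB hD hD'
  exact (Subgroup.card_le_of_le hle).trans_eq (card_conjSub y D)

theorem sub_exists_defectGroup_ge {H : Subgroup G} {b : Set (IrrCharacter H)} (hb : IsPBlock M b)
    {R : Subgroup G} (hRH : R ≤ H) (hR : IsPGroup p R) (h : br R (bIdem M H b) ≠ 0) :
    ∃ D, IsDefectGroup p M b D ∧ R.subgroupOf H ≤ D := by
  refine exists_defectGroup_ge hM hb
    (hR.of_equiv (Subgroup.subgroupOfEquivOfLe hRH).symm) fun h0 => h ?_
  have h1 := emb_br (M := M) (R.subgroupOf H) (blk M b)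
  rw [h0, map_zero, Subgroup.map_subgroupOf_eq_of_le hRH] at h1
  exact h1.symm

theorem sub_br_defectGroup_ne_zero {H : Subgroup G} {b : Set (IrrCharacter H)} {D : Subgroup H}
    (hD : IsDefectGroup p M b D) : br (D.map H.subtype) (bIdem M H b) ≠ 0 := fun h => by
  refine br_defectGroup_ne_zero hM hD ?_
  rw [bIdem, ← emb_br] at h
  rw [← pull_emb (M := M) H (br D (blk M b)), h, ← map_zero (emb (M := M) H), pull_emb]

theorem sub_card_le_of_br_ne_zero {H : Subgroup G} {b : Set (IrrCharacter H)} (hb : IsPBlock M b)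
    {R : Subgroup G} (hRH : R ≤ H) (hR : IsPGroup p R) (h : br R (bIdem M H b) ≠ 0)
    {D : Subgroup H} (hD : IsDefectGroup p M b D) : Nat.card R ≤ Nat.card D := by
  obtain ⟨D', hD', hle⟩ := sub_exists_defectGroup_ge hM hb hRH hR h
  obtain ⟨y, rfl⟩ := isDefectGroup_conj_eq hM hb hD hD'
  rw [← Nat.card_congr (Subgroup.subgroupOfEquivOfLe hRH).toEquiv, ← card_conjSub y D]
  exact Subgroup.card_le_of_le hle

/-- Above a maximal pair all Brauer images vanish. -/
theorem br_cb_eq_zero_of_maximal {B : Set (IrrCharacter G)} {P R : Subgroup G}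
    {e : Set (IrrCharacter (Subgroup.centralizer (P : Set G)))}
    (hmax : IsMaximalBrauerPair p M B P e) (hR : IsPGroup p R) (hPR : P < R)
    (hRN : R ≤ Subgroup.normalizer (P : Set G)) (hfix : Fixed R (cb M P e)) :
    br R (cb M P e) = 0 := by
  by_contra h0
  obtain ⟨⟨hP, he⟩, hB, -⟩ := id hmax.1
  have hCC : Subgroup.centralizer (R : Set G) ≤ Subgroup.centralizer (P : Set G) :=
    Subgroup.centralizer_le hPR.le
  obtain ⟨g, hg, hle⟩ := exists_block_le hM (br_bIdem_central hM hCC e)
    (br_bIdem_mul_self hM hR he hfix) h0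
  have hn : IsNormalSubpair p M P e R g :=
    (isNormalSubpair_iff hM).2 ⟨⟨hP, he⟩, ⟨hR, hg⟩, hPR.le, hRN, hfix, hle⟩
  have hs : SubpairLE p M P e R g := Relation.ReflTransGen.single hn
  exact hPR.ne (hmax.2 R g ((isBrauerPairOf_iff_of_le hM hB hs).2 hmax.1) hs).symm

open scoped Classical in
/-- The normaliser orbit sum of a maximal pair. -/
theorem exists_orbit_sum {B : Set (IrrCharacter G)} {P : Subgroup G}
    {e : Set (IrrCharacter (Subgroup.centralizer (P : Set G)))}
    (hmax : IsMaximalBrauerPair p M B P e) :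
    ∃ ε : MonoidAlgebra (Res M) G, Fixed (Subgroup.normalizer (P : Set G)) ε ∧
      SuppIn (Subgroup.centralizer (P : Set G)) ε ∧ ε * cb M P e = cb M P e ∧
      (∀ e' : Set (IrrCharacter (Subgroup.centralizer (P : Set G))), IsPBlock M e' →
        ε * cb M P e' ≠ 0 → ∃ n ∈ Subgroup.normalizer (P : Set G),
          cj n (cb M P e) = cb M P e') ∧
      ∀ R : Subgroup G, IsPGroup p R → P < R → R ≤ Subgroup.normalizer (P : Set G) →
        br R ε = 0 := by
  have := res_charP hM
  have := Fintype.ofFinite G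
  obtain ⟨⟨hP, he⟩, hB, -⟩ := id hmax.1
  set N := Subgroup.normalizer (P : Set G) with hN
  let S : Finset (MonoidAlgebra (Res M) G) :=
    (Finset.univ.filter (fun n : G => n ∈ N)).image fun n => cj n (cb M P e)
  have hmem : ∀ z, z ∈ S ↔ ∃ n ∈ N, cj n (cb M P e) = z := fun z => by simp [S]
  have hblock : ∀ z ∈ S, ∃ b, IsPBlock M b ∧ z = cb M P b := by
    intro z hz
    obtain ⟨n, hn, rfl⟩ := (hmem z).1 hz
    exact ⟨_, isPBlock_conjImg _ he,
      cj_bIdem hM (mem_normalizer_iff_conj (mem_normalizer_centralizer hn)) e⟩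
  have hmul : ∀ z ∈ S, ∀ e' : Set (IrrCharacter (Subgroup.centralizer (P : Set G))),
      IsPBlock M e' → z ≠ cb M P e' → z * cb M P e' = 0 := by
    intro z hz e' he' hne
    obtain ⟨b, hb, rfl⟩ := hblock z hz
    exact bIdem_mul_of_ne hM hb he' fun h => hne (h ▸ rfl)
  have hstab : ∀ u ∈ N, ∀ z ∈ S, cj u z ∈ S := by
    intro u hu z hz
    obtain ⟨n, hn, rfl⟩ := (hmem z).1 hz
    exact (hmem _).2 ⟨u * n, N.mul_mem hu hn, cj_mul u n _⟩
  have heS : cb M P e ∈ S := (hmem _).2 ⟨1, N.one_mem, cj_one _⟩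
  refine ⟨∑ z ∈ S, z, ?_, ?_, ?_, ?_, ?_⟩
  · intro u hu
    rw [map_sum]
    have himg : S.image (cj u) = S := Finset.eq_of_subset_of_card_le
      (fun z hz => by
        obtain ⟨w, hw, rfl⟩ := Finset.mem_image.1 hz
        exact hstab u hu w hw)
      (le_of_eq (Finset.card_image_of_injective S (cj u).injective).symm)
    conv_rhs => rw [← himg]
    rw [Finset.sum_image fun a _ b _ h => (cj u).injective h]
  · refine SuppIn.sum _ fun z hz => ?_
    obtain ⟨b, -, rfl⟩ := hblock z hz
    exact (bIdem_central _ b).1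
  · rw [Finset.sum_mul, Finset.sum_eq_single (cb M P e)]
    · exact bIdem_mul_self hM he
    · exact fun z hz hne => hmul z hz e he hne
    · exact fun h => absurd heS h
  · intro e' he' hne
    rw [Finset.sum_mul] at hne
    obtain ⟨z, hz, hz'⟩ := Finset.exists_ne_zero_of_sum_ne_zero hne
    obtain ⟨n, hn, hnz⟩ := (hmem z).1 hz
    refine ⟨n, hn, ?_⟩
    rw [hnz]
    by_contra h
    exact hz' (hmul z hz e' he' h)
  · intro R hR hPR hRN
    let _ : MulAction R S :=
      { smul := fun u z => ⟨cj (u : G) (z : MonoidAlgebra (Res M) G), hstab u (hRN u.2) z z.2⟩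
        one_smul := fun z => Subtype.ext (by
          show cj ((1 : R) : G) (z : MonoidAlgebra (Res M) G) = z
          rw [Subgroup.coe_one, cj_one])
        mul_smul := fun u v z => Subtype.ext (by
          show cj ((u * v : R) : G) (z : MonoidAlgebra (Res M) G) = cj (u : G) (cj (v : G) _)
          rw [Subgroup.coe_mul, cj_mul]) }
    have hRR : ∀ u ∈ R, conjSub u R = R := fun u hu =>
      conjSub_eq_self_iff.2 (Subgroup.le_normalizer hu)
    have h0 : br R (∑ z : S, br R (z : MonoidAlgebra (Res M) G)) = 0 := by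
      refine br_sum_eq_zero_of_no_fixed (p := p) hR _ (fun u z => ?_) fun z hz => ?_
      · show br R (cj (u : G) (z : MonoidAlgebra (Res M) G)) = cj (u : G) (br R z)
        rw [cj_br, hRR u u.2]
      · obtain ⟨n, hn, hnz⟩ := (hmem _).1 z.2
        rw [← hnz]
        have hzfix : Fixed R (cj n (cb M P e)) := fun u hu => by
          rw [hnz]
          exact congrArg Subtype.val (hz ⟨u, hu⟩)
        have hlt : P < conjSub n⁻¹ R := by
          refine lt_of_le_of_ne ?_ fun hPeq => hPR.ne ?_
          · conv_lhs => rw [← conjSub_eq_self_iff.2 (N.inv_mem hn)]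
            exact conjSub_mono _ hPR.le
          · have := congrArg (conjSub n) hPeq
            rwa [conjSub_eq_self_iff.2 hn, conjSub_mul, mul_inv_cancel, conjSub_one] at this
        have hz0 := br_cb_eq_zero_of_maximal hM hmax (R := conjSub n⁻¹ R) (hR.map _) hlt
          (fun u hu => by
            rw [mem_conjSub, inv_inv] at hu
            have := N.mul_mem (N.mul_mem (N.inv_mem hn) (hRN hu)) hn
            simpa [mul_assoc] using this)
          (fun u hu => by
            rw [mem_conjSub, inv_inv] at hu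
            have h1 := congrArg (cj n⁻¹) (hzfix _ hu)
            rw [cj_inv_cj, ← cj_mul, ← cj_mul] at h1
            simpa [mul_assoc] using h1)
        have h2 := congrArg (cj n) hz0
        rwa [cj_br, conjSub_mul, mul_inv_cancel, conjSub_one, map_zero] at h2
    rw [br_sum] at h0
    simp only [br_br le_rfl] at h0
    rw [br_sum, ← Finset.sum_coe_sort S (fun z => br R z)]
    exact h0

open scoped Classical in
/-- The central element attached to a maximal pair. -/
theorem exists_defect_element {B : Set (IrrCharacter G)} {P : Subgroup G}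
    {e : Set (IrrCharacter (Subgroup.centralizer (P : Set G)))}
    (hmax : IsMaximalBrauerPair p M B P e) :
    ∃ y : MonoidAlgebra (Res M) G, Fixed ⊤ y ∧ br P y * cb M P e = cb M P e ∧
      (∀ R : Subgroup G, IsPGroup p R → br R y ≠ 0 → ∃ g, R ≤ conjSub g P) ∧
      ∀ e' : Set (IrrCharacter (Subgroup.centralizer (P : Set G))), IsPBlock M e' →
        br P y * cb M P e' ≠ 0 → ∃ n ∈ Subgroup.normalizer (P : Set G),
          cj n (cb M P e) = cb M P e' := by
  have := Fintype.ofFinite G
  obtain ⟨ε, hεN, hεC, hεe, hεorb, hεbr⟩ := exists_orbit_sum hM hmax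
  have hP : IsPGroup p P := hmax.1.1.1
  let Good : G → Prop := fun x => SylowIn p (Subgroup.centralizer ({x} : Set G)) P
  have hsupp : ∀ x, ε.coeff x ≠ 0 → Good x := by
    intro x hx
    have hxC := hεC.mem_of_ne hx
    obtain ⟨D, hD, hPD⟩ := sylowIn_exists_ge (Subgroup.centralizer ({x} : Set G))
      (le_centralizer_singleton.2 hxC) hP
    by_contra hno
    have hne : P < D := lt_of_le_of_ne hPD fun h => hno (by rw [← h] at hD; exact hD)
    have hlt := lt_inf_normalizer (sylowIn_isPGroup hD) hne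
    have h0 := hεbr _ ((sylowIn_isPGroup hD).to_le inf_le_left) hlt inf_le_right
    have h1 := congrArg (fun w : MonoidAlgebra (Res M) G => w.coeff x) h0
    simp only [coeff_br, MonoidAlgebra.coeff_zero, Finsupp.zero_apply] at h1
    rw [if_pos (le_centralizer_singleton.1 (inf_le_left.trans (sylowIn_le hD)))] at h1
    exact hx h1
  let f : G → Res M := fun z =>
    if h : ∃ x, IsConj x z ∧ Good x then ε.coeff h.choose else 0
  have hwd : ∀ z x x', IsConj x z → Good x → IsConj x' z → Good x' →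
      ε.coeff x = ε.coeff x' := by
    intro z x x' hxz hx hxz' hx'
    obtain ⟨g, rfl⟩ := isConj_iff.1 (hxz.trans hxz'.symm)
    obtain ⟨u, hu, huP⟩ := sylowIn_isConj (sylowIn_conj hx g) hx'
    rw [conjSub_mul, conjSub_eq_self_iff] at huP
    rw [← coeff_conj_of_fixed hεN huP x]
    congr 1
    calc u * g * x * (u * g)⁻¹ = u * (g * x * g⁻¹) * u⁻¹ := by group
      _ = g * x * g⁻¹ := by rw [mem_centralizer_singleton.1 hu, mul_inv_cancel_right]
  have hfx : ∀ z x, IsConj x z → Good x → f z = ε.coeff x := by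
    intro z x hxz hx
    have h : ∃ x, IsConj x z ∧ Good x := ⟨x, hxz, hx⟩
    simp only [f, dif_pos h]
    exact hwd z _ _ h.choose_spec.1 h.choose_spec.2 hxz hx
  let y : MonoidAlgebra (Res M) G := MonoidAlgebra.ofCoeff (Finsupp.equivFunOnFinite.symm f)
  have hy : ∀ z, y.coeff z = f z := fun z => by simp [y]
  have hbr : br P y = ε := by
    ext x
    rw [coeff_br, hy]
    by_cases hxC : x ∈ Subgroup.centralizer (P : Set G)
    · rw [if_pos hxC]
      by_cases hx : Good x
      · exact hfx x x (IsConj.refl x) hx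
      · have hno : ¬ ∃ x', IsConj x' x ∧ Good x' := by
          rintro ⟨x', hc, hx'⟩
          obtain ⟨g, rfl⟩ := isConj_iff.1 hc
          refine hx (sylowIn_of_card_eq (le_centralizer_singleton.2 hxC) hP ?_)
          rw [← sylowIn_card (sylowIn_conj hx' g), card_conjSub]
        simp only [f, dif_neg hno]
        by_contra h
        exact hx (hsupp x (Ne.symm h))
    · rw [if_neg hxC]
      exact (hεC x hxC).symm
  refine ⟨y, ?_, by rw [hbr, hεe], ?_, fun e' he' h => hεorb e' he' (hbr ▸ h)⟩
  · intro u _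
    ext z
    rw [coeff_cj, hy, hy]
    have hzz : IsConj z (u⁻¹ * z * u) := isConj_iff.2 ⟨u⁻¹, by group⟩
    by_cases h : ∃ x, IsConj x z ∧ Good x
    · obtain ⟨x, hx, hx'⟩ := h
      rw [hfx z x hx hx', hfx _ x (hx.trans hzz) hx']
    · have h' : ¬ ∃ x, IsConj x (u⁻¹ * z * u) ∧ Good x :=
        fun ⟨x, hx, hx'⟩ => h ⟨x, hx.trans hzz.symm, hx'⟩
      simp only [f, dif_neg h, dif_neg h']
  · intro R hR hne
    obtain ⟨z, hz⟩ : ∃ z, (br R y).coeff z ≠ 0 := by
      by_contra hno
      push Not at hno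
      exact hne (MonoidAlgebra.coeff_injective (Finsupp.ext hno))
    rw [coeff_br] at hz
    by_cases hzC : z ∈ Subgroup.centralizer (R : Set G)
    swap
    · exact absurd (if_neg hzC) hz
    rw [if_pos hzC, hy] at hz
    by_cases h : ∃ x, IsConj x z ∧ Good x
    swap
    · exact absurd (dif_neg h) hz
    obtain ⟨x, hxz, hx⟩ := h
    obtain ⟨g, rfl⟩ := isConj_iff.1 hxz
    obtain ⟨u, -, hu⟩ := le_conjSub_of_sylowIn (sylowIn_conj hx g)
      (le_centralizer_singleton.2 hzC) hR
    exact ⟨u * g, conjSub_mul u g P ▸ hu⟩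

/-- The block idempotent is a multiple of the central element of a maximal pair. -/
theorem exists_mul_eq_blk {B : Set (IrrCharacter G)} {P : Subgroup G}
    {e : Set (IrrCharacter (Subgroup.centralizer (P : Set G)))}
    (h : IsBrauerPairOf p M B P e) {y : MonoidAlgebra (Res M) G} (hy : Fixed ⊤ y)
    (hye : br P y * cb M P e = cb M P e) : ∃ w, Fixed ⊤ w ∧ y * w = blk M B := by
  classical
  have := res_charP hM
  have := Fintype.ofFinite G
  obtain ⟨⟨hP, he⟩, hB, hle⟩ := (isBrauerPairOf_iff hM).1 h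
  by_contra hno
  push Not at hno
  have hzero : ∀ ξ ∈ B, lamG M ξ y = 0 := fun ξ hξ => by
    by_contra hne
    obtain ⟨w, hw, hyw⟩ := exists_inverseG hM hy hB hξ hne
    exact hno w hw hyw
  have hfz : Fixed ⊤ (y * blk M B) := hy.mul (fixed_blk B)
  obtain ⟨n, hn⟩ := isNilpotent_of_lamG hM hfz fun ξ => by
    rw [lamG_mul hM hy (fixed_blk B), lamG_blk hM hB]
    by_cases hξ : ξ ∈ B
    · rw [hzero ξ hξ, zero_mul]
    · rw [if_neg hξ, mul_zero]
  have key : ∀ m : ℕ, br P ((y * blk M B) ^ m) * cb M P e = cb M P e := by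
    intro m
    induction m with
    | zero => rw [pow_zero, br_one, one_mul]
    | succ m ih =>
      have hfm : Fixed P ((y * blk M B) ^ m) := fun u _ => by
        rw [map_pow, hfz u (Subgroup.mem_top u)]
      rw [pow_succ, br_mul (p := p) hP hfm (hfz.mono le_top),
        br_mul (p := p) hP (hy.mono le_top) ((fixed_blk B).mono le_top), mul_assoc, mul_assoc,
        hle, hye, ih]
  have := key n
  rw [hn, br_zero, zero_mul] at this
  exact bIdem_ne_zero hM he this.symm

/-- The subgroup of a maximal pair is a defect group. -/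
theorem maximal_isDefectGroup {B : Set (IrrCharacter G)} {P : Subgroup G}
    {e : Set (IrrCharacter (Subgroup.centralizer (P : Set G)))}
    (hmax : IsMaximalBrauerPair p M B P e) : IsDefectGroup p M B P := by
  have := res_charP hM
  have := Fintype.ofFinite G
  obtain ⟨⟨hP, he⟩, hB, hle⟩ := (isBrauerPairOf_iff hM).1 hmax.1
  have hne : br P (blk M B) ≠ 0 := fun h => bIdem_ne_zero hM he (by
    rw [h, zero_mul] at hle
    exact hle.symm)
  obtain ⟨D, hD, hPD⟩ := exists_defectGroup_ge hM hB hP hne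
  obtain ⟨y, hy, hye, hbr, -⟩ := exists_defect_element hM hmax
  obtain ⟨w, hw, hyw⟩ := exists_mul_eq_blk hM hmax.1 hy hye
  have hDp := isPGroup_defectGroup hM hD
  obtain ⟨g, hg⟩ := hbr D hDp fun h0 => br_defectGroup_ne_zero hM hD (by
    rw [← hyw, br_mul (p := p) hDp (hy.mono le_top) (hw.mono le_top), h0, zero_mul])
  have hcard : Nat.card D ≤ Nat.card P :=
    (Subgroup.card_le_of_le hg).trans_eq (card_conjSub g P)
  rwa [Subgroup.eq_of_le_of_card_ge hPD hcard]

/-- Pairs of the block on the subgroup of a maximal pair are conjugate under the normaliser. -/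
theorem maximal_conj_of_same_subgroup {B : Set (IrrCharacter G)} {P : Subgroup G}
    {e e' : Set (IrrCharacter (Subgroup.centralizer (P : Set G)))}
    (hmax : IsMaximalBrauerPair p M B P e) (he' : IsBrauerPairOf p M B P e') :
    ∃ n ∈ Subgroup.normalizer (P : Set G),
      conjIdx n (⟨P, e⟩ : BrauerPairIdx G) = ⟨P, e'⟩ := by
  have := res_charP hM
  have := Fintype.ofFinite G
  obtain ⟨⟨hP, he1⟩, hB, hle⟩ := (isBrauerPairOf_iff hM).1 he'
  obtain ⟨y, hy, hye, -, horb⟩ := exists_defect_element hM hmax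
  obtain ⟨w, hw, hyw⟩ := exists_mul_eq_blk hM hmax.1 hy hye
  obtain ⟨n, hn, hne⟩ := horb e' he1 fun h0 => bIdem_ne_zero hM he1 (by
    rw [← hyw, br_mul (p := p) hP (hy.mono le_top) (hw.mono le_top), mul_assoc,
      ← (bIdem_central _ e').2.commute (suppIn_br P w), ← mul_assoc, h0, zero_mul] at hle
    exact hle.symm)
  refine ⟨n, hn, idx_ext hM (conjSub_eq_self_iff.2 hn) (isPBlock_conjBlock _ _ hmax.1.1.2) he1 ?_⟩
  show cb M (conjSub n P) (conjBlock P n e) = cb M P e'
  rw [← cj_cb hM, hne]

/-- Every pair of a block lies below a maximal one. -/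
theorem exists_maximal_ge {B : Set (IrrCharacter G)} {Q : Subgroup G}
    {f : Set (IrrCharacter (Subgroup.centralizer (Q : Set G)))}
    (h : IsBrauerPairOf p M B Q f) :
    ∃ (P : Subgroup G) (e : Set (IrrCharacter (Subgroup.centralizer (P : Set G)))),
      IsMaximalBrauerPair p M B P e ∧ SubpairLE p M Q f P e := by
  induction hn : Nat.card G - Nat.card Q using Nat.strong_induction_on generalizing Q with
  | _ n ih =>
  by_cases hmax : IsMaximalBrauerPair p M B Q f
  · exact ⟨Q, f, hmax, Relation.ReflTransGen.refl⟩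
  obtain ⟨R, g, hg, hle, hne⟩ : ∃ (R : Subgroup G)
      (g : Set (IrrCharacter (Subgroup.centralizer (R : Set G)))),
      IsBrauerPairOf p M B R g ∧ SubpairLE p M Q f R g ∧ R ≠ Q := by
    by_contra hno
    push Not at hno
    exact hmax ⟨h, hno⟩
  have hQR : Q ≤ R :=
    subgroup_le_of_subpairLE (a := (⟨Q, f⟩ : BrauerPairIdx G)) (b := ⟨R, g⟩) hle
  have hcard : Nat.card Q < Nat.card R := by
    by_contra hc
    exact hne (Subgroup.eq_of_le_of_card_ge hQR (not_lt.1 hc)).symm
  obtain ⟨P, e, hP, hPle⟩ := ih (Nat.card G - Nat.card R) (by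
    have := Subgroup.card_le_card_group R
    omega) hg rfl
  exact ⟨P, e, hP, hle.trans hPle⟩

/-- Every pair of the block is conjugate into a given maximal pair. -/
theorem exists_conj_le_maximal {B : Set (IrrCharacter G)} {P Q : Subgroup G}
    {e : Set (IrrCharacter (Subgroup.centralizer (P : Set G)))}
    {f : Set (IrrCharacter (Subgroup.centralizer (Q : Set G)))}
    (hmax : IsMaximalBrauerPair p M B P e) (hf : IsBrauerPairOf p M B Q f) :
    ∃ x : G, SubpairLE p M (conjSub x Q) (conjBlock Q x f) P e := by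
  obtain ⟨R, g, hR, hle⟩ := exists_maximal_ge hM hf
  obtain ⟨x, hx⟩ := isDefectGroup_conj_eq hM hmax.1.2.1 (maximal_isDefectGroup hM hR)
    (maximal_isDefectGroup hM hmax)
  subst hx
  obtain ⟨n, hn, hidx⟩ := maximal_conj_of_same_subgroup hM hmax (isBrauerPairOf_conj hM hR.1 x)
  have hn' : n⁻¹ ∈ Subgroup.normalizer (conjSub x R : Set G) := inv_mem hn
  refine ⟨n⁻¹ * x, ?_⟩
  have h1 : conjIdx (n⁻¹ * x) (⟨R, g⟩ : BrauerPairIdx G) = ⟨conjSub x R, e⟩ := by
    rw [← conjIdx_conjIdx hM n⁻¹ x (a := (⟨R, g⟩ : BrauerPairIdx G)) hR.1.1.2]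
    show conjIdx n⁻¹ (⟨conjSub x R, conjBlock R x g⟩ : BrauerPairIdx G) = _
    rw [← hidx, conjIdx_conjIdx hM _ _ (a := (⟨conjSub x R, e⟩ : BrauerPairIdx G)) hmax.1.1.2,
      inv_mul_cancel, conjIdx_one hM (a := (⟨conjSub x R, e⟩ : BrauerPairIdx G)) hmax.1.1.2]
  have h2 := subpairLE_conj hM hle (n⁻¹ * x)
  unfold SubpairLE at h2 ⊢
  rw [← h1]
  exact h2

end Cfsg.Agent.BrauerPairs
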