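import Cfsg.Agent.Lib.BrauerPairs.PermIdem
import Cfsg.Agent.Lib.BrauerPairs.Maximal
import Cfsg.Agent.Lib.ModRep.Basic
import Cfsg.Agent.Lib.Transfer.Residual

/-!
# Blocks of least possible dimension

`isNilpotentBlock_of_sum_sq`: if `Σ χ(1)² = |P|² / |D|` for a block with defect group `D` and a
Sylow subgroup `P`, then the block is a transitive `P × P`-permutation module, hence nilpotent.
-/

set_option autoImplicit false

open scoped ComplexConjugate

namespace Cfsg.Agent.BrauerPairs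

open Cfsg Cfsg.Agent.Blocks

variable {G : Type*} [Group G] [Finite G] {p : ℕ} {M : Ideal AlgInt}

/-- The reduction as a ring homomorphism. -/
noncomputable def resHom (hM : IsPModular p M) : locRing hM →+* Res M where
  toFun z := res M (z : ℂ)
  map_one' := res_one hM
  map_mul' z w := res_mul hM z.2 w.2
  map_zero' := res_zero hM
  map_add' z w := res_add hM z.2 w.2

/-- The trace of the translation matrix of a block idempotent. -/
theorem finrank_translation_eq [Fintype G] [DecidableEq G] (hM : IsPModular p M)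
    {B : Set (IrrCharacter G)} (hB : IsPBlock M B) :
    letI := ModRep.resField hM
    ((Module.finrank (Res M) (LinearMap.range (Matrix.toLin'
      (Matrix.of fun x y : G => (blk M B).coeff (x * y⁻¹)))) : ℕ) : ℂ)
      = ∑ᶠ χ ∈ B, (charDegree (χ : G → ℂ) : ℂ) ^ 2 := by
  letI := ModRep.resField hM
  haveI := ModRep.isAlgClosed_res hM
  have := Fintype.ofFinite (IrrCharacter G)
  let β : G → ℂ := blockCoeff B
  have hβ : conv β β = β := by
    simp only [β, blockCoeff_eq_ofOmega]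
    rw [← ofOmega_mul, blockInd_mul_self]
  let E : Matrix G G (locRing hM) :=
    Matrix.of fun x y => ⟨β (x * y⁻¹), Blocks.memR_blockCoeff hM hB _⟩
  have hE : E * E = E := by
    ext x y
    rw [Matrix.mul_apply]
    show (((∑ z, E x z * E z y) : locRing hM) : ℂ) = β (x * y⁻¹)
    rw [AddSubmonoidClass.coe_finsetSum]
    simp only [E, Matrix.of_apply, Subring.coe_mul]
    conv_rhs => rw [← hβ, conv_eq_sum]
    refine Fintype.sum_equiv ((Equiv.inv G).trans (Equiv.mulLeft x)) _ _ fun z => ?_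
    simp [mul_assoc]
  have h1 := finrank_range_map_eq (locRing hM).subtype Subtype.val_injective (resHom hM) hE
  have hmap : E.map (resHom hM) = Matrix.of fun x y : G => (blk M B).coeff (x * y⁻¹) := by
    ext x y
    rfl
  rw [hmap] at h1
  rw [h1]
  have hproj : IsIdempotentElem (Matrix.toLin' (E.map (locRing hM).subtype)) := by
    show Matrix.toLin' _ * Matrix.toLin' _ = _
    rw [Module.End.mul_eq_comp, ← Matrix.toLin'_mul, ← Matrix.map_mul, hE]
  rw [← (LinearMap.IsIdempotentElem.isProj_range _ hproj).trace, Matrix.trace_toLin'_eq,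
    Matrix.trace]
  simp only [E, Matrix.diag_apply, Matrix.map_apply, Matrix.of_apply, Subring.coe_subtype,
    mul_inv_cancel, Finset.sum_const, Finset.card_univ, nsmul_eq_mul, β, blockCoeff]
  rw [← mul_assoc, Nat.card_eq_fintype_card,
    mul_inv_cancel₀ (Nat.cast_ne_zero.mpr Fintype.card_ne_zero), one_mul]
  refine finsum_mem_congr rfl fun χ _ => ?_
  obtain ⟨n, hn⟩ : ∃ n : ℕ, (χ : G → ℂ) 1 = n := by
    obtain ⟨n, ρ, -, hρ⟩ := χ.2
    exact ⟨n, by rw [← hρ, Representation.char_one, Module.finrank_fintype_fun_eq_card, Fintype.card_fin]⟩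
  rw [hn, Complex.conj_natCast, show charDegree (χ : G → ℂ) = n by simp [charDegree, hn], pow_two]

/-- A block of least possible dimension is nilpotent. -/
theorem isNilpotentBlock_of_sum_sq [Fact p.Prime] (hM : IsPModular p M)
    {B : Set (IrrCharacter G)} (hB : IsPBlock M B) {D : Subgroup G} (hD : IsDefectGroup p M B D)
    {a d : ℕ} (ha : (Nat.card G).factorization p = a) (hd : Nat.card D = p ^ d)
    (hmin : ∑ᶠ χ ∈ B, charDegree (χ : G → ℂ) ^ 2 = p ^ (2 * a - d)) :
    IsNilpotentBlock p M B := by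
  classical
  letI := ModRep.resField hM
  haveI := res_charP hM
  have := Fintype.ofFinite G
  have := Fintype.ofFinite (IrrCharacter G)
  refine ⟨hB, fun Q e hQe x hxN _ hxreg => ?_⟩
  have hQ : IsPGroup p Q := hQe.1.1
  have hbrQ : br Q (blk M B) ≠ 0 := fun h0 => by
    obtain ⟨hPe, -, h⟩ := (isBrauerPairOf_iff hM).1 hQe
    rw [h0, zero_mul] at h
    exact bIdem_ne_zero hM hPe.2 h.symm
  obtain ⟨D', hD', hQD⟩ := exists_defectGroup_ge hM hB hQ hbrQ
  obtain ⟨y₀, hy₀⟩ := isDefectGroup_conj_eq hM hB hD hD'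
  have hdD' : Nat.card D' = p ^ d := by rw [← hy₀, card_conjSub, hd]
  have hD'p : IsPGroup p D' := IsPGroup.of_card hdD'
  obtain ⟨P, hDP⟩ := hD'p.exists_le_sylow
  have hPcard : Nat.card (P : Subgroup G) = p ^ a := by rw [P.card_eq_multiplicity, ha]
  have hda : d ≤ a := (Nat.pow_le_pow_iff_right (Fact.out : p.Prime).one_lt).1
    (hdD' ▸ hPcard ▸ Subgroup.card_le_of_le hDP)
  let β : G → Res M := fun g => (blk M B).coeff g
  have hcls : ∀ g h : G, β (g * h * g⁻¹) = β h := fun g h =>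
    coeff_conj_of_fixed (fixed_blk B) (Subgroup.mem_top g) h
  letI : MulAction (↥(P : Subgroup G) × ↥(P : Subgroup G)) G :=
    { smul := fun ab g => (ab.1 : G) * g * (ab.2 : G)⁻¹
      one_smul := fun g => by show ((1 : (↥(P : Subgroup G) × ↥(P : Subgroup G))).1 : G) * g * ((1 : (↥(P : Subgroup G) × ↥(P : Subgroup G))).2 : G)⁻¹ = g; simp
      mul_smul := fun u v g => by
        show ((u * v).1 : G) * g * ((u * v).2 : G)⁻¹ = (u.1 : G) * ((v.1 : G) * g * (v.2 : G)⁻¹) * (u.2 : G)⁻¹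
        simp [mul_assoc] }
  have hsmul : ∀ (u : (↥(P : Subgroup G) × ↥(P : Subgroup G))) (g : G), u • g = (u.1 : G) * g * (u.2 : G)⁻¹ := fun _ _ => rfl
  have hA : IsPGroup p (↥(P : Subgroup G) × ↥(P : Subgroup G)) := IsPGroup.of_card (n := a + a) (by rw [Nat.card_prod, hPcard, pow_add])
  let E : G → G → Res M := fun z w => β (z * w⁻¹)
  have heq : ∀ (u : (↥(P : Subgroup G) × ↥(P : Subgroup G))) (z w : G), E (u • z) (u • w) = E z w := fun u z w => by
    show β _ = β _
    rw [hsmul, hsmul, ← hcls (u.1 : G) (z * w⁻¹)]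
    congr 1
    group
  have hidem : ∀ z w, ∑ t, E z t * E t w = E z w := by
    intro z w
    have h := congrArg (fun m : MonoidAlgebra (Res M) G => m.coeff (z * w⁻¹)) (blk_mul_self hM hB)
    simp only [coeff_mul_eq_sum] at h
    show _ = β _
    refine Eq.trans ?_ h
    refine Fintype.sum_equiv ((Equiv.inv G).trans (Equiv.mulLeft z)) _ _ fun t => ?_
    simp [E, β, mul_assoc]
  have hne : ∃ z w, E z w ≠ 0 := by
    by_contra hno
    push Not at hno
    refine blk_ne_zero hM hB (MonoidAlgebra.coeff_injective (Finsupp.ext fun g => ?_))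
    have := hno g 1
    simpa [E, β] using this
  -- the stabilizers
  let T : G → Subgroup G := fun w => (P : Subgroup G) ⊓ conjSub w (P : Subgroup G)
  have hT : ∀ w g, g ∈ T w ↔ g ∈ (P : Subgroup G) ∧ w⁻¹ * g * w ∈ (P : Subgroup G) := fun w g => by
    rw [Subgroup.mem_inf, mem_conjSub]
  have hstab : ∀ (w : G) (u : (↥(P : Subgroup G) × ↥(P : Subgroup G))), u • w = w ↔ (u.2 : G) = w⁻¹ * (u.1 : G) * w := fun w u => by
    rw [hsmul, mul_inv_eq_iff_eq_mul, mul_assoc w⁻¹, eq_inv_mul_iff_mul_eq]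
    exact eq_comm
  let stabEquiv : ∀ w : G, MulAction.stabilizer (↥(P : Subgroup G) × ↥(P : Subgroup G)) w ≃ T w := fun w =>
    { toFun := fun u => ⟨((u : (↥(P : Subgroup G) × ↥(P : Subgroup G))).1 : G), (hT w _).2 ⟨(u : (↥(P : Subgroup G) × ↥(P : Subgroup G))).1.2, by
        rw [← (hstab w u).1 u.2]; exact (u : (↥(P : Subgroup G) × ↥(P : Subgroup G))).2.2⟩⟩
      invFun := fun g => ⟨(⟨(g : G), ((hT w _).1 g.2).1⟩, ⟨w⁻¹ * (g : G) * w, ((hT w _).1 g.2).2⟩),
        (hstab w _).2 rfl⟩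
      left_inv := fun u => Subtype.ext (Prod.ext (Subtype.ext rfl)
        (Subtype.ext ((hstab w u).1 u.2).symm))
      right_inv := fun g => rfl }
  have hbig : ∀ z w, p ^ d < Nat.card (MulAction.stabilizer (↥(P : Subgroup G) × ↥(P : Subgroup G)) w) →
      (∀ u ∈ MulAction.stabilizer (↥(P : Subgroup G) × ↥(P : Subgroup G)) w, u • z = z) → E z w = 0 := by
    intro z w hlt hfix
    have hbr : br (T w) (blk M B) = 0 := by
      by_contra h0
      have h1 := card_le_of_br_ne_zero hM hB (P.isPGroup'.to_le inf_le_left) h0 hD'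
      rw [← Nat.card_congr (stabEquiv w), hdD'] at h1
      omega
    have hc : z * w⁻¹ ∈ Subgroup.centralizer (T w : Set G) := by
      refine Subgroup.mem_centralizer_iff.mpr fun g hg => ?_
      have hu := ((stabEquiv w).symm ⟨g, hg⟩).2
      have h2 := (hstab z _).1 (hfix _ hu)
      change w⁻¹ * g * w = z⁻¹ * g * z at h2
      calc g * (z * w⁻¹) = z * (z⁻¹ * g * z) * w⁻¹ := by group
        _ = z * (w⁻¹ * g * w) * w⁻¹ := by rw [h2]
        _ = z * w⁻¹ * g := by group
    have h3 := congrArg (fun m : MonoidAlgebra (Res M) G => m.coeff (z * w⁻¹)) hbr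
    simpa [coeff_br, hc, E, β] using h3
  have hrank : Module.finrank (Res M)
      (LinearMap.range (Matrix.toLin' (Matrix.of E))) = p ^ (2 * a - d) := by
    apply Nat.cast_injective (R := ℂ)
    rw [← hmin]
    refine (finrank_translation_eq hM hB).trans ?_
    rw [finsum_mem_eq_toFinset_sum, finsum_mem_eq_toFinset_sum]
    push_cast
    rfl
  obtain ⟨y, hy, hR⟩ := exists_transitive_cover hA E heq hidem hne hbig (by
    rw [hrank, ← pow_add, Nat.card_prod, hPcard, ← pow_add]
    congr 1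
    omega)
  -- a twisted diagonal of an automorphism induced by some `n ∈ N(S)`
  have key : ∀ (S : Subgroup G) (n : G), S ≤ (P : Subgroup G) →
      n ∈ Subgroup.normalizer (S : Set G) → br S (blk M B) ≠ 0 →
      ∃ z ∈ MulAction.orbit (↥(P : Subgroup G) × ↥(P : Subgroup G)) y, ∀ s ∈ S, n * s * n⁻¹ * z = z * s := by
    intro S n hS hn hbr
    have hconj : ∀ s : G, s ∈ S → n * s * n⁻¹ ∈ (P : Subgroup G) := fun s hs =>
      hS ((Subgroup.mem_normalizer_iff.1 hn s).1 hs)
    let f : S →* (↥(P : Subgroup G) × ↥(P : Subgroup G)) :=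
      { toFun := fun s => (⟨n * (s : G) * n⁻¹, hconj s s.2⟩, ⟨(s : G), hS s.2⟩)
        map_one' := Prod.ext (Subtype.ext (by simp)) (Subtype.ext (by simp))
        map_mul' := fun s t => Prod.ext (Subtype.ext (by simp [mul_assoc])) (Subtype.ext (by simp)) }
    by_contra hno
    push Not at hno
    obtain ⟨c, hc⟩ : ∃ c, (br S (blk M B)).coeff c ≠ 0 := by
      by_contra h
      push Not at h
      exact hbr (MonoidAlgebra.coeff_injective (Finsupp.ext h))
    rw [coeff_br] at hc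
    have hcC : c ∈ Subgroup.centralizer (S : Set G) := by_contra fun h => hc (if_neg h)
    rw [if_pos hcC] at hc
    refine hc ?_
    have hsum : ∀ g, ∑ t, E g t * (Pi.single n 1 : G → Res M) t = β (g * n⁻¹) := fun g => by
      rw [Finset.sum_eq_single n (fun t _ ht => by rw [Pi.single_eq_of_ne ht, mul_zero])
        (fun h => absurd (Finset.mem_univ n) h), Pi.single_eq_same, mul_one]
    have h := hR f.range (fun z hz => by
      obtain ⟨s, hs, hne'⟩ := hno z hz
      refine ⟨f ⟨s, hs⟩, ⟨_, rfl⟩, fun h => hne' ?_⟩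
      rw [hsmul] at h
      exact mul_inv_eq_iff_eq_mul.1 h) (Pi.single n 1) (by
      rintro _ ⟨s, rfl⟩ g
      rw [hsum, hsum]
      show β (n * (s : G) * n⁻¹ * g * (s : G)⁻¹ * n⁻¹) = _
      rw [← hcls (n * (s : G) * n⁻¹) (g * n⁻¹)]
      congr 1
      group) (c * n) (by
      rintro _ ⟨s, rfl⟩
      show n * (s : G) * n⁻¹ * (c * n) * (s : G)⁻¹ = c * n
      have h1 := Subgroup.mem_centralizer_iff.1 hcC (n * (s : G) * n⁻¹)
        ((Subgroup.mem_normalizer_iff.1 hn s).1 s.2)
      rw [← mul_assoc _ c, h1]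
      group)
    rw [hsum, mul_inv_cancel_right] at h
    exact h
  -- the diagonal of the defect group
  obtain ⟨z, hz, hzD⟩ := key D' 1 hDP (one_mem _) (br_defectGroup_ne_zero hM hD')
  have hzC : ∀ s ∈ D', s * z = z * s := fun s hs => by simpa using hzD s hs
  have hTz : T z = D' := by
    refine (Subgroup.eq_of_le_of_card_ge (fun g hg => (hT z g).2 ⟨hDP hg, ?_⟩) ?_).symm
    · rw [mul_assoc, hzC g hg, inv_mul_cancel_left]
      exact hDP hg
    · obtain ⟨u, rfl⟩ := hz
      rw [← Nat.card_congr (stabEquiv (u • y)), MulAction.stabilizer_smul_eq_stabilizer_map_conj,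
        Subgroup.card_map_of_injective (MulAut.conj u).injective, hy, hdD']
  -- the twisted diagonal
  obtain ⟨z', hz', hzQ⟩ := key Q x (hQD.trans hDP) hxN hbrQ
  rw [← MulAction.orbit_eq_iff.2 hz] at hz'
  obtain ⟨⟨u₁, u₂⟩, hu⟩ := hz'
  have hu' : (u₁ : G) * z * (u₂ : G)⁻¹ = z' := hu
  subst hu'
  let n : G := (u₁ : G) * (u₂ : G)⁻¹
  have hnP : n ∈ (P : Subgroup G) := mul_mem u₁.2 (inv_mem u₂.2)
  have hn : ∀ q ∈ Q, x * q * x⁻¹ = n * q * n⁻¹ := by
    intro q hq
    have h := hzQ q hq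
    have hl : z⁻¹ * ((u₁ : G)⁻¹ * (x * q * x⁻¹) * u₁) * z = (u₂ : G)⁻¹ * q * u₂ := by
      calc _ = z⁻¹ * (u₁ : G)⁻¹ * (x * q * x⁻¹ * ((u₁ : G) * z * (u₂ : G)⁻¹)) * u₂ := by group
        _ = _ := by rw [h]; group
    have hmem : (u₁ : G)⁻¹ * (x * q * x⁻¹) * u₁ ∈ T z := (hT z _).2 ⟨mul_mem (mul_mem (inv_mem u₁.2)
      (hDP (hQD ((Subgroup.mem_normalizer_iff.1 hxN q).1 hq)))) u₁.2,
      hl ▸ mul_mem (mul_mem (inv_mem u₂.2) (hDP (hQD hq))) u₂.2⟩
    rw [hTz] at hmem
    have hcz : z⁻¹ * ((u₁ : G)⁻¹ * (x * q * x⁻¹) * u₁) * z = (u₁ : G)⁻¹ * (x * q * x⁻¹) * u₁ := by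
      rw [mul_assoc, hzC _ hmem, inv_mul_cancel_left]
    rw [hcz] at hl
    calc x * q * x⁻¹ = (u₁ : G) * ((u₁ : G)⁻¹ * (x * q * x⁻¹) * u₁) * (u₁ : G)⁻¹ := by group
      _ = n * q * n⁻¹ := by rw [hl]; simp only [n]; group
  have hpow : ∀ (i : ℕ), ∀ q ∈ Q, x ^ i * q * (x ^ i)⁻¹ = n ^ i * q * (n ^ i)⁻¹ := by
    intro i
    induction i with
    | zero => simp
    | succ i ih =>
      intro q hq
      have hq' : x * q * x⁻¹ ∈ Q := (Subgroup.mem_normalizer_iff.1 hxN q).1 hq
      calc x ^ (i + 1) * q * (x ^ (i + 1))⁻¹ = x ^ i * (x * q * x⁻¹) * (x ^ i)⁻¹ := by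
            rw [pow_succ]; group
        _ = n ^ i * (x * q * x⁻¹) * (n ^ i)⁻¹ := ih _ hq'
        _ = n ^ i * (n * q * n⁻¹) * (n ^ i)⁻¹ := by rw [hn q hq]
        _ = n ^ (i + 1) * q * (n ^ (i + 1))⁻¹ := by rw [pow_succ]; group
  have hpa : x ^ p ^ a ∈ Subgroup.centralizer (Q : Set G) := by
    refine Subgroup.mem_centralizer_iff.mpr fun q hq => ?_
    have hn1 : n ^ p ^ a = 1 := by
      have := congrArg Subtype.val (pow_card_eq_one' (x := (⟨n, hnP⟩ : (P : Subgroup G))))
      rw [hPcard] at this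
      simpa using this
    have h := hpow (p ^ a) q hq
    rw [hn1, one_mul, inv_one, mul_one, mul_inv_eq_iff_eq_mul] at h
    exact h.symm
  exact Transfer.mem_of_pow_mem_of_coprime
    (((Fact.out : p.Prime).coprime_iff_not_dvd.2 hxreg).pow_left a) hpa (b := orderOf x) (by
      rw [pow_orderOf_eq_one]; exact one_mem _)

end Cfsg.Agent.BrauerPairs
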