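import Cfsg.Agent.Lib.BrauerPairs.Principal
import Cfsg.Agent.Lib.Transfer.Residual

/-!
# The principal block and normal p-complements

* `isNilpotentBlock_of_complement`: groups with a normal p-complement have nilpotent blocks;
* `local_centralizes_of_nilpotent`: if the principal block is nilpotent, p'-elements of `N(Q)`
  centralise the p-subgroup `Q`;
* `blockRank_principal_of_complement`, `complement_of_blockRank_principal`.
-/

set_option autoImplicit false

namespace Cfsg.Agent.BrauerPairs

open Cfsg Cfsg.Agent.Blocks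

universe u

variable {G : Type u} [Group G] [Fintype G] {p : ℕ} [Fact p.Prime] {M : Ideal AlgInt}

theorem coprime_orderOf_iff (x : G) : Nat.Coprime (orderOf x) p ↔ IsPRegular p x :=
  Nat.coprime_comm.trans (Fact.out : p.Prime).coprime_iff_not_dvd

/-- Blocks of a group with a normal p-complement are nilpotent. -/
theorem isNilpotentBlock_of_complement (h : HasNormalPComplement p G)
    {B : Set (IrrCharacter G)} (hB : IsPBlock M B) : IsNilpotentBlock p M B := by
  refine ⟨hB, fun Q e hQe x hxN _ hx => ?_⟩
  have hQ : IsPGroup p Q := hQe.1.1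
  have hcop := Cfsg.Agent.Transfer.hasNormalPComplement_iff_coprime.1 h
  have hxR : x ∈ pResidual p G :=
    (Cfsg.Agent.Transfer.mem_pResidual_iff h x).2 ((coprime_orderOf_iff x).2 hx)
  rw [Subgroup.mem_centralizer_iff]
  intro q hq
  have hmem : q * x * q⁻¹ * x⁻¹ ∈ pResidual p G :=
    mul_mem (Cfsg.Agent.Transfer.pResidual_normal.conj_mem x hxR q) (inv_mem hxR)
  have hmemQ : q * x * q⁻¹ * x⁻¹ ∈ Q := by
    have : x * q⁻¹ * x⁻¹ ∈ Q := (Subgroup.mem_normalizer_iff.1 hxN q⁻¹).1 (inv_mem hq)
    simpa [mul_assoc] using mul_mem hq this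
  have h1 : q * x * q⁻¹ * x⁻¹ = 1 := by
    rw [← orderOf_eq_one_iff]
    refine Nat.eq_one_of_dvd_coprimes ?_ (Subgroup.orderOf_dvd_natCard _ hmem) (Subgroup.orderOf_dvd_natCard _ hmemQ)
    obtain ⟨k, hk⟩ := IsPGroup.iff_card.1 hQ
    rw [hk]
    exact hcop.pow_right k
  rwa [mul_inv_eq_one, mul_inv_eq_iff_eq_mul] at h1

/-- In a group whose principal block is nilpotent, p'-elements of `N(Q)` centralise `Q`. -/
theorem local_centralizes_of_nilpotent (hM : IsPModular p M) (hint : IntegralPrincipal.{u} M)
    (h : IsNilpotentBlock p M (principalBlock M G)) {Q : Subgroup G} (hQ : IsPGroup p Q) {g : G}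
    (hg : g ∈ Subgroup.normalizer (Q : Set G)) (hg' : Nat.Coprime (orderOf g) p) :
    g ∈ Subgroup.centralizer (Q : Set G) :=
  h.2 Q _ (brauerPairOf_principal hM hint hQ) g hg
    (stabilizes_principal _ (mem_normalizer_centralizer hg)) ((coprime_orderOf_iff g).1 hg')

/-- The principal block of a group with a normal p-complement has rank one. -/
theorem blockRank_principal_of_complement (hM : IsPModular p M) (h : HasNormalPComplement p G) :
    blockRank p (principalBlock M G) = 1 := by
  classical
  have hcop := Cfsg.Agent.Transfer.hasNormalPComplement_iff_coprime.1 h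
  set K := pResidual p G with hK
  have hKn : K.Normal := Cfsg.Agent.Transfer.pResidual_normal
  have hKnp : ¬ p ∣ Nat.card K :=
    (Fact.out : p.Prime).coprime_iff_not_dvd.1 (Nat.coprime_comm.1 hcop)
  have htriv : ∀ χ ∈ principalBlock M G, ∀ g ∈ K, (χ : G → ℂ) g = (χ : G → ℂ) 1 := by
    intro χ hχ g hg
    obtain ⟨n, ρ, hirr, hρ⟩ := χ.2
    let f : G → ℂ := fun x => if x ∈ K then 1 else 0
    have hf : IsClassFunction G f := fun x y => by
      have hiff : y * x * y⁻¹ ∈ K ↔ x ∈ K :=
        ⟨fun h' => by simpa [mul_assoc] using hKn.conj_mem _ h' y⁻¹, fun h' => hKn.conj_mem x h' y⟩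
      simp only [f, hiff]
    have hR : ∀ x, MemLocalRing M (f x) := fun x => by
      simp only [f]
      split_ifs
      · exact memR_one hM
      · exact memR_zero hM
    have key := sum_mul_sub_of_sameBlock hM hf (fun _ _ => rfl)
      (Cfsg.Agent.Char.IsIrrCharacter.isClassFunction χ.2) hR hχ
    set d := Module.finrank ℂ (Representation.invariants (ρ.comp K.subtype)) with hd
    have hKne : (Nat.card K : ℂ) ≠ 0 := Nat.cast_ne_zero.2 Nat.card_pos.ne'
    have : Invertible (Nat.card K : ℂ) := invertibleOfNonzero hKne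
    have hsum : ∑ x : K, (χ : G → ℂ) x = (Nat.card K : ℂ) * (d : ℂ) := by
      rw [hd, ← Representation.card_inv_mul_sum_char_eq_finrank (ρ.comp K.subtype), ← mul_assoc,
        mul_inv_cancel₀ hKne, one_mul, ← hρ]
      rfl
    have hd0 : d ≠ 0 := by
      intro hd0
      refine not_memI_natCast hM hKnp ?_
      have e1 : (∑ x, f x * (1 : ℂ) / 1) = (Nat.card K : ℂ) := by
        simp [f, Finset.sum_boole, Nat.card_eq_fintype_card, Fintype.card_subtype]
      have e2 : (∑ x, f x * (χ : G → ℂ) x / (χ : G → ℂ) 1) = 0 := by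
        rw [← Finset.sum_div]
        simp only [f, ite_mul, one_mul, zero_mul]
        rw [← Finset.sum_filter, Finset.sum_subtype (p := fun x => x ∈ K) _ (fun x => by simp)
          (χ : G → ℂ), hsum, hd0, Nat.cast_zero, mul_zero, zero_div]
      rw [e1, e2, sub_zero] at key
      exact key
    let W : Subrepresentation ρ :=
      ⟨Representation.invariants (ρ.comp K.subtype), fun a v hv k => by
        have hv' := hv ⟨a⁻¹ * (k : G) * a, by simpa using hKn.conj_mem _ k.2 a⁻¹⟩
        simp only [MonoidHom.comp_apply, Subgroup.coe_subtype] at hv' ⊢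
        rw [← Module.End.mul_apply, ← map_mul, show (k : G) * a = a * (a⁻¹ * (k : G) * a) by group,
          map_mul, Module.End.mul_apply, hv']⟩
    have hW : W = ⊤ := by
      have := hirr
      rcases eq_bot_or_eq_top W with hb | ht
      · refine absurd ?_ hd0
        have hb' : Representation.invariants (ρ.comp K.subtype) = ⊥ :=
          congrArg Subrepresentation.toSubmodule hb
        rw [hd, hb', finrank_bot]
      · exact ht
    have hid : ρ g = LinearMap.id := LinearMap.ext fun v => by
      have hv : v ∈ W.toSubmodule := by rw [hW]; exact Submodule.mem_top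
      exact hv ⟨g, hg⟩
    rw [← hρ, Representation.char_one]
    exact (Cfsg.Agent.Char.character_eq_finrank_iff ρ g).2 hid
  have hreg : ∀ x : G, IsPRegular p x → x ∈ K := fun x hx =>
    (Cfsg.Agent.Transfer.mem_pResidual_iff h x).2 ((coprime_orderOf_iff x).2 hx)
  set v : G → ℂ := pRegularPart p (fun _ => 1) with hv
  have hv0 : v ≠ 0 := by
    intro h0
    have := congrFun h0 1
    simp [hv, pRegularPart, IsPRegular, (Fact.out : p.Prime).ne_one] at this
  have hspan : Submodule.span ℂ ((fun χ : IrrCharacter G => pRegularPart p (χ : G → ℂ)) ''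
      principalBlock M G) = Submodule.span ℂ {v} := by
    apply le_antisymm
    · rw [Submodule.span_le]
      rintro _ ⟨χ, hχ, rfl⟩
      refine Submodule.mem_span_singleton.2 ⟨(χ : G → ℂ) 1, funext fun x => ?_⟩
      simp only [hv, pRegularPart, Pi.smul_apply, smul_eq_mul]
      split_ifs with hx
      · rw [mul_one, htriv χ hχ x (hreg x hx)]
      · rw [mul_zero]
    · rw [Submodule.span_le, Set.singleton_subset_iff]
      exact Submodule.subset_span ⟨oneIrr G, oneIrr_mem_principal hM, rfl⟩
  rw [blockRank, hspan, finrank_span_singleton hv0]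

/-- If the principal block has rank one, there is a normal p-complement. -/
theorem complement_of_blockRank_principal (hM : IsPModular p M) (hint : IntegralPrincipal.{u} M)
    (h : blockRank p (principalBlock M G) = 1) : HasNormalPComplement p G := by
  classical
  have hp : p.Prime := Fact.out
  -- members of the principal block are constant on p-regular elements
  have hconst : ∀ χ ∈ principalBlock M G, ∀ x : G, IsPRegular p x →
      (χ : G → ℂ) x = (χ : G → ℂ) 1 := by
    intro χ hχ x hx
    set V := Submodule.span ℂ ((fun χ : IrrCharacter G => pRegularPart p (χ : G → ℂ)) ''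
      principalBlock M G) with hV
    have h1 : IsPRegular p (1 : G) := by simp [IsPRegular, hp.ne_one]
    have hmem : ∀ θ ∈ principalBlock M G, pRegularPart p (θ : G → ℂ) ∈ V := fun θ hθ =>
      Submodule.subset_span ⟨θ, hθ, rfl⟩
    have hne : (⟨_, hmem _ (oneIrr_mem_principal hM)⟩ : V) ≠ 0 := by
      intro h0
      have := congrFun (congrArg Subtype.val h0) 1
      simp [pRegularPart, h1, oneIrr] at this
    obtain ⟨c, hc⟩ := exists_smul_eq_of_finrank_eq_one (K := ℂ) (V := V) h hne ⟨_, hmem χ hχ⟩
    have hc' : ∀ y, c * pRegularPart p (fun _ : G => (1 : ℂ)) y = pRegularPart p (χ : G → ℂ) y :=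
      fun y => congrFun (congrArg Subtype.val hc) y
    have hy1 := hc' 1
    have hyx := hc' x
    simp only [pRegularPart, h1, hx, if_true, mul_one] at hy1 hyx
    rw [← hyx, ← hy1]
  -- the kernel of the principal block
  let K : Subgroup G := Subgroup.closure {g | ∀ χ ∈ principalBlock M G, (χ : G → ℂ) g = (χ : G → ℂ) 1}
  have hKn : K.Normal := by
    apply Subgroup.Normal.mk
    intro k hk a
    induction hk using Subgroup.closure_induction with
    | mem y hy =>
      refine Subgroup.subset_closure fun χ hχ => ?_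
      rw [Cfsg.Agent.Char.IsIrrCharacter.isClassFunction χ.2 y a]
      exact hy χ hχ
    | one => simp
    | mul y z _ _ iy iz => simpa [mul_assoc] using mul_mem iy iz
    | inv y _ iy => simpa [mul_assoc] using inv_mem iy
  have hKker : ∀ g ∈ K, ∀ χ ∈ principalBlock M G, ∀ x : G, (χ : G → ℂ) (g * x) = (χ : G → ℂ) x := by
    intro g hg χ hχ
    induction hg using Subgroup.closure_induction with
    | mem y hy =>
      intro x
      obtain ⟨n, ρ, -, hρ⟩ := χ.2
      have hy' := hy χ hχ
      rw [← hρ, Representation.char_one] at hy'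
      rw [← hρ, Representation.character, map_mul,
        (Cfsg.Agent.Char.character_eq_finrank_iff ρ y).1 hy']
      rfl
    | one => simp
    | mul y z _ _ iy iz => intro x; rw [mul_assoc, iy, iz]
    | inv y _ iy => intro x; rw [← iy (y⁻¹ * x), mul_inv_cancel_left]
  have hKp : ¬ p ∣ Nat.card K := by
    intro hdvd
    obtain ⟨z, hz⟩ := exists_prime_orderOf_dvd_card' p hdvd
    set Z := Subgroup.zpowers (z : G) with hZ
    have hZcard : Nat.card Z = p := by
      rw [hZ, Nat.card_zpowers, Subgroup.orderOf_coe, hz]
    have hshift : ∀ (k : Z) (x : G), blockCoeff (principalBlock M G) (x * k) =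
        blockCoeff (principalBlock M G) x := by
      intro k x
      have hk : (k : G) ∈ K := Subgroup.zpowers_le.2 z.2 k.2
      simp only [blockCoeff]
      congr 1
      refine finsum_mem_congr rfl fun χ hχ => ?_
      have e := hKker (x * (k : G) * x⁻¹) (hKn.conj_mem _ hk x) χ hχ x
      rw [show x * (k : G) * x⁻¹ * x = x * k by group] at e
      rw [e]
    have hsum : ∑ x, blockCoeff (principalBlock M G) x =
        (p : ℂ) * ∑ q : G ⧸ Z, blockCoeff (principalBlock M G) q.out := by
      rw [← (Subgroup.groupEquivQuotientProdSubgroup (s := Z)).symm.sum_comp,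
        Fintype.sum_prod_type, Finset.mul_sum]
      refine Finset.sum_congr rfl fun q _ => ?_
      rw [Finset.sum_congr rfl (g := fun _ => blockCoeff (principalBlock M G) q.out),
        Finset.sum_const, Finset.card_univ, ← Nat.card_eq_fintype_card, hZcard, nsmul_eq_mul]
      intro k _
      obtain ⟨y, hy⟩ : ∃ y : Z, (Subgroup.groupEquivQuotientProdSubgroup (s := Z)).symm (q, k) =
          q.out * y := by
        refine ⟨⟨q.out⁻¹ * (Subgroup.groupEquivQuotientProdSubgroup (s := Z)).symm (q, k), ?_⟩,
          by simp⟩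
        rw [← QuotientGroup.eq, QuotientGroup.out_eq']
        have := congrArg Prod.fst ((Subgroup.groupEquivQuotientProdSubgroup (s := Z)).apply_symm_apply (q, k))
        exact this.symm
      rw [hy, hshift]
    apply not_memI_one hM
    rw [← sum_blockCoeff (oneIrr_mem_principal (G := G) hM), hsum]
    exact memI_mul_right hM (memI_p hM) (memR_sum hM _ fun q _ => hint G _)
  have hle : pResidual p G ≤ K := by
    refine Cfsg.Agent.Transfer.pResidual_le ?_
    intro q
    obtain ⟨g, rfl⟩ := QuotientGroup.mk_surjective q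
    obtain ⟨x, y, hxy, hx, hy, ⟨k, hk⟩, hyc⟩ := Cfsg.Agent.Transfer.exists_pPart_mul (p := p) g
    refine ⟨k, ?_⟩
    rw [← QuotientGroup.mk_pow, QuotientGroup.eq_one_iff, hxy]
    have hcomm : Commute x y := by
      obtain ⟨a, rfl⟩ := hx
      obtain ⟨b, rfl⟩ := hy
      exact (Commute.refl g).zpow_zpow a b
    rw [hcomm.mul_pow, ← hk, pow_orderOf_eq_one, one_mul]
    exact pow_mem (Subgroup.subset_closure (show y ∈ {g : G | ∀ χ ∈ principalBlock M G,
      (χ : G → ℂ) g = (χ : G → ℂ) 1} from fun χ hχ =>
      hconst χ hχ y ((coprime_orderOf_iff y).1 hyc))) _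
  rw [Cfsg.Agent.Transfer.hasNormalPComplement_iff_coprime]
  exact Nat.Coprime.coprime_dvd_left (Subgroup.card_dvd_of_le hle)
    (Nat.coprime_comm.1 (hp.coprime_iff_not_dvd.2 hKp))

end Cfsg.Agent.BrauerPairs
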