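import Cfsg.Agent.Lib.BrauerPairs.Maximal

/-!
# A stable block of a normal subgroup which is a block of the group

For `N ⊴ G`, a block `c` of `N` and a block `B` of `G` with the same idempotent modulo `M` and a
defect group `D` of `B`:
* `isDefectGroup_inter_normal`: `D ⊓ N` is a defect group of `c`;
* `not_dvd_index_sup_defect`: the index of `D ⊔ N` is prime to `p`.
-/

set_option autoImplicit false

namespace Cfsg.Agent.BrauerPairs

open Cfsg Cfsg.Agent.Blocks

variable {G : Type*} [Group G] [Finite G] {p : ℕ} {M : Ideal AlgInt}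

theorem centralChar_conj_eq {χ : G → ℂ} (hχ : IsClassFunction G χ) (g u : G) :
    centralChar χ (u * g * u⁻¹) = centralChar χ g := by
  have h := centralizer_index_equiv (MulAut.conj u) g
  rw [MulAut.conj_apply] at h
  rw [centralChar, centralChar, h, hχ g u]

theorem map_subtype_centralizer_singleton (N : Subgroup G) (x : N) :
    (Subgroup.centralizer ({x} : Set N)).map N.subtype =
      Subgroup.centralizer ({(x : G)} : Set G) ⊓ N := by
  ext y
  simp only [Subgroup.mem_map, Subgroup.mem_centralizer_singleton_iff, Subgroup.mem_inf,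
    Subgroup.coe_subtype]
  constructor
  · rintro ⟨z, hz, rfl⟩
    exact ⟨congrArg Subtype.val hz, z.2⟩
  · rintro ⟨hy, hyN⟩
    exact ⟨⟨y, hyN⟩, Subtype.ext hy, rfl⟩

variable (hM : IsPModular p M) [Fact p.Prime]
include hM

theorem isDefectGroup_inter_normal {N : Subgroup G} [N.Normal] {B : Set (IrrCharacter G)}
    (hB : IsPBlock M B) {c : Set (IrrCharacter N)} (hc : IsPBlock M c)
    (heq : bIdem M N c = blk M B) {D : Subgroup G} (hD : IsDefectGroup p M B D) :
    IsDefectGroup p M c ((D ⊓ N).subgroupOf N) := by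
  have hDp := isPGroup_defectGroup hM hD
  have hbr : br (D ⊓ N) (bIdem M N c) ≠ 0 := fun h => br_defectGroup_ne_zero hM hD (by
    rw [← br_br (inf_le_left : D ⊓ N ≤ D), ← heq, h, br_zero])
  obtain ⟨D₀, hD₀, hle⟩ := sub_exists_defectGroup_ge hM hc inf_le_right (hDp.to_le inf_le_left) hbr
  have hbr₀ := sub_br_defectGroup_ne_zero hM hD₀
  rw [heq] at hbr₀
  obtain ⟨D₁, hD₁, hle₁⟩ := exists_defectGroup_ge hM hB ((isPGroup_defectGroup hM hD₀).map _) hbr₀
  obtain ⟨y, rfl⟩ := isDefectGroup_conj_eq hM hB hD hD₁
  have hN : conjSub y N = N := conjSub_eq_self_iff.2 (by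
    rw [Subgroup.normalizer_eq_top]
    exact Subgroup.mem_top y)
  have h2 : D₀.map N.subtype ≤ conjSub y (D ⊓ N) := by
    refine le_trans (le_inf hle₁ ((Subgroup.map_subtype_le D₀).trans hN.ge)) ?_
    intro z hz
    rw [Subgroup.mem_inf, mem_conjSub, mem_conjSub] at hz
    exact mem_conjSub.2 hz
  have h3 := Subgroup.card_le_of_le h2
  rw [card_conjSub, Subgroup.card_map_of_injective N.subtype_injective,
    ← Nat.card_congr (Subgroup.subgroupOfEquivOfLe (inf_le_right : D ⊓ N ≤ N)).toEquiv] at h3
  rwa [Subgroup.eq_of_le_of_card_ge hle h3]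

open scoped Classical in
theorem not_dvd_index_sup_defect {N : Subgroup G} [N.Normal] {B : Set (IrrCharacter G)}
    (hB : IsPBlock M B) {c : Set (IrrCharacter N)} (hc : IsPBlock M c)
    (heq : bIdem M N c = blk M B) {D : Subgroup G} (hD : IsDefectGroup p M B D) :
    ¬ p ∣ (D ⊔ N).index := by
  have := res_charP hM
  have := res_nontrivial hM
  have := Fintype.ofFinite G
  have := Fintype.ofFinite (ConjClasses N)
  obtain ⟨S⟩ : Nonempty (Sylow p G) := inferInstance
  obtain ⟨ξ, hξ⟩ := isPBlock_nonempty hM hc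
  have hfix : ∀ u : G, cj u (bIdem M N c) = bIdem M N c := fun u => by
    rw [heq]
    exact fixed_blk B u (Subgroup.mem_top u)
  have hNu : ∀ u : G, u ∈ Subgroup.normalizer (N : Set G) := fun u => by
    rw [Subgroup.normalizer_eq_top]
    exact Subgroup.mem_top u
  let φ : G → (N ≃* N) := fun u => conjEquiv N N u (mem_normalizer_iff_conj (hNu u))
  have hφcoe : ∀ (u : G) (x : N), ((φ u x : N) : G) = u * x * u⁻¹ := fun u x => rfl
  let F : N → Res M := fun x => res M (blockCoeff c x * centralChar (ξ : N → ℂ) x)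
  have hFR : ∀ x : N, MemLocalRing M (blockCoeff c x * centralChar (ξ : N → ℂ) x) :=
    fun x => memR_mul hM (Blocks.memR_blockCoeff hM hc x) (memR_centralChar hM ξ x)
  have hFcl : ∀ x y : N, IsConj x y → F x = F y := by
    intro x y hxy
    obtain ⟨w, rfl⟩ := isConj_iff.1 hxy
    show res M _ = res M _
    rw [Blocks.isClassFunction_blockCoeff c x w, centralChar_conj_eq (irr_class ξ) x w]
  have hFφ : ∀ (u : G) (x : N), F (φ u x) = F x := by
    intro u x
    have h1 : blockCoeff c (φ u x) = blockCoeff c x := by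
      have h := subgroupBlockCoeff_conj_of_fixed hM hc (inv_mem (hNu u)) (hfix u⁻¹) (x : G)
      rw [inv_inv] at h
      have e1 := subgroupBlockCoeff_coe N c (φ u x)
      rw [hφcoe] at e1
      rw [← e1, h, subgroupBlockCoeff_coe]
    have h2 : MemLocalIdeal M (centralChar (ξ : N → ℂ) (φ u x) - centralChar (ξ : N → ℂ) x) := by
      rw [← centralChar_comp_equiv (φ u) (ξ : N → ℂ) x]
      have hmem : pullIrr (φ u) ξ ∈ c := by
        have himg := (conjImg_eq_self_iff hM hc (mem_normalizer_iff_conj (hNu u⁻¹))).2 (hfix u⁻¹)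
        rw [← himg]
        refine ⟨ξ, hξ, ?_⟩
        apply Subtype.ext
        funext k
        rw [pullIrr_apply, pullIrr_apply]
        refine congrArg (ξ : N → ℂ) (Subtype.ext ?_)
        show u⁻¹⁻¹ * (k : G) * u⁻¹ = u * (k : G) * u⁻¹
        rw [inv_inv]
      exact sameBlock_of_mem hM hc hmem hξ x
    show res M _ = res M _
    rw [h1, res_eq_iff hM (memR_mul hM (Blocks.memR_blockCoeff hM hc x) (memR_centralChar hM ξ _))
      (hFR x), ← mul_sub]
    exact memI_mul_left hM (Blocks.memR_blockCoeff hM hc x) h2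
  -- the central character at the idempotent is one
  have hone : ∑ q : ConjClasses N, F (Quotient.out q) = 1 := by
    have h := lamG_blk hM hc ξ
    rw [if_pos hξ, blk, lamG_red hM (Blocks.isClassFunction_blockCoeff c)
      (Blocks.memR_blockCoeff hM hc), omega_eq_sum_classes (Blocks.isClassFunction_blockCoeff c),
      ] at h
    exact (res_sum hM (Finset.univ : Finset (ConjClasses N))
      (f := fun q => blockCoeff c (Quotient.out q) * centralChar (ξ : N → ℂ) (Quotient.out q))
      fun q _ => hFR (Quotient.out q)).symm.trans h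
  let act : MulAction (S : Subgroup G) (ConjClasses N) :=
    { smul := fun u q => ConjClasses.map (φ (u : G)).toMonoidHom q
      one_smul := fun q => by
        refine Quotient.inductionOn q fun x => ?_
        show ConjClasses.mk (φ ((1 : (S : Subgroup G)) : G) x) = ConjClasses.mk x
        congr 1
        exact Subtype.ext (by simp [hφcoe])
      mul_smul := fun u v q => by
        refine Quotient.inductionOn q fun x => ?_
        show ConjClasses.mk (φ ((u * v : (S : Subgroup G)) : G) x) =
          ConjClasses.mk (φ (u : G) (φ (v : G) x))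
        congr 1
        exact Subtype.ext (by simp [hφcoe, mul_assoc]) }
  have hout : ∀ (u : (S : Subgroup G)) (q : ConjClasses N),
      IsConj (φ (u : G) (Quotient.out q)) (Quotient.out (u • q)) := by
    intro u q
    rw [← ConjClasses.mk_eq_mk_iff_isConj]
    refine Eq.trans ?_ (Quotient.out_eq (u • q)).symm
    show ConjClasses.map (φ (u : G)).toMonoidHom (ConjClasses.mk (Quotient.out q)) = u • q
    exact congrArg (ConjClasses.map (φ (u : G)).toMonoidHom) (Quotient.out_eq q)
  obtain ⟨q, hqfix, hq⟩ : ∃ q : ConjClasses N,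
      q ∈ MulAction.fixedPoints (S : Subgroup G) (ConjClasses N) ∧ F (Quotient.out q) ≠ 0 := by
    by_contra hno
    push Not at hno
    have h := sum_not_fixed_mem (p := p) S.isPGroup' (fun q : ConjClasses N => F (Quotient.out q))
      (fun u q => (hFcl _ _ (hout u q)).symm.trans (hFφ u _)) ⊥ (fun q => by
        rw [AddSubmonoid.mem_bot, nsmul_eq_mul, CharP.cast_eq_zero, zero_mul])
    rw [← Finset.sum_filter_add_sum_filter_not Finset.univ
      (fun q => q ∈ MulAction.fixedPoints (S : Subgroup G) (ConjClasses N)),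
      AddSubmonoid.mem_bot.1 h, add_zero, Finset.sum_eq_zero fun q hq =>
        hno q (Finset.mem_filter.1 hq).2] at hone
    exact zero_ne_one hone
  set x : N := Quotient.out q with hx
  set C := Subgroup.centralizer ({(x : G)} : Set G) with hC
  have hSC : (S : Subgroup G) ≤ C ⊔ N := by
    intro u hu
    have hc' : IsConj (φ u x) x := by
      have h := hout ⟨u, hu⟩ q
      rwa [hqfix ⟨u, hu⟩] at h
    obtain ⟨n, hn⟩ := isConj_iff.1 hc'
    have hn' : (n : G) * (u * x * u⁻¹) * (n : G)⁻¹ = x := congrArg Subtype.val hn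
    have hmem : (n : G) * u ∈ C := by
      rw [hC, Subgroup.mem_centralizer_singleton_iff]
      calc (n : G) * u * x = (n : G) * (u * x * u⁻¹) * (n : G)⁻¹ * ((n : G) * u) := by group
        _ = x * ((n : G) * u) := by rw [hn']
    have hu' : u = (n : G)⁻¹ * ((n : G) * u) := (inv_mul_cancel_left _ _).symm
    rw [hu']
    exact (C ⊔ N).mul_mem (inv_mem (Subgroup.mem_sup_right n.2)) (Subgroup.mem_sup_left hmem)
  have hxdef : IsDefectClass M c x := by
    have hne : ∀ η ∈ c, ¬ MemLocalIdeal M (centralChar (η : N → ℂ) x) := by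
      intro η hη hI
      refine hq ((res_eq_zero_iff hM (hFR x)).2 (memI_mul_left hM (Blocks.memR_blockCoeff hM hc x) ?_))
      exact (memI_iff_of_sub hM (sameBlock_of_mem hM hc hη hξ x)).1 hI
    exact ⟨Blocks.memR_blockCoeff hM hc x, fun hI => hq ((res_eq_zero_iff hM (hFR x)).2
      (memI_mul_right hM hI (memR_centralChar hM ξ x))), hne⟩
  -- orders
  obtain ⟨T₀, hT₀⟩ := sylowIn_exists p (Subgroup.centralizer ({x} : Set N))
  obtain ⟨y, hy⟩ := isDefectGroup_conj_eq hM hc (isDefectGroup_inter_normal hM hB hc heq hD)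
    ⟨x, hxdef, hT₀⟩
  have hcN : Nat.card (D ⊓ N : Subgroup G) = p ^ (Nat.card (C ⊓ N : Subgroup G)).factorization p := by
    rw [hC, ← map_subtype_centralizer_singleton, Subgroup.card_map_of_injective N.subtype_injective,
      ← sylowIn_card hT₀, ← hy, card_conjSub,
      Nat.card_congr (Subgroup.subgroupOfEquivOfLe (inf_le_right : D ⊓ N ≤ N)).toEquiv]
  obtain ⟨E, hE⟩ := sylowIn_exists p C
  have hbrE : br E (blk M B) ≠ 0 := fun h => by
    have h' := congrArg (fun w : MonoidAlgebra (Res M) G => w.coeff (x : G)) h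
    simp only [coeff_br, if_pos (le_centralizer_singleton.1 (sylowIn_le hE)), ← heq,
      coeff_bIdem hM, subgroupBlockCoeff_coe, MonoidAlgebra.coeff_zero, Finsupp.zero_apply] at h'
    exact hxdef.2.1 ((res_eq_zero_iff hM (Blocks.memR_blockCoeff hM hc x)).1 h')
  have hED : p ^ (Nat.card C).factorization p ≤ Nat.card D := by
    rw [← sylowIn_card hE]
    exact card_le_of_br_ne_zero hM hB (sylowIn_isPGroup hE) hbrE hD
  obtain ⟨d, hd⟩ := (IsPGroup.iff_card).1 (isPGroup_defectGroup hM hD)
  have key : ∀ A : Subgroup G, N.relIndex A * Nat.card (A ⊓ N : Subgroup G) = Nat.card A := by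
    intro A
    rw [← Nat.card_congr (Subgroup.subgroupOfEquivOfLe (inf_le_left : A ⊓ N ≤ A)).toEquiv,
      Subgroup.inf_subgroupOf_left, mul_comm]
    exact Subgroup.card_mul_index _
  have hpp : p.Prime := Fact.out
  have hC0 : ¬ p ∣ (C ⊔ N).index := fun h =>
    S.not_dvd_index (h.trans (Subgroup.index_dvd_of_le hSC))
  have e1 : N.relIndex C * (C ⊔ N).index = N.index := by
    rw [← Subgroup.relIndex_sup_right]
    exact Subgroup.relIndex_mul_index le_sup_right
  have e2 : N.relIndex D * (D ⊔ N).index = N.index := by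
    rw [← Subgroup.relIndex_sup_right]
    exact Subgroup.relIndex_mul_index le_sup_right
  intro hdvd
  have hpos : ∀ A : Subgroup G, N.relIndex A ≠ 0 ∧ Nat.card (A ⊓ N : Subgroup G) ≠ 0 :=
    fun A => by
      have h := key A
      have h' : N.relIndex A * Nat.card (A ⊓ N : Subgroup G) ≠ 0 := by
        rw [h]
        exact Nat.card_pos.ne'
      exact ⟨left_ne_zero_of_mul h', right_ne_zero_of_mul h'⟩
  have f0 := congrArg (fun n => n.factorization p) (e1.trans e2.symm)
  have f1 := congrArg (fun n => n.factorization p) (key C)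
  have f2 := congrArg (fun n => n.factorization p) (key D)
  have f3 := congrArg (fun n => n.factorization p) hcN
  simp only [Nat.factorization_mul (hpos C).1 Subgroup.FiniteIndex.index_ne_zero,
    Nat.factorization_mul (hpos D).1 Subgroup.FiniteIndex.index_ne_zero,
    Nat.factorization_mul (hpos C).1 (hpos C).2, Nat.factorization_mul (hpos D).1 (hpos D).2,
    Finsupp.add_apply, Nat.factorization_eq_zero_of_not_dvd hC0,
    hpp.factorization_pow, Finsupp.single_eq_same, hd] at f0 f1 f2 f3
  have hdle : (Nat.card C).factorization p ≤ d := by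
    rw [hd] at hED
    exact (Nat.pow_le_pow_iff_right hpp.one_lt).1 hED
  have hge : 1 ≤ (D ⊔ N).index.factorization p :=
    hpp.factorization_pos_of_dvd Subgroup.FiniteIndex.index_ne_zero hdvd
  omega

end Cfsg.Agent.BrauerPairs
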