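import Cfsg.Agent.Lib.BrauerPairs.Normal
import Cfsg.Agent.Lib.BrauerPairs.StableBlock
import Cfsg.Agent.Lib.BrauerPairs.PNilpotent
import Cfsg.Agent.Lib.Blocks.WeakOrth

/-!
# Normal subgroups of `p`-power index

* `mem_of_not_dvd_orderOf`: `p`-regular elements lie in such a subgroup;
* `suppIn_bIdem_of_pPower`: block idempotents live there;
* `exists_blk_le`, `blk_eq_bIdem_of_stable`, `exists_block_of_stable_pPower`.
-/

set_option autoImplicit false

namespace Cfsg.Agent.BrauerPairs

open Cfsg Cfsg.Agent.Blocks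

variable {G : Type*} [Group G] [Finite G] {p : ℕ} {M : Ideal AlgInt}

omit [Finite G] in
theorem mem_of_not_dvd_orderOf [Fact p.Prime] {N : Subgroup G} [N.Normal]
    (hN : ∃ k : ℕ, N.index = p ^ k) {x : G} (hx : ¬ p ∣ orderOf x) : x ∈ N := by
  obtain ⟨k, hk⟩ := hN
  have h1 : x ^ (p ^ k) ∈ N := by
    rw [← hk, ← QuotientGroup.eq_one_iff, QuotientGroup.mk_pow, Subgroup.index_eq_card]
    exact pow_card_eq_one'
  have hcop : (orderOf x).Coprime (p ^ k) :=
    Nat.Coprime.pow_right k (((Fact.out : p.Prime).coprime_iff_not_dvd.2 hx).symm)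
  obtain ⟨j, hj⟩ := exists_pow_eq_self_of_coprime hcop.symm
  rw [← hj]
  exact pow_mem h1 j

variable (hM : IsPModular p M) [Fact p.Prime]
include hM

/-- In any subgroup `K`, block idempotents live on `K ⊓ N`. -/
theorem suppIn_bIdem_of_pPower {N : Subgroup G} [N.Normal] (hN : ∃ k : ℕ, N.index = p ^ k)
    (K : Subgroup G) {b : Set (IrrCharacter K)} (hb : IsPBlock M b) :
    SuppIn (K ⊓ N) (bIdem M K b) := by
  intro x hx
  by_cases hxK : x ∈ K
  · have hxN : x ∉ N := fun h => hx ⟨hxK, h⟩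
    have hdvd : p ∣ orderOf (⟨x, hxK⟩ : K) := by
      by_contra h
      rw [← Subgroup.orderOf_coe] at h
      exact hxN (mem_of_not_dvd_orderOf hN h)
    rw [coeff_bIdem hM, show subgroupBlockCoeff K b x = blockCoeff b ⟨x, hxK⟩ from
      subgroupBlockCoeff_coe K b ⟨x, hxK⟩, blockCoeff_eq_ofOmega,
      ofOmega_singular_eq_zero hM (blockInd_mem_intRing hM hb) hdvd, res_zero hM]
  · exact (bIdem_central K b).1 x hxK

omit [Fact p.Prime] in
theorem exists_blk_le {z : MonoidAlgebra (Res M) G} (hz : Fixed ⊤ z) (hzz : z * z = z)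
    (h0 : z ≠ 0) : ∃ B : Set (IrrCharacter G), IsPBlock M B ∧ z * blk M B = blk M B := by
  classical
  have := Fintype.ofFinite (IrrCharacter G)
  by_contra h
  push Not at h
  apply h0
  calc z = z * ∑ B ∈ Finset.univ.image
        (fun χ : IrrCharacter G => blockOf M (χ : G → ℂ)), blk M B := by rw [sum_blk hM, mul_one]
    _ = 0 := by
      rw [Finset.mul_sum]
      refine Finset.sum_eq_zero fun B hB => ?_
      obtain ⟨χ, -, rfl⟩ := Finset.mem_image.1 hB
      rcases mul_blk_cases hM hz hzz ⟨χ, rfl⟩ (mem_blockOf_self hM χ) with ⟨-, e⟩ | ⟨-, e⟩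
      · exact absurd e (h _ ⟨χ, rfl⟩)
      · exact e

omit [Fact p.Prime] in
theorem fixed_top_of_stable {N : Subgroup G} [N.Normal] {c : Set (IrrCharacter N)}
    (hc : IsPBlock M c) (hst : ∀ x : G, StabilizesBlock N c x) : Fixed ⊤ (bIdem M N c) :=
  fun x _ => (stabilizesBlock_iff hM hc (hst x).1).1 (hst x)

/-- A stable block of a normal subgroup of `p`-power index is a block of the group. -/
theorem exists_block_of_stable_pPower {N : Subgroup G} [N.Normal]
    (hN : ∃ k : ℕ, N.index = p ^ k) {c : Set (IrrCharacter N)} (hc : IsPBlock M c)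
    (hfix : Fixed ⊤ (bIdem M N c)) :
    ∃ B : Set (IrrCharacter G), IsPBlock M B ∧ blk M B = bIdem M N c ∧
      ∀ g, blockCoeff B g = subgroupBlockCoeff N c g := by
  classical
  obtain ⟨B, hB, hle⟩ := exists_blk_le hM hfix (bIdem_mul_self hM hc) (bIdem_ne_zero hM hc)
  have hsupp : SuppIn N (blk M B) := fun x hx => by
    rw [blk, coeff_red, blockCoeff_eq_ofOmega,
      ofOmega_singular_eq_zero hM (blockInd_mem_intRing hM hB) ?_, res_zero hM]
    by_contra h
    exact hx (mem_of_not_dvd_orderOf hN h)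
  have := Fintype.ofFinite G
  have hcomm : bIdem M N c * blk M B = blk M B * bIdem M N c :=
    ((fixed_blk B).commute SuppIn.top).symm
  have heq : blk M B = bIdem M N c := by
    rcases mul_bIdem_cases hM (H := N) ⟨hsupp, (fixed_blk B).mono le_top⟩ (blk_mul_self hM hB) hc
      with h | h
    · rw [← hle, hcomm, h]
    · exact absurd (by rw [← hle, hcomm, h]) (blk_ne_zero hM hB)
  refine ⟨B, hB, heq, fun g => ?_⟩
  rw [blockCoeff_eq_sum_of_suppIn hM hB hsupp g, Finset.sum_eq_single c]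
  · intro b hb hne
    exfalso
    obtain ⟨hb1, hb2⟩ := Finset.mem_filter.1 hb
    rw [heq, bIdem_mul_of_ne hM hc (mem_blocks.1 hb1) hne.symm] at hb2
    exact bIdem_ne_zero hM (mem_blocks.1 hb1) hb2.symm
  · intro h
    refine absurd (Finset.mem_filter.2 ⟨mem_blocks.2 hc, ?_⟩) h
    rw [heq, bIdem_mul_self hM hc]

omit [Fact p.Prime] in
theorem blk_eq_bIdem_of_coeff {N : Subgroup G} {c : Set (IrrCharacter N)}
    {B : Set (IrrCharacter G)} (h : ∀ g, blockCoeff B g = subgroupBlockCoeff N c g) :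
    blk M B = bIdem M N c := by
  rw [← red_subgroupBlockCoeff hM, blk, funext h]

end Cfsg.Agent.BrauerPairs
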