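import Cfsg.Agent.Lib.BrauerPairs.Maximal

/-!
# Defect groups of local blocks

* `br_cb_ne_zero_of_le`: below `(P, e)` the block `f` of `(Q, f)` is fixed by and has non-zero Brauer
  image at every subgroup of `N_P(Q)`;
* `exists_local_defectGroup_ge`, `local_defect`: defect groups of blocks of subgroups `H ≤ N(Q)`
  whose idempotent is that of `f`.
-/

set_option autoImplicit false

namespace Cfsg.Agent.BrauerPairs

open Cfsg Cfsg.Agent.Blocks

variable {G : Type*} [Group G] [Finite G] {p : ℕ} {M : Ideal AlgInt}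

theorem cj_eq_self_of_suppIn {Q : Subgroup G} {a : MonoidAlgebra (Res M) G}
    (ha : SuppIn (Subgroup.centralizer (Q : Set G)) a) {u : G} (hu : u ∈ Q) : cj u a = a := by
  ext x
  rw [coeff_cj]
  by_cases hx : x ∈ Subgroup.centralizer (Q : Set G)
  · rw [mul_assoc, ← Subgroup.mem_centralizer_iff.1 hx u hu, inv_mul_cancel_left]
  · rw [ha x hx, ha _ fun h => hx ?_]
    have hn := mem_normalizer_centralizer (Subgroup.le_normalizer (inv_mem hu) : u⁻¹ ∈ _)
    exact (Subgroup.mem_normalizer_iff.1 hn x).2 (by rwa [inv_inv])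

theorem br_sup_of_suppIn {Q D : Subgroup G} {a : MonoidAlgebra (Res M) G}
    (ha : SuppIn (Subgroup.centralizer (Q : Set G)) a) : br (Q ⊔ D) a = br D a := by
  classical
  ext x
  rw [coeff_br, coeff_br]
  by_cases hx : x ∈ Subgroup.centralizer (D : Set G)
  · rw [if_pos hx]
    split_ifs with h
    · rfl
    · by_contra hne
      apply h
      have hxQ := ha.mem_of_ne (Ne.symm hne)
      rw [← le_centralizer_singleton] at hx hxQ ⊢
      exact sup_le hxQ hx
  · rw [if_neg hx, if_neg fun h => hx (Subgroup.centralizer_le (le_sup_right : D ≤ Q ⊔ D) h)]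

variable (hM : IsPModular p M) [Fact p.Prime]
include hM

theorem br_cb_ne_zero_of_le {Q P : Subgroup G}
    {f : Set (IrrCharacter (Subgroup.centralizer (Q : Set G)))}
    {e : Set (IrrCharacter (Subgroup.centralizer (P : Set G)))}
    (hPe : IsBrauerPair p M P e) (hle : SubpairLE p M Q f P e) {R : Subgroup G}
    (hRP : R ≤ P) (hRN : R ≤ Subgroup.normalizer (Q : Set G)) :
    Fixed R (cb M Q f) ∧ br R (cb M Q f) ≠ 0 := by
  have hQP : Q ≤ P :=
    subgroup_le_of_subpairLE (a := (⟨Q, f⟩ : BrauerPairIdx G)) (b := ⟨P, e⟩) hle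
  obtain ⟨g, hg, hQg, -⟩ := subpair_between hM hPe hle (le_sup_left : Q ≤ Q ⊔ R)
    (sup_le hQP hRP)
  obtain ⟨-, -, -, -, hfix, hge⟩ := (isNormalSubpair_iff hM).1
    (normalSubpair_of_le hM ⟨hPe.1.to_le (sup_le hQP hRP), hg⟩ hQg
      (sup_le Subgroup.le_normalizer hRN))
  refine ⟨hfix.mono le_sup_right, fun h0 => bIdem_ne_zero hM hg ?_⟩
  rw [← br_br (le_sup_right : R ≤ Q ⊔ R), h0, br_zero, zero_mul] at hge
  exact hge.symm

theorem exists_local_defectGroup_ge {Q P H : Subgroup G}
    {f : Set (IrrCharacter (Subgroup.centralizer (Q : Set G)))}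
    {e : Set (IrrCharacter (Subgroup.centralizer (P : Set G)))} {b : Set (IrrCharacter H)}
    (hPe : IsBrauerPair p M P e) (hle : SubpairLE p M Q f P e) (hHN : H ≤ Subgroup.normalizer (Q : Set G))
    (hb : IsPBlock M b) (heq : bIdem M H b = cb M Q f) :
    ∃ D, IsDefectGroup p M b D ∧ (P ⊓ H).subgroupOf H ≤ D :=
  sub_exists_defectGroup_ge hM hb inf_le_right (hPe.1.to_le inf_le_left)
    (heq ▸ (br_cb_ne_zero_of_le hM hPe hle inf_le_left (inf_le_right.trans hHN)).2)

/-- Defect groups of local blocks are, up to conjugation, intersections with a maximal pair. -/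
theorem local_defect {B : Set (IrrCharacter G)} {Q P H : Subgroup G}
    {f : Set (IrrCharacter (Subgroup.centralizer (Q : Set G)))}
    {e : Set (IrrCharacter (Subgroup.centralizer (P : Set G)))} {b : Set (IrrCharacter H)}
    (hmax : IsMaximalBrauerPair p M B P e) (hle : SubpairLE p M Q f P e)
    (hf : IsPBlock M f) (hHN : H ≤ Subgroup.normalizer (Q : Set G))
    (hb : IsPBlock M b) (heq : bIdem M H b = cb M Q f) :
    ∃ x : G, SubpairLE p M (conjSub x Q) (conjBlock Q x f) P e ∧
      ∀ (H' : Subgroup G) (b' : Set (IrrCharacter H')), H' = conjSub x H → IsPBlock M b' →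
        bIdem M H' b' = cb M (conjSub x Q) (conjBlock Q x f) →
          IsDefectGroup p M b' ((P ⊓ H').subgroupOf H') := by
  have hB : IsPBlock M B := hmax.1.2.1
  have hPe : IsBrauerPair p M P e := hmax.1.1
  have hQf : IsBrauerPairOf p M B Q f := (isBrauerPairOf_iff_of_le hM hB hle).1 hmax.1
  obtain ⟨D, hD⟩ := Blocks.exists_isDefectGroup (p := p) hM hb
  set D' := D.map H.subtype with hD'
  have hD'H : D' ≤ H := Subgroup.map_subtype_le D
  have hD'p : IsPGroup p D' := (isPGroup_defectGroup hM hD).map _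
  have hbr : br D' (cb M Q f) ≠ 0 := heq ▸ sub_br_defectGroup_ne_zero hM hD
  set R := Q ⊔ D' with hR
  have hRp : IsPGroup p R := hQf.1.1.to_sup_of_normal_left' hD'p (hD'H.trans hHN)
  have hRN : R ≤ Subgroup.normalizer (Q : Set G) := sup_le Subgroup.le_normalizer (hD'H.trans hHN)
  have hfixH : Fixed H (cb M Q f) := heq ▸ (bIdem_central H b).2
  have hfix : Fixed R (cb M Q f) := by
    intro u hu
    refine Subgroup.closure_induction (p := fun u _ => cj u (cb M Q f) = cb M Q f) ?_ (cj_one _)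
      (fun a c _ _ ha hc => by rw [cj_mul, hc, ha])
      (fun a _ ha => by conv_lhs => rw [← ha, cj_inv_cj]) (by rwa [hR, Subgroup.sup_eq_closure] at hu)
    rintro v (hv | hv)
    · exact cj_eq_self_of_suppIn (bIdem_central _ f).1 hv
    · exact hfixH v (hD'H hv)
  have hne : br R (cb M Q f) ≠ 0 := by rwa [hR, br_sup_of_suppIn (bIdem_central _ f).1]
  obtain ⟨g, hg, hgle⟩ := exists_block_le hM
    (br_bIdem_central hM (Subgroup.centralizer_le (le_sup_left : Q ≤ R)) f)
    (br_bIdem_mul_self hM hRp hf hfix) hne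
  have hn : SubpairLE p M Q f R g := Relation.ReflTransGen.single
    ((isNormalSubpair_iff hM).2 ⟨hQf.1, ⟨hRp, hg⟩, le_sup_left, hRN, hfix, hgle⟩)
  obtain ⟨x, hx⟩ := exists_conj_le_maximal hM hmax ((isBrauerPairOf_iff_of_le hM hB hn).2 hQf)
  have hle2 : SubpairLE p M (conjSub x Q) (conjBlock Q x f) P e :=
    (subpairLE_conj hM hn x).trans hx
  refine ⟨x, hle2, fun H' b' hH' hb' heq' => ?_⟩
  subst hH'
  have hHN' : conjSub x H ≤ Subgroup.normalizer (conjSub x Q : Set G) := by
    intro u hu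
    have := conjSub_eq_self_iff.2 (hHN (mem_conjSub.1 hu))
    rw [← conjSub_eq_self_iff]
    conv_rhs => rw [← this]
    rw [conjSub_mul, conjSub_mul]
    congr 1
    group
  obtain ⟨E, hE, hPE⟩ := exists_local_defectGroup_ge hM hPe hle2 hHN' hb' heq'
  have hxD : conjSub x D' ≤ P ⊓ conjSub x H :=
    le_inf ((conjSub_mono x (le_sup_right : D' ≤ R)).trans
      (subgroup_le_of_subpairLE (a := (⟨conjSub x R, conjBlock R x g⟩ : BrauerPairIdx G))
        (b := ⟨P, e⟩) hx)) (conjSub_mono x hD'H)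
  -- compare orders
  set E' := E.map (conjSub x H).subtype with hE'
  have hE'H : conjSub x⁻¹ E' ≤ H := by
    have := conjSub_mono x⁻¹ (Subgroup.map_subtype_le E : E' ≤ conjSub x H)
    rwa [conjSub_mul, inv_mul_cancel, conjSub_one] at this
  have hbrE : br (conjSub x⁻¹ E') (bIdem M H b) ≠ 0 := by
    intro h0
    refine sub_br_defectGroup_ne_zero hM hE ?_
    have h1 := congrArg (cj x) h0
    rw [cj_br, conjSub_mul, mul_inv_cancel, conjSub_one, map_zero, heq, cj_cb hM, ← heq'] at h1
    exact h1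
  have h1 : Nat.card E ≤ Nat.card ((P ⊓ conjSub x H).subgroupOf (conjSub x H)) := by
    have h2 := sub_card_le_of_br_ne_zero hM hb hE'H
      (((isPGroup_defectGroup hM hE).map _).map _) hbrE hD
    rw [card_conjSub, hE', Subgroup.card_map_of_injective (Subgroup.subtype_injective _)] at h2
    have h3 := Subgroup.card_le_of_le hxD
    rw [card_conjSub, hD', Subgroup.card_map_of_injective (Subgroup.subtype_injective _)] at h3
    rw [Nat.card_congr (Subgroup.subgroupOfEquivOfLe inf_le_right).toEquiv]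
    exact h2.trans h3
  rwa [Subgroup.eq_of_le_of_card_ge hPE h1]

end Cfsg.Agent.BrauerPairs
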