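import Cfsg.Agent.Lib.BrauerPairs.AbelianDefect
import Cfsg.Agent.Lib.Fusion.Criterion

/-!
# The fusion system of a block is saturated

* `blockFusion`: the fusion system of `B` on a maximal pair `(P, e)`;
* `fullyAutomized_top`, `receptive_of_fullyNormalized_block`, `isSaturated_blockFusion`.
-/

set_option autoImplicit false

namespace Cfsg.Agent.BrauerPairs

open Cfsg Cfsg.Agent.Blocks

variable {G : Type*} [Group G] [Finite G] {p : ℕ} {M : Ideal AlgInt}

theorem isBlock_of_le {P Q : Subgroup G}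
    {e : Set (IrrCharacter (Subgroup.centralizer (P : Set G)))}
    {f : Set (IrrCharacter (Subgroup.centralizer (Q : Set G)))}
    (hPe : IsBrauerPair p M P e) (hle : SubpairLE p M Q f P e) : IsPBlock M f :=
  (isBrauerPair_of_subpairLE (a := (⟨Q, f⟩ : BrauerPairIdx G)) (b := ⟨P, e⟩) hle hPe).2

variable (hM : IsPModular p M) [Fact p.Prime]
include hM

theorem subpairLE_conj_mul {P Q : Subgroup G}
    {e : Set (IrrCharacter (Subgroup.centralizer (P : Set G)))}
    {f : Set (IrrCharacter (Subgroup.centralizer (Q : Set G)))} (hf : IsPBlock M f) (k g : G)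
    (h : SubpairLE p M (conjSub k (conjSub g Q)) (conjBlock (conjSub g Q) k (conjBlock Q g f)) P e) :
    SubpairLE p M (conjSub (k * g) Q) (conjBlock Q (k * g) f) P e := by
  have hidx := conjIdx_conjIdx hM k g (a := (⟨Q, f⟩ : BrauerPairIdx G)) hf
  unfold SubpairLE at h ⊢
  rw [show (⟨conjSub (k * g) Q, conjBlock Q (k * g) f⟩ : BrauerPairIdx G) =
    conjIdx (k * g) ⟨Q, f⟩ from rfl, ← hidx]
  exact h

/-- The fusion system of a block on a maximal Brauer pair. -/
noncomputable def blockFusion {B : Set (IrrCharacter G)} {P : Subgroup G}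
    {e : Set (IrrCharacter (Subgroup.centralizer (P : Set G)))}
    (hmax : IsMaximalBrauerPair p M B P e) : FusionSystem P where
  Hom Q := {φ | Q ≤ P ∧ ∃ g : G, (∀ u : Q, φ u = g * (u : G) * g⁻¹) ∧
    Q.map (MulAut.conj g).toMonoidHom ≤ P ∧
    ∃ f : Set (IrrCharacter (Subgroup.centralizer (Q : Set G))),
      SubpairLE p M Q f P e ∧
        SubpairLE p M (Q.map (MulAut.conj g).toMonoidHom) (conjBlock Q g f) P e}
  le_of_mem := by
    rintro Q φ ⟨hQ, g, hg, hgQ, -⟩
    exact ⟨hQ, fun u => hgQ ⟨u, u.2, (hg u).symm⟩⟩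
  injective_of_mem := by
    rintro Q φ ⟨-, g, hg, -⟩ a b hab
    have h : g * (a : G) * g⁻¹ = g * (b : G) * g⁻¹ := ((hg a).symm.trans hab).trans (hg b)
    exact Subtype.ext (mul_left_cancel (mul_right_cancel h))
  conj_mem := by
    intro Q g hQ hg
    obtain ⟨f, hf, hle⟩ := exists_subpair hM hmax.1.1 hQ
    refine ⟨hQ, g, fun _ => rfl, fun u hu => ?_, f, hle, ?_⟩
    · obtain ⟨w, hw, rfl⟩ := hu
      exact P.mul_mem (P.mul_mem hg (hQ hw)) (P.inv_mem hg)
    · have h := subpairLE_conj hM hle g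
      unfold SubpairLE at h ⊢
      rw [show (⟨conjSub g P, conjBlock P g e⟩ : BrauerPairIdx G) = conjIdx g ⟨P, e⟩ from rfl,
        conjIdx_eq_self_of_mem_pairStab hM hmax.1.1.2 (le_pairStab P e hg)] at h
      exact h
  comp_mem := by
    rintro Q R φ ψ ⟨hQ, g, hg, hgP, f, hf, hgf⟩ ⟨hR, k, hk, hkP, f', hf', hkf'⟩ h
    have hPe := hmax.1.1
    have hQR : conjSub g Q ≤ R := by
      rintro _ ⟨w, hw, rfl⟩
      have := h ⟨w, hw⟩
      rwa [hg] at this
    have hmul : conjSub (k * g) Q ≤ P := by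
      rw [← conjSub_mul]
      exact (conjSub_mono k hQR).trans hkP
    refine ⟨hQ, k * g, fun u => ?_, hmul, f, hf, ?_⟩
    · show ψ (φ.codRestrict R h u) = k * g * (u : G) * (k * g)⁻¹
      rw [hk]
      show k * φ u * k⁻¹ = _
      rw [hg]
      group
    · obtain ⟨f'', hf''b, h1, h2⟩ := subpair_between hM hPe hgf hQR hR
      obtain rfl : f' = f'' := subpair_unique hM hPe hf' h2
      have h3 := (subpairLE_conj hM h1 k).trans hkf'
      exact subpairLE_conj_mul hM (isBlock_of_le hPe hf) k g h3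
  inv_mem := by
    rintro Q φ ⟨hQ, g, hg, hgP, f, hf, hgf⟩
    have hr : φ.range = conjSub g Q := range_eq_conjSub φ hg
    have key : ∀ R : Subgroup G, R = conjSub g Q → ∃ ψ : R →* G,
        (R ≤ P ∧ ∃ k : G, (∀ u : R, ψ u = k * (u : G) * k⁻¹) ∧
          R.map (MulAut.conj k).toMonoidHom ≤ P ∧
          ∃ f₁ : Set (IrrCharacter (Subgroup.centralizer (R : Set G))),
            SubpairLE p M R f₁ P e ∧
              SubpairLE p M (R.map (MulAut.conj k).toMonoidHom) (conjBlock R k f₁) P e) ∧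
        ∀ u : R, ψ u = g⁻¹ * (u : G) * g := by
      rintro R rfl
      refine ⟨(MulAut.conj g⁻¹).toMonoidHom.comp (conjSub g Q).subtype,
        ⟨hgP, g⁻¹, fun _ => rfl, ?_, conjBlock Q g f, hgf, ?_⟩, fun u => ?_⟩
      · show conjSub g⁻¹ (conjSub g Q) ≤ P
        rw [conjSub_mul, inv_mul_cancel, conjSub_one]
        exact hQ
      · have hfb := isBlock_of_le hmax.1.1 hf
        have hidx := conjIdx_conjIdx hM g⁻¹ g (a := (⟨Q, f⟩ : BrauerPairIdx G)) hfb
        rw [inv_mul_cancel, conjIdx_one hM (a := (⟨Q, f⟩ : BrauerPairIdx G)) hfb] at hidx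
        unfold SubpairLE at hf ⊢
        rw [show (⟨conjSub g⁻¹ (conjSub g Q), conjBlock (conjSub g Q) g⁻¹ (conjBlock Q g f)⟩ :
          BrauerPairIdx G) = conjIdx g⁻¹ (conjIdx g ⟨Q, f⟩) from rfl, hidx]
        exact hf
      · show g⁻¹ * (u : G) * g⁻¹⁻¹ = _
        rw [inv_inv]
    obtain ⟨ψ, hψ, hval⟩ := key φ.range hr
    refine ⟨ψ, hψ, fun x => ?_⟩
    rw [hval]
    show g⁻¹ * φ x * g = x
    rw [hg]
    group

theorem isBlockFusionSystemOn_blockFusion {B : Set (IrrCharacter G)} {P : Subgroup G}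
    {e : Set (IrrCharacter (Subgroup.centralizer (P : Set G)))}
    (hmax : IsMaximalBrauerPair p M B P e) :
    IsBlockFusionSystemOn p M B P e (blockFusion hM hmax) :=
  ⟨hmax, fun _ _ => Iff.rfl⟩

theorem fullyAutomized_top {B : Set (IrrCharacter G)} {P : Subgroup G}
    {e : Set (IrrCharacter (Subgroup.centralizer (P : Set G)))} {F : FusionSystem P}
    (hF : IsBlockFusionSystemOn p M B P e F) : F.IsFullyAutomized p P := by
  have hmax := hF.1
  have hPe := hmax.1.1
  set T := pairStab M P e with hT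
  have hTN : ∀ t : T, ∀ u : P, (t : G) * u * (t : G)⁻¹ ∈ P := fun t u =>
    (Subgroup.mem_normalizer_iff.1 t.2.1 u).1 u.2
  let act : T →* MulAut P :=
    { toFun := fun t => conjEquiv P P t (mem_normalizer_iff_conj t.2.1)
      map_one' := by ext u; simp [coe_conjEquiv]
      map_mul' := fun a b => by ext u; simp [coe_conjEquiv, mul_assoc] }
  have hact : ∀ (t : T) (u : P), ((act t u : P) : G) = (t : G) * u * (t : G)⁻¹ := fun _ _ => rfl
  have hrange : F.autGroup P = act.range := by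
    ext α
    refine (((Fusion.mem_autGroup_iff le_rfl).trans Fusion.isMap_aut_iff.symm).trans
      (hF.2 P _)).trans ?_
    constructor
    · rintro ⟨-, g, hg, -, f, hf, hgf⟩
      obtain rfl : f = e := subpair_unique hM hPe hf Relation.ReflTransGen.refl
      refine ⟨⟨g, stab_eq_of_subgroup_eq hM hPe hgf⟩, MulEquiv.ext fun u => Subtype.ext ?_⟩
      exact (hg u).symm
    · rintro ⟨t, rfl⟩
      have hPt : conjSub (t : G) P = P := conjSub_eq_self_iff.2 t.2.1
      refine ⟨le_rfl, t, fun u => hact t u, hPt.le, e, Relation.ReflTransGen.refl, ?_⟩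
      unfold SubpairLE
      rw [show (⟨P.map (MulAut.conj (t : G)).toMonoidHom, conjBlock P (t : G) e⟩ : BrauerPairIdx G)
        = conjIdx (t : G) ⟨P, e⟩ from rfl, conjIdx_eq_self_of_mem_pairStab hM hPe.2 t.2]
  obtain ⟨F₀, hF₀, hF₀eq, -⟩ := exists_block_pairStab hM hPe
  have hD := defect_pairStab_top hM hmax hF₀ hF₀eq
  have hnd := not_dvd_local_index hM hPe.2 (pairStab_le_normalizer P e)
    (centralizer_le_pairStab hM P e) hF₀ hF₀eq hD
  set D := (P ⊓ T).subgroupOf T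
  set K := (Subgroup.centralizer (P : Set G)).subgroupOf T
  have hAle : autInducedBy P P ≤ F.autGroup P := Fusion.autInducedBy_le_autGroup F le_rfl le_rfl
  refine ⟨le_rfl, ?_⟩
  have hp : IsPGroup p ((autInducedBy P P).subgroupOf (F.autGroup P)) :=
    (Fusion.isPGroup_autInducedBy hPe.1).of_equiv (Subgroup.subgroupOfEquivOfLe hAle).symm
  have hmap : (D ⊔ K).map act.rangeRestrict ≤
      (autInducedBy P P).subgroupOf act.range := by
    rw [Subgroup.map_le_iff_le_comap]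
    refine sup_le (fun t ht => ?_) (fun t ht => ?_)
    · exact Fusion.mem_autInducedBy_iff.2 ⟨t, ht.1, fun u => hact t u⟩
    · refine Fusion.mem_autInducedBy_iff.2 ⟨1, one_mem P, fun u => ?_⟩
      show (t : G) * u * (t : G)⁻¹ = _
      have hc : (u : G) * (t : G) = (t : G) * u := Subgroup.mem_centralizer_iff.1 ht u u.2
      rw [← hc]
      simp
  have hidx : ¬ p ∣ ((autInducedBy P P).subgroupOf (F.autGroup P)).index := by
    rw [hrange]
    intro h
    exact hnd (h.trans ((Subgroup.index_dvd_of_le hmap).trans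
      (Subgroup.index_map_dvd _ act.rangeRestrict_surjective)))
  exact ⟨hp.toSylow hidx, rfl⟩

open scoped Pointwise in
theorem receptive_of_fullyNormalized_block {B : Set (IrrCharacter G)} {P : Subgroup G}
    {e : Set (IrrCharacter (Subgroup.centralizer (P : Set G)))} {F : FusionSystem P}
    (hF : IsBlockFusionSystemOn p M B P e F) {Q : Subgroup G} (hQ : F.IsFullyNormalized Q) :
    F.IsReceptive Q := by
  have hmax := hF.1
  have hPe := hmax.1.1
  obtain ⟨f₁, hf₁, hle₁⟩ := exists_subpair hM hPe hQ.1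
  obtain ⟨F₁, hF₁, hF₁eq, -⟩ := exists_block_pairStab hM (Q := Q) (f := f₁) ⟨hPe.1.to_le hQ.1, hf₁⟩
  have hD₁ := (local_fully_iff hM hmax hle₁ hf₁ (pairStab_le_normalizer Q f₁) hF₁ hF₁eq).1
    ((isFullyNormalized_iff hM hF hle₁).1 hQ)
  set H := (P ⊓ (pairStab M Q f₁)) ⊔ (Subgroup.centralizer (Q : Set G)) with hH
  have hCT : (Subgroup.centralizer (Q : Set G)) ≤ (pairStab M Q f₁) := centralizer_le_pairStab hM Q f₁
  have hHT : H ≤ (pairStab M Q f₁) := sup_le inf_le_right hCT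
  have hQH : Q ≤ H := (le_inf hQ.1 (le_pairStab Q f₁)).trans le_sup_left
  have hHN : H ≤ Subgroup.normalizer (Q : Set G) := hHT.trans (pairStab_le_normalizer Q f₁)
  obtain ⟨FH, hFH, hFHeq, -⟩ := exists_block_of_stable hM (hPe.1.to_le hQ.1) hQH hHN le_sup_right
    hf₁ ((fixed_pairStab Q f₁).mono hHT)
  have hPH : P ⊓ H = P ⊓ (pairStab M Q f₁) :=
    le_antisymm (inf_le_inf_left _ hHT) (le_inf inf_le_left le_sup_left)
  have hDH : IsDefectGroup p M FH ((P ⊓ H).subgroupOf H) := by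
    obtain ⟨D, hD, hle⟩ := exists_local_defectGroup_ge hM hPe hle₁ hHN hFH hFHeq
    have h1 : Nat.card (D.map H.subtype) ≤ Nat.card ((P ⊓ (pairStab M Q f₁)).subgroupOf (pairStab M Q f₁)) :=
      sub_card_le_of_br_ne_zero hM hF₁ ((Subgroup.map_subtype_le D).trans hHT)
        ((isPGroup_defectGroup hM hD).map _)
        (by rw [hF₁eq, ← hFHeq]; exact sub_br_defectGroup_ne_zero hM hD) hD₁
    rw [Subgroup.card_map_of_injective H.subtype_injective,
      Nat.card_congr (Subgroup.subgroupOfEquivOfLe (inf_le_right : P ⊓ (pairStab M Q f₁) ≤ (pairStab M Q f₁))).toEquiv, ← hPH,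
      ← Nat.card_congr (Subgroup.subgroupOfEquivOfLe (inf_le_right : P ⊓ H ≤ H)).toEquiv] at h1
    exact (Subgroup.eq_of_le_of_card_ge hle h1) ▸ hD
  rw [Fusion.isReceptive_iff]
  refine ⟨hQ.1, fun R f hf => ?_⟩
  obtain ⟨⟨φ, hφ, hφf⟩, himg⟩ := hf
  obtain ⟨hRP, g, hg, hgP, fR, hfR, hgfR⟩ := (hF.2 R φ).1 hφ
  have hfg : ∀ x ∈ R, f x = g * x * g⁻¹ := fun x hx => (hφf x hx).symm.trans (hg ⟨x, hx⟩)
  have hQeq : conjSub g R = Q := by
    rw [← himg, ← range_eq_conjSub φ hg, ← Fusion.toFn_img φ]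
    exact Fusion.img_congr fun x hx => (Fusion.toFn_apply φ hx).trans (hφf x hx)
  subst hQeq
  obtain rfl : f₁ = conjBlock R g fR := subpair_unique hM hPe hle₁ hgfR
  set N := Fusion.Nx P R f with hNdef
  have hNP : N ≤ P := fun x hx => hx.1.1
  have hNR : N ≤ Subgroup.normalizer (R : Set G) := fun x hx => hx.1.2
  have hRN : R ≤ N := Fusion.le_Nx ⟨φ, hφ, hφf⟩
  obtain ⟨hN, hhN, hhle⟩ := exists_subpair hM hPe hNP
  obtain ⟨hN', -, hRh, hh'⟩ := subpair_between hM hPe hfR hRN hNP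
  obtain rfl : hN = hN' := subpair_unique hM hPe hhle hh'
  have hfRb := isBlock_of_le hPe hfR
  have hn : NormalSubpairRel p M (⟨R, fR⟩ : BrauerPairIdx G) ⟨N, hN⟩ :=
    normalSubpair_of_le hM ⟨hPe.1.to_le hNP, hhN⟩ hRh hNR
  have hn' := normalSubpairRel_conj hM hn g
  have hgN : conjSub g N ≤ H := by
    rintro _ ⟨x, hx, rfl⟩
    obtain ⟨-, h, hh, hconj⟩ := Fusion.mem_Nx.1 hx
    have hk : h⁻¹ * (g * x * g⁻¹) ∈ (Subgroup.centralizer ((conjSub g R : Subgroup G) : Set G)) := by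
      rw [Subgroup.mem_centralizer_iff]
      intro q hq
      obtain ⟨r, hr, rfl⟩ := hq
      have hr' : x * r * x⁻¹ ∈ R := (Subgroup.mem_normalizer_iff.1 hx.1.2 r).1 hr
      have h1 := hconj r hr
      rw [hfg _ hr', hfg r hr] at h1
      show g * r * g⁻¹ * (h⁻¹ * (g * x * g⁻¹)) = h⁻¹ * (g * x * g⁻¹) * (g * r * g⁻¹)
      calc g * r * g⁻¹ * (h⁻¹ * (g * x * g⁻¹))
          = h⁻¹ * (h * (g * r * g⁻¹) * h⁻¹) * (g * x * g⁻¹) := by group
        _ = h⁻¹ * (g * (x * r * x⁻¹) * g⁻¹) * (g * x * g⁻¹) := by rw [h1]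
        _ = h⁻¹ * (g * x * g⁻¹) * (g * r * g⁻¹) := by group
    have hhN : h ∈ Subgroup.normalizer (conjSub g R : Set G) := by
      have hxg : g * x * g⁻¹ ∈ Subgroup.normalizer (conjSub g R : Set G) :=
        hn'.2.2.2.1 ⟨x, hx, rfl⟩
      have := mul_mem hxg (inv_mem (centralizer_le_normalizer hM _ hk))
      rwa [show g * x * g⁻¹ * (h⁻¹ * (g * x * g⁻¹))⁻¹ = h by group] at this
    have hhT : h ∈ P ⊓ (pairStab M (conjSub g R) (conjBlock R g fR)) := by
      rw [inf_pairStab_eq hM hPe hgfR]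
      exact ⟨hh, hhN⟩
    have e1 : g * x * g⁻¹ = h * (h⁻¹ * (g * x * g⁻¹)) := (mul_inv_cancel_left _ _).symm
    show g * x * g⁻¹ ∈ H
    rw [e1]
    exact mul_mem (Subgroup.mem_sup_left hhT) (Subgroup.mem_sup_right hk)
  obtain ⟨c, hc, hcle⟩ := local_extend hM hPe hle₁ hQH hHN le_sup_right hFH hFHeq hDH hn' hgN
  obtain ⟨d, hd, k, hk, hdk⟩ : ∃ d ∈ P ⊓ (pairStab M (conjSub g R) (conjBlock R g fR)), ∃ k ∈ (Subgroup.centralizer ((conjSub g R : Subgroup G) : Set G)), d * k = c := by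
    have hsub : P ⊓ (pairStab M (conjSub g R) (conjBlock R g fR)) ≤ Subgroup.normalizer ((Subgroup.centralizer ((conjSub g R : Subgroup G) : Set G)) : Set G) := fun u hu =>
      mem_normalizer_centralizer (pairStab_le_normalizer _ _ hu.2)
    have h' : c ∈ ((P ⊓ (pairStab M (conjSub g R) (conjBlock R g fR)) : Subgroup G) : Set G) * ((Subgroup.centralizer ((conjSub g R : Subgroup G) : Set G)) : Set G) := by
      rw [← Subgroup.coe_mul_of_left_le_normalizer_right (P ⊓ (pairStab M (conjSub g R) (conjBlock R g fR))) (Subgroup.centralizer ((conjSub g R : Subgroup G) : Set G)) hsub]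
      exact hc
    obtain ⟨d, hd, k, hk, hdk⟩ := h'
    exact ⟨d, hd, k, hk, hdk⟩
  subst hdk
  have h1 := subpairLE_conj_mul hM hhN (d * k) g hcle
  have h2 := subpairLE_conj hM h1 d⁻¹
  have hPfix : conjIdx d⁻¹ (⟨P, e⟩ : BrauerPairIdx G) = ⟨P, e⟩ :=
    conjIdx_eq_self_of_mem_pairStab hM hPe.2 (le_pairStab P e (P.inv_mem hd.1))
  have h3 : SubpairLE p M (conjSub (k * g) N) (conjBlock N (k * g) hN) P e := by
    have h2' := subpairLE_conj_mul hM hhN d⁻¹ (d * k * g)
      (P := conjSub d⁻¹ P) (e := conjBlock P d⁻¹ e) h2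
    unfold SubpairLE at h2' ⊢
    rw [show (⟨conjSub d⁻¹ P, conjBlock P d⁻¹ e⟩ : BrauerPairIdx G) = conjIdx d⁻¹ ⟨P, e⟩ from rfl,
      hPfix, show d⁻¹ * (d * k * g) = k * g by group] at h2'
    exact h2'
  refine ⟨fun x => k * g * x * (k * g)⁻¹, ⟨(MulAut.conj (k * g)).toMonoidHom.comp N.subtype,
    (hF.2 _ _).2 ⟨hNP, k * g, fun _ => rfl,
      subgroup_le_of_subpairLE (a := (⟨conjSub (k * g) N, conjBlock N (k * g) hN⟩ :
        BrauerPairIdx G)) (b := ⟨P, e⟩) h3, hN, hhle, h3⟩, fun _ _ => rfl⟩, fun x hx => ?_⟩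
  rw [hfg x hx]
  have hcomm := Subgroup.mem_centralizer_iff.1 hk (g * x * g⁻¹) ⟨x, hx, rfl⟩
  calc k * g * x * (k * g)⁻¹ = k * (g * x * g⁻¹) * k⁻¹ := by group
    _ = g * x * g⁻¹ := by rw [← hcomm, mul_inv_cancel_right]

theorem isSaturated_blockFusion {B : Set (IrrCharacter G)} {P : Subgroup G}
    {e : Set (IrrCharacter (Subgroup.centralizer (P : Set G)))} {F : FusionSystem P}
    (hF : IsBlockFusionSystemOn p M B P e F) : F.IsSaturated p :=
  Fusion.isSaturated_of_criterion hF.1.1.1.1 (fullyAutomized_top hM hF)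
    fun _ hN => receptive_of_fullyNormalized_block hM hF hN

end Cfsg.Agent.BrauerPairs
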