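import Cfsg.Agent.Lib.BrauerPairs.Principal
import Cfsg.Agent.Lib.Char.Integral

/-!
# Integrality of block idempotents

`omega f χ` is the value at `χ` of the central element with coefficient function `f`.
`IsRealised M v` says `v = omega f` for a local-integral class function `f`; such `v` are closed
under ring operations, and the indicator of a block is realised by its `blockCoeff`:
`omega_blockCoeff`, `memR_blockCoeff`, `integralPrincipal`.
-/

set_option autoImplicit false

open scoped ComplexConjugate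

namespace Cfsg.Agent.BrauerPairs

open Cfsg Cfsg.Agent.Blocks

universe u

variable {G : Type u} [Group G] [Fintype G] {p : ℕ} {M : Ideal AlgInt}

/-- The scalar by which the central element with coefficients `f` acts at `χ`. -/
noncomputable def omega (f : G → ℂ) (χ : IrrCharacter G) : ℂ :=
  ∑ x, f x * (χ : G → ℂ) x / (χ : G → ℂ) 1

/-- `v` is the list of scalars of a local-integral central element. -/
def IsRealised (M : Ideal AlgInt) (v : IrrCharacter G → ℂ) : Prop :=
  ∃ f : G → ℂ, IsClassFunction G f ∧ (∀ x, MemLocalRing M (f x)) ∧ omega f = v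

open scoped Classical in
theorem isClassFunction_indicator_conj (g : G) :
    IsClassFunction G (fun x => if IsConj g x then (1 : ℂ) else 0) := by
  intro x y
  have hxy : IsConj x (y * x * y⁻¹) := isConj_iff.2 ⟨y, rfl⟩
  have : IsConj g (y * x * y⁻¹) ↔ IsConj g x :=
    ⟨fun k => k.trans hxy.symm, fun k => k.trans hxy⟩
  simp only [this]

open scoped Classical in
theorem omega_indicator_conj (g : G) (χ : IrrCharacter G) :
    omega (fun x => if IsConj g x then (1 : ℂ) else 0) χ = centralChar (χ : G → ℂ) g := by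
  have hs : ∀ x, (if IsConj g x then (1 : ℂ) else 0) * (χ : G → ℂ) x / (χ : G → ℂ) 1 =
      (if IsConj g x then (1 : ℂ) else 0) * ((χ : G → ℂ) g / (χ : G → ℂ) 1) := by
    intro x
    split_ifs with h
    · obtain ⟨c, rfl⟩ := isConj_iff.1 h
      rw [Cfsg.Agent.Char.IsIrrCharacter.isClassFunction χ.2]
      ring
    · simp
  rw [omega, Finset.sum_congr rfl fun x _ => hs x, ← Finset.sum_mul, Finset.sum_boole, centralChar,
    ← card_class, Nat.card_eq_fintype_card, Fintype.card_subtype, mul_div_assoc]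
  rfl

theorem memR_centralChar (hM : IsPModular p M) (χ : IrrCharacter G) (g : G) :
    MemLocalRing M (centralChar (χ : G → ℂ) g) := by
  obtain ⟨n, ρ, hi, hρ⟩ := χ.2
  have h := Cfsg.Agent.Char.isIntegral_classSize_mul_div ρ g
  rw [← Representation.char_one ρ, hρ] at h
  exact memR_of_isIntegral hM h

theorem isRealised_centralChar (hM : IsPModular p M) (g : G) :
    IsRealised M (fun χ : IrrCharacter G => centralChar (χ : G → ℂ) g) := by
  classical
  refine ⟨_, isClassFunction_indicator_conj g, fun x => ?_, funext (omega_indicator_conj g)⟩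
  split_ifs
  · exact memR_one hM
  · exact memR_zero hM

theorem IsRealised.const_mul (hM : IsPModular p M) {v : IrrCharacter G → ℂ} (h : IsRealised M v)
    {c : ℂ} (hc : MemLocalRing M c) : IsRealised M (fun χ => c * v χ) := by
  obtain ⟨f, hf, hR, rfl⟩ := h
  refine ⟨fun x => c * f x, fun g x => by simp only [hf g x], fun x => memR_mul hM hc (hR x), ?_⟩
  funext χ
  rw [omega, omega, Finset.mul_sum]
  exact Finset.sum_congr rfl fun x _ => by ring

theorem IsRealised.add (hM : IsPModular p M) {v w : IrrCharacter G → ℂ} (h : IsRealised M v)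
    (h' : IsRealised M w) : IsRealised M (v + w) := by
  obtain ⟨f, hf, hR, rfl⟩ := h
  obtain ⟨f', hf', hR', rfl⟩ := h'
  refine ⟨f + f', fun g x => by simp only [Pi.add_apply, hf g x, hf' g x],
    fun x => memR_add hM (hR x) (hR' x), ?_⟩
  funext χ
  simp only [Pi.add_apply, omega, ← Finset.sum_add_distrib]
  exact Finset.sum_congr rfl fun x _ => by ring

theorem isRealised_one (hM : IsPModular p M) : IsRealised M (1 : IrrCharacter G → ℂ) := by
  classical
  refine ⟨fun x => if x = 1 then 1 else 0, fun g x => ?_, fun x => ?_, funext fun χ => ?_⟩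
  · simp only [conj_eq_one_iff]
  · show MemLocalRing M (if x = 1 then (1 : ℂ) else 0)
    split_ifs
    · exact memR_one hM
    · exact memR_zero hM
  · simp [omega, Cfsg.Agent.Char.IsIrrCharacter.apply_one_ne_zero χ.2, apply_ite, ite_div]

/-- Convolution of coefficient functions. -/
noncomputable def conv (a b : G → ℂ) (x : G) : ℂ := ∑ y, a y * b (y⁻¹ * x)

theorem isClassFunction_conv {a b : G → ℂ} (ha : IsClassFunction G a) (hb : IsClassFunction G b) :
    IsClassFunction G (conv a b) := by
  intro x h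
  simp only [conv]
  refine Fintype.sum_equiv (MulAut.conj h⁻¹).toEquiv _ _ fun y => ?_
  simp only [MulEquiv.toEquiv_eq_coe, MulEquiv.coe_toEquiv, MulAut.conj_apply, inv_inv]
  rw [← ha y h⁻¹, ← hb (y⁻¹ * (h * x * h⁻¹)) h⁻¹]
  simp [mul_assoc]

theorem omega_conv {a b : G → ℂ} (ha : IsClassFunction G a) (hb : IsClassFunction G b)
    (χ : IrrCharacter G) : omega (conv a b) χ = omega a χ * omega b χ := by
  obtain ⟨n, ρ, hi, hρ⟩ := χ.2
  have hopA := Cfsg.Agent.Char.groupSumOp_eq_smul ρ ha
  have hopB := Cfsg.Agent.Char.groupSumOp_eq_smul ρ hb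
  have hone : (χ : G → ℂ) 1 = (Module.finrank ℂ (Fin n → ℂ) : ℂ) := by
    rw [← hρ, Representation.char_one]
  have hom : ∀ f : G → ℂ, omega f χ =
      (∑ g, f g * ρ.character g) / (Module.finrank ℂ (Fin n → ℂ) : ℂ) := fun f => by
    rw [omega, hone, Finset.sum_div, hρ]
  rw [← hom] at hopA hopB
  have hne : (Module.finrank ℂ (Fin n → ℂ) : ℂ) ≠ 0 :=
    hone ▸ Cfsg.Agent.Char.IsIrrCharacter.apply_one_ne_zero χ.2
  have hprod : Cfsg.Agent.Char.groupSumOp ρ a * Cfsg.Agent.Char.groupSumOp ρ b =
      Cfsg.Agent.Char.groupSumOp ρ (conv a b) := by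
    simp only [Cfsg.Agent.Char.groupSumOp, Finset.sum_mul, conv, Finset.sum_smul]
    rw [Finset.sum_comm (γ := G) (f := fun x y => (a y * b (y⁻¹ * x)) • ρ x)]
    refine Finset.sum_congr rfl fun y _ => ?_
    rw [Finset.mul_sum]
    refine Fintype.sum_equiv (Equiv.mulLeft y) _ _ fun z => ?_
    simp [smul_smul, mul_comm]
  have htr : LinearMap.trace ℂ _ (Cfsg.Agent.Char.groupSumOp ρ (conv a b)) =
      ∑ g, conv a b g * ρ.character g := by
    simp [Cfsg.Agent.Char.groupSumOp, Representation.character, map_sum]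
  rw [← hprod, hopA, hopB] at htr
  simp only [smul_mul_smul_comm, map_smul, smul_eq_mul] at htr
  rw [← Module.End.one_eq_id, mul_one, LinearMap.trace_one] at htr
  rw [hom, ← htr, mul_div_assoc, div_self hne, mul_one]

theorem IsRealised.mul (hM : IsPModular p M) {v w : IrrCharacter G → ℂ} (h : IsRealised M v)
    (h' : IsRealised M w) : IsRealised M (v * w) := by
  obtain ⟨f, hf, hR, rfl⟩ := h
  obtain ⟨f', hf', hR', rfl⟩ := h'
  exact ⟨conv f f', isClassFunction_conv hf hf',
    fun x => memR_sum hM _ fun y _ => memR_mul hM (hR y) (hR' _), funext (omega_conv hf hf')⟩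

theorem IsRealised.prod (hM : IsPModular p M) {ι : Type*} (s : Finset ι)
    {v : ι → IrrCharacter G → ℂ} (h : ∀ i ∈ s, IsRealised M (v i)) :
    IsRealised M (∏ i ∈ s, v i) :=
  Finset.prod_induction v (IsRealised M) (fun _ _ => IsRealised.mul hM) (isRealised_one hM) h

/-- A class function is determined by its scalars. -/
theorem eq_sum_omega [Fintype (IrrCharacter G)] {f : G → ℂ} (hf : IsClassFunction G f) (y : G) :
    f y = (Nat.card G : ℂ)⁻¹ *
      ∑ χ : IrrCharacter G, omega f χ * (χ : G → ℂ) 1 * conj ((χ : G → ℂ) y) := by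
  classical
  have h1 : ∀ χ : IrrCharacter G, omega f χ * (χ : G → ℂ) 1 * conj ((χ : G → ℂ) y) =
      ∑ x, f x * ((χ : G → ℂ) x * conj ((χ : G → ℂ) y)) := fun χ => by
    rw [omega, Finset.sum_mul, Finset.sum_mul]
    refine Finset.sum_congr rfl fun x _ => ?_
    rw [div_mul_cancel₀ _ (Cfsg.Agent.Char.IsIrrCharacter.apply_one_ne_zero χ.2), mul_assoc]
  rw [Finset.sum_congr rfl fun χ _ => h1 χ, Finset.sum_comm]
  simp only [← Finset.mul_sum, Cfsg.Agent.Char.column_orth, mul_ite, mul_zero]
  rw [← Finset.sum_filter]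
  have h2 : ∀ x ∈ Finset.univ.filter (fun x => IsConj x y),
      f x * (Nat.card (Subgroup.centralizer ({x} : Set G)) : ℂ) =
        f y * (Nat.card (Subgroup.centralizer ({y} : Set G)) : ℂ) := by
    intro x hx
    obtain ⟨c, rfl⟩ := isConj_iff.1 (Finset.mem_filter.1 hx).2
    rw [hf]
    congr 2
    have e1 := Subgroup.index_mul_card (Subgroup.centralizer ({x} : Set G))
    have e2 := Subgroup.index_mul_card (Subgroup.centralizer ({c * x * c⁻¹} : Set G))
    rw [show (Subgroup.centralizer ({c * x * c⁻¹} : Set G)).index = _ from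
      centralizer_index_equiv (MulAut.conj c) x] at e2
    exact Nat.eq_of_mul_eq_mul_left (Nat.pos_of_ne_zero Subgroup.index_ne_zero_of_finite)
      (e1.trans e2.symm)
  rw [Finset.sum_congr rfl h2, Finset.sum_const, nsmul_eq_mul]
  have h3 : (Finset.univ.filter (fun x => IsConj x y)).card =
      Nat.card {x : G | IsConj y x} := by
    rw [Nat.card_eq_fintype_card, Fintype.card_subtype]
    congr 1
    ext x
    simp only [Finset.mem_filter, Finset.mem_univ, true_and, Set.mem_setOf_eq]
    exact isConj_comm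
  rw [h3, mul_left_comm, ← mul_assoc, ← mul_assoc]
  have h4 : ((Nat.card {x : G | IsConj y x} : ℕ) : ℂ) *
      (Nat.card (Subgroup.centralizer ({y} : Set G)) : ℂ) = (Nat.card G : ℂ) := by
    exact_mod_cast Cfsg.Agent.Char.card_conjugates_mul_card_centralizer y
  have hne : (Nat.card G : ℂ) ≠ 0 := Nat.cast_ne_zero.2 Nat.card_pos.ne'
  rw [eq_comm]
  field_simp
  linear_combination (f y) * h4

theorem sameBlock_symm {χ ψ : G → ℂ} (h : SameBlock M χ ψ) : SameBlock M ψ χ :=
  fun g => memI_sub_comm (h g)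

theorem sameBlock_trans (hM : IsPModular p M) {χ ψ θ : G → ℂ} (h : SameBlock M χ ψ)
    (h' : SameBlock M ψ θ) : SameBlock M χ θ := fun g => memI_sub_trans hM (h g) (h' g)

open scoped Classical in
/-- The indicator of a block is realised by a local-integral central element. -/
theorem isRealised_indicator (hM : IsPModular p M) {B : Set (IrrCharacter G)}
    (hB : IsPBlock M B) : IsRealised M (fun χ => if χ ∈ B then (1 : ℂ) else 0) := by
  have := Fintype.ofFinite (IrrCharacter G)
  obtain ⟨χ₀, rfl⟩ := hB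
  set B := blockOf M (χ₀ : G → ℂ) with hB
  -- a realised element, a unit on B and zero outside
  have hsep : ∀ ψ ∈ Finset.univ.filter (fun ψ => ψ ∉ B), ∃ v : IrrCharacter G → ℂ,
      IsRealised M v ∧ v ψ = 0 ∧ ∀ χ ∈ B, MemLocalRing M (v χ) ∧ ¬ MemLocalIdeal M (v χ) := by
    intro ψ hψ
    obtain ⟨g, hg⟩ : ∃ g, ¬ MemLocalIdeal M (centralChar (χ₀ : G → ℂ) g -
        centralChar (ψ : G → ℂ) g) := not_forall.1 (Finset.mem_filter.1 hψ).2
    refine ⟨fun χ => centralChar (χ : G → ℂ) g + (-centralChar (ψ : G → ℂ) g) * 1,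
      (isRealised_centralChar hM g).add hM ((isRealised_one hM).const_mul hM
        (memR_neg (memR_centralChar hM ψ g))), by simp, fun χ hχ => ⟨?_, fun h => hg ?_⟩⟩
    · exact memR_add hM (memR_centralChar hM χ g)
        (memR_mul hM (memR_neg (memR_centralChar hM ψ g)) (memR_one hM))
    · have := memI_add hM (hχ g) h
      convert this using 1
      ring
  choose v hv hv0 hvB using hsep
  set w := ∏ ψ ∈ (Finset.univ.filter (fun ψ => ψ ∉ B)).attach, v ψ.1 ψ.2 with hw
  have hwR : IsRealised M w := IsRealised.prod hM _ fun ψ _ => hv _ _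
  have hw0 : ∀ ψ, ψ ∉ B → w ψ = 0 := fun ψ hψ => by
    rw [hw, Finset.prod_apply]
    exact Finset.prod_eq_zero (Finset.mem_attach _ ⟨ψ, by simp [hψ]⟩) (hv0 _ _)
  have hwB : ∀ χ ∈ B, MemLocalRing M (w χ) ∧ ¬ MemLocalIdeal M (w χ) := fun χ hχ => by
    rw [hw, Finset.prod_apply]
    exact Finset.prod_induction _ (fun z : ℂ => MemLocalRing M z ∧ ¬ MemLocalIdeal M z)
      (fun a b ha hb => ⟨memR_mul hM ha.1 hb.1, not_memI_mul hM ha.1 hb.1 ha.2 hb.2⟩)
      ⟨memR_one hM, not_memI_one hM⟩ fun ψ _ => hvB _ _ χ hχ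
  set h := ∏ χ ∈ B.toFinset, (fun ψ => (-(w χ)⁻¹) * w ψ + 1) with hh
  have hhR : IsRealised M h := IsRealised.prod hM _ fun χ hχ =>
    (hwR.const_mul hM (memR_neg (memR_inv hM (hwB χ (Set.mem_toFinset.1 hχ)).1
      (hwB χ (Set.mem_toFinset.1 hχ)).2))).add hM (isRealised_one hM)
  have hfin : (fun χ => if χ ∈ B then (1 : ℂ) else 0) = (fun χ => (-1 : ℂ) * h χ) + 1 := by
    funext ψ
    simp only [Pi.add_apply, Pi.one_apply, hh, Finset.prod_apply]
    by_cases hψ : ψ ∈ B
    · rw [if_pos hψ, Finset.prod_eq_zero (Set.mem_toFinset.2 hψ) (by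
        rw [neg_mul, inv_mul_cancel₀ (ne_zero_of_not_memI hM (hwB ψ hψ).2)]; ring)]
      ring
    · rw [if_neg hψ, Finset.prod_eq_one (fun χ _ => by rw [hw0 ψ hψ]; ring)]
      ring
  rw [hfin]
  exact (hhR.const_mul hM (memR_neg (memR_one hM))).add hM (isRealised_one hM)

open scoped Classical in
/-- The block idempotent: its coefficients are local integers and it acts by the indicator. -/
theorem memR_and_omega_blockCoeff (hM : IsPModular p M) {B : Set (IrrCharacter G)}
    (hB : IsPBlock M B) :
    (∀ g, MemLocalRing M (blockCoeff B g)) ∧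
      omega (blockCoeff B) = fun χ => if χ ∈ B then (1 : ℂ) else 0 := by
  have := Fintype.ofFinite (IrrCharacter G)
  obtain ⟨f, hf, hR, hω⟩ := isRealised_indicator hM hB
  have : f = blockCoeff B := funext fun y => by
    rw [eq_sum_omega hf y, hω, blockCoeff, finsum_mem_eq_toFinset_sum]
    congr 1
    simp only [ite_mul, one_mul, zero_mul]
    rw [← Finset.sum_filter]
    congr 1
    ext χ
    simp
  rw [← this]
  exact ⟨hR, hω⟩

theorem memR_blockCoeff (hM : IsPModular p M) {B : Set (IrrCharacter G)} (hB : IsPBlock M B)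
    (g : G) : MemLocalRing M (blockCoeff B g) :=
  (memR_and_omega_blockCoeff hM hB).1 g

omit [Fintype G] in
theorem integralPrincipal (hM : IsPModular p M) : IntegralPrincipal.{u} M := fun H _ _ h => by
  have := Fintype.ofFinite H
  exact memR_blockCoeff hM isPBlock_principal h

end Cfsg.Agent.BrauerPairs
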