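import Cfsg.Agent.Lib.BrauerPairs.Principal

/-!
# The principal block: maximal pair, fusion system and defect groups

Under `IntegralPrincipal M`: `isMaximalBrauerPair_principal`, `fusion_principal_hom`,
`isDefectGroup_principal_iff`.
-/

set_option autoImplicit false

namespace Cfsg.Agent.BrauerPairs

open Cfsg Cfsg.Agent.Blocks

universe u

variable {G : Type u} [Group G] [Fintype G] {p : ℕ} [Fact p.Prime] {M : Ideal AlgInt}

omit [Fintype G] [Fact p.Prime] in
theorem subgroup_normalSubpair_isPGroup {Q P : Subgroup G}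
    {f : Set (IrrCharacter (Subgroup.centralizer (Q : Set G)))}
    {e : Set (IrrCharacter (Subgroup.centralizer (P : Set G)))}
    (h : SubpairLE p M Q f P e) (hQ : IsPGroup p Q) : IsPGroup p P := by
  suffices ∀ a b : BrauerPairIdx G, Relation.ReflTransGen (NormalSubpairRel p M) a b →
      IsPGroup p a.1 → IsPGroup p b.1 from this ⟨Q, f⟩ ⟨P, e⟩ h hQ
  intro a b hab
  induction hab with
  | refl => exact id
  | tail _ h _ => exact fun _ => h.2.1.1

theorem isMaximalBrauerPair_principal (hM : IsPModular p M) (hint : IntegralPrincipal.{u} M)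
    (S : Sylow p G) :
    IsMaximalBrauerPair p M (principalBlock M G) (S : Subgroup G)
      (principalBlock M (Subgroup.centralizer ((S : Subgroup G) : Set G))) :=
  ⟨brauerPairOf_principal hM hint S.2, fun _ _ hR hle =>
    S.3 hR.1.1 (subpairLE_subgroup_le hle)⟩

theorem fusion_principal_hom (hM : IsPModular p M) (hint : IntegralPrincipal.{u} M) (S : Sylow p G)
    (F : FusionSystem (S : Subgroup G))
    (hF : IsBlockFusionSystemOn p M (principalBlock M G) (S : Subgroup G)
      (principalBlock M (Subgroup.centralizer ((S : Subgroup G) : Set G))) F) (Q : Subgroup G) :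
    F.Hom Q = (groupFusionSystem (S : Subgroup G)).Hom Q := by
  ext φ
  rw [hF.2]
  constructor
  · rintro ⟨hQ, g, hg, hmap, -⟩
    refine ⟨hQ, fun x => ?_, g, hg⟩
    rw [hg]
    exact hmap ⟨x, x.2, rfl⟩
  · rintro ⟨hQ, hS, g, hg⟩
    have hmap : Q.map (MulAut.conj g).toMonoidHom ≤ (S : Subgroup G) := by
      rintro _ ⟨x, hx, rfl⟩
      have := hS ⟨x, hx⟩
      rw [hg] at this
      exact this
    refine ⟨hQ, g, hg, hmap, _, subpairLE_principal hM hint S.2 hQ, ?_⟩
    rw [conjBlock_principal]
    exact subpairLE_principal hM hint S.2 hmap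

theorem isDefectGroup_principal_iff (hM : IsPModular p M) (hint : IntegralPrincipal.{u} M)
    (D : Subgroup G) :
    IsDefectGroup p M (principalBlock M G) D ↔ ∃ S : Sylow p G, (S : Subgroup G) = D := by
  classical
  set β := blockCoeff (principalBlock M G) with hβ
  have hone : ∀ g : G, centralChar (fun _ : G => (1 : ℂ)) g =
      ((Subgroup.centralizer ({g} : Set G)).index : ℂ) := fun g => by simp [centralChar]
  -- a Sylow subgroup of a centraliser of index prime to p is a Sylow subgroup of G
  have hsyl : ∀ (g : G) (P : Sylow p (Subgroup.centralizer ({g} : Set G))),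
      ¬ p ∣ (Subgroup.centralizer ({g} : Set G)).index →
        ∃ S : Sylow p G, (S : Subgroup G) =
          (P : Subgroup (Subgroup.centralizer ({g} : Set G))).map
            (Subgroup.centralizer ({g} : Set G)).subtype := by
    intro g P hidx
    have hDp : IsPGroup p ((P : Subgroup (Subgroup.centralizer ({g} : Set G))).map
        (Subgroup.centralizer ({g} : Set G)).subtype) := P.2.map _
    have hDidx : ¬ p ∣ ((P : Subgroup (Subgroup.centralizer ({g} : Set G))).map
        (Subgroup.centralizer ({g} : Set G)).subtype).index := by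
      rw [Subgroup.index_map_subtype]
      exact fun h => ((Fact.out : p.Prime).dvd_mul.1 h).elim P.not_dvd_index hidx
    exact ⟨hDp.toSylow hDidx, IsPGroup.toSylow_coe hDp hDidx⟩
  constructor
  · rintro ⟨g, ⟨-, -, h3⟩, P, rfl⟩
    refine hsyl g P fun hdvd => h3 (oneIrr G) (oneIrr_mem_principal hM) ?_
    change MemLocalIdeal M (centralChar (fun _ : G => (1 : ℂ)) g)
    rw [hone]
    exact (memI_natCast hM).2 hdvd
  · rintro ⟨S, rfl⟩
    obtain ⟨g, hg⟩ : ∃ g : G,
        ¬ MemLocalIdeal M (((Subgroup.centralizer ({g} : Set G)).index : ℂ) * β g) := by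
      by_contra hcon
      push Not at hcon
      apply not_memI_one hM
      rw [← sum_blockCoeff (oneIrr_mem_principal (G := G) hM),
        sum_classFun (isClassFunction_blockCoeff _)]
      exact memI_sum hM _ fun c _ => hcon _
    have hidx : ¬ p ∣ (Subgroup.centralizer ({g} : Set G)).index := fun h =>
      hg (memI_mul_right hM ((memI_natCast hM).2 h) (hint G g))
    have hβg : ¬ MemLocalIdeal M (β g) := fun h => hg (memI_mul_left hM (memR_natCast hM _) h)
    obtain ⟨P₀⟩ := (inferInstance : Nonempty (Sylow p (Subgroup.centralizer ({g} : Set G))))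
    obtain ⟨S₀, hS₀⟩ := hsyl g P₀ hidx
    obtain ⟨a, rfl⟩ := MulAction.exists_smul_eq G S₀ S
    have hle : ((a • S₀ : Sylow p G) : Subgroup G) ≤
        Subgroup.centralizer ({a * g * a⁻¹} : Set G) := by
      intro x hx
      rw [Sylow.coe_subgroup_smul, hS₀, Subgroup.mem_smul_pointwise_iff_exists] at hx
      obtain ⟨y, hy, rfl⟩ := hx
      obtain ⟨z, -, rfl⟩ := Subgroup.mem_map.1 hy
      have hz : (z : G) * g = g * z := Subgroup.mem_centralizer_singleton_iff.1 z.2
      rw [Subgroup.mem_centralizer_singleton_iff, MulAut.smul_def, MulAut.conj_apply,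
        Subgroup.coe_subtype]
      calc a * (z : G) * a⁻¹ * (a * g * a⁻¹) = a * ((z : G) * g) * a⁻¹ := by group
        _ = a * g * a⁻¹ * (a * z * a⁻¹) := by rw [hz]; group
    have hβeq : β (a * g * a⁻¹) = β g := isClassFunction_blockCoeff _ g a
    refine ⟨a * g * a⁻¹, ⟨hint G _, by rw [← hβ, hβeq]; exact hβg, fun χ hχ => ?_⟩,
      (a • S₀).subtype hle, ?_⟩
    · intro h
      have h' : MemLocalIdeal M (centralChar (fun _ : G => (1 : ℂ)) (a * g * a⁻¹)) :=
        (memI_iff_of_sub hM (hχ (a * g * a⁻¹))).2 h
      have e : (Subgroup.centralizer ({a * g * a⁻¹} : Set G)).index =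
          (Subgroup.centralizer ({g} : Set G)).index :=
        centralizer_index_equiv (MulAut.conj a) g
      rw [hone, memI_natCast hM, e] at h'
      exact hidx h'
    · rw [Sylow.coe_subtype, Subgroup.subgroupOf_map_subtype, inf_eq_left.2 hle]

end Cfsg.Agent.BrauerPairs
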