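import Cfsg.Agent.Lib.Blocks.OrbitSum
import Cfsg.Agent.Lib.Perm.PermModule

/-!
# Idempotent endomorphisms of permutation modules of a `p`-group

`finrank_range_map_eq`: the rank of an idempotent matrix over a subring does not change under a
homomorphism to a field. `exists_transitive_cover`: an equivariant idempotent on the functions on a
`p`-group set has rank at least the length of some orbit, and when equality holds its image is that
transitive module: fixed vectors of a subgroup with no fixed point on the orbit vanish at all its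
fixed points.
-/

set_option autoImplicit false

namespace Cfsg.Agent.BrauerPairs

open Polynomial in
/-- The determinant attached to an idempotent endomorphism. -/
theorem det_one_add_smul_idem {K V : Type*} [Field K] [AddCommGroup V] [Module K V]
    [FiniteDimensional K V] {f : V →ₗ[K] V} (hf : IsIdempotentElem f) (t : K) :
    LinearMap.det (1 + t • f) = (1 + t) ^ Module.finrank K (LinearMap.range f) := by
  have h := LinearMap.IsIdempotentElem.isProj_range f hf
  let e := (LinearMap.range f).prodEquivOfIsCompl (LinearMap.ker f) h.isCompl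
  have h2 : 1 + t • f = e.conj (LinearMap.prodMap ((1 + t) • LinearMap.id) LinearMap.id) := by
    conv_lhs => rw [h.eq_conj_prodMap]
    have h1 : (1 : V →ₗ[K] V) = e.conj LinearMap.id := (LinearEquiv.conj_id e).symm
    rw [h1, ← map_smul, ← map_add]
    congr 1
    refine LinearMap.ext fun x => ?_
    ext
    · simp [add_smul]
    · simp
  rw [h2, LinearEquiv.conj_apply, LinearMap.comp_assoc, LinearMap.det_conj, LinearMap.det_prodMap,
    LinearMap.det_smul, LinearMap.det_id, mul_one]
  simp

open Polynomial in
theorem eval_map_det_one_add_X {R F n : Type*} [CommRing R] [Field F] [Fintype n] [DecidableEq n]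
    (χ : R →+* F) {E : Matrix n n R} (hE : E * E = E) (t : F) :
    (((1 + (Polynomial.X : R[X]) • E.map Polynomial.C).det).map χ).eval t
      = (1 + t) ^ Module.finrank F (LinearMap.range (Matrix.toLin' (E.map χ))) := by
  have h1 : IsIdempotentElem (Matrix.toLin' (E.map χ)) := by
    show Matrix.toLin' (E.map χ) * Matrix.toLin' (E.map χ) = Matrix.toLin' (E.map χ)
    rw [Module.End.mul_eq_comp, ← Matrix.toLin'_mul, ← Matrix.map_mul, hE]
  rw [← det_one_add_smul_idem h1 t, show (1 : (n → F) →ₗ[F] n → F) = Matrix.toLin' 1 from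
    Matrix.toLin'_one.symm, ← map_smul, ← map_add, LinearMap.det_toLin']
  have h2 : ∀ P : R[X], (P.map χ).eval t
      = ((Polynomial.evalRingHom t).comp (Polynomial.mapRingHom χ)) P := fun P => rfl
  rw [h2, RingHom.map_det]
  congr 1
  ext i j
  by_cases hij : i = j <;> simp [hij] <;> ring

open Polynomial in
/-- The rank of an idempotent matrix is insensitive to reduction. -/
theorem finrank_range_map_eq {R K L n : Type*} [CommRing R] [Field K] [Field L] [Infinite K]
    [Infinite L] [Fintype n] [DecidableEq n] (φ : R →+* K) (hφ : Function.Injective φ) (ψ : R →+* L)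
    {E : Matrix n n R} (hE : E * E = E) :
    Module.finrank L (LinearMap.range (Matrix.toLin' (E.map ψ)))
      = Module.finrank K (LinearMap.range (Matrix.toLin' (E.map φ))) := by
  let P : R[X] := (1 + (Polynomial.X : R[X]) • E.map Polynomial.C).det
  have hK : P.map φ = (1 + Polynomial.X) ^
      Module.finrank K (LinearMap.range (Matrix.toLin' (E.map φ))) :=
    Polynomial.funext fun t => by rw [eval_map_det_one_add_X φ hE]; simp
  have hR : P = (1 + Polynomial.X) ^
      Module.finrank K (LinearMap.range (Matrix.toLin' (E.map φ))) :=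
    Polynomial.map_injective φ hφ (by rw [hK]; simp)
  have hL : (1 + Polynomial.X : L[X]) ^ Module.finrank L (LinearMap.range (Matrix.toLin' (E.map ψ)))
      = (1 + Polynomial.X) ^ Module.finrank K (LinearMap.range (Matrix.toLin' (E.map φ))) :=
    Polynomial.funext fun t => by
      have h : (P.map ψ).eval t = _ := eval_map_det_one_add_X ψ hE t
      rw [hR] at h
      simpa using h.symm
  have hd := congrArg Polynomial.natDegree hL
  rwa [Polynomial.natDegree_pow, Polynomial.natDegree_pow,
    show (1 + Polynomial.X : L[X]).natDegree = 1 by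
      rw [add_comm, ← Polynomial.C_1, Polynomial.natDegree_X_add_C],
    mul_one, mul_one] at hd

open MulAction

variable {k A X : Type*} [Field k] [Group A] [Finite A] [Fintype X] [MulAction A X]
  {p : ℕ} [Fact p.Prime] [CharP k p]

omit [Finite A] [Fintype X] in
theorem mem_orbit_smul_iff' {a : A} {x y : X} : a • x ∈ orbit A y ↔ x ∈ orbit A y := by
  constructor
  · rintro ⟨b, hb⟩
    refine ⟨a⁻¹ * b, ?_⟩
    show (a⁻¹ * b) • y = x
    rw [mul_smul, show b • y = a • x from hb, inv_smul_smul]
  · rintro ⟨b, rfl⟩
    exact ⟨a * b, mul_smul a b y⟩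

open scoped Classical in
/-- The indicator of an orbit. -/
noncomputable def orbitInd (k : Type*) [Field k] (A : Type*) [Group A] {X : Type*} [MulAction A X]
    (y : X) : X → k :=
  fun x => if x ∈ orbit A y then 1 else 0

omit [Finite A] [Fintype X] in
theorem orbitInd_smul (y : X) (a : A) (x : X) : orbitInd k A y (a • x) = orbitInd k A y x := by
  classical
  simp only [orbitInd, mem_orbit_smul_iff']

omit [Finite A] in
open scoped Classical in
/-- An invariant sum over a subgroup action only sees the fixed points. -/
theorem sum_eq_sum_fixed (hA : IsPGroup p A) (R : Subgroup A) {f : X → k}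
    (hf : ∀ u ∈ R, ∀ x, f (u • x) = f x) :
    ∑ x, f x = ∑ x ∈ Finset.univ.filter (fun x => ∀ u ∈ R, u • x = x), f x := by
  have h := Blocks.sum_not_fixed_mem (hA.to_subgroup R) f (fun u x => hf u u.2 x) ⊥ fun x => by
    rw [AddSubmonoid.mem_bot, nsmul_eq_mul, CharP.cast_eq_zero, zero_mul]
  have hfix : ∀ x : X, x ∈ fixedPoints R X ↔ ∀ u ∈ R, u • x = x := fun x =>
    ⟨fun h u hu => h ⟨u, hu⟩, fun h u => h u u.2⟩
  rw [← Finset.sum_filter_add_sum_filter_not Finset.univ (fun x => x ∈ fixedPoints R X),
    AddSubmonoid.mem_bot.1 h, add_zero]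
  simp only [hfix]

open scoped Classical in
/-- An equivariant idempotent of rank at most `|A| / N` is the projection on a transitive module. -/
theorem exists_transitive_cover (hA : IsPGroup p A) (E : X → X → k)
    (heq : ∀ (a : A) (x y : X), E (a • x) (a • y) = E x y)
    (hidem : ∀ x y, ∑ z, E x z * E z y = E x y) (hne : ∃ x y, E x y ≠ 0) {N : ℕ}
    (hbig : ∀ z w, N < Nat.card (stabilizer A w) → (∀ a ∈ stabilizer A w, a • z = z) → E z w = 0)
    (hrank : Module.finrank k (LinearMap.range (Matrix.toLin' (Matrix.of E))) * N = Nat.card A) :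
    ∃ y : X, Nat.card (stabilizer A y) = N ∧ ∀ R : Subgroup A,
      (∀ z ∈ orbit A y, ∃ u ∈ R, u • z ≠ z) →
      ∀ w : X → k, (∀ u ∈ R, ∀ x, (∑ z, E (u • x) z * w z) = ∑ z, E x z * w z) →
        ∀ x₀, (∀ u ∈ R, u • x₀ = x₀) → ∑ z, E x₀ z * w z = 0 := by
  let L : (X → k) →ₗ[k] (X → k) := Matrix.toLin' (Matrix.of E)
  have hL : ∀ w x, L w x = ∑ z, E x z * w z := fun w x => rfl
  have hidemL : ∀ w, L (L w) = L w := fun w => funext fun x => by
    simp only [hL, Finset.mul_sum]
    rw [Finset.sum_comm]
    exact Finset.sum_congr rfl fun z _ => by simp only [← mul_assoc, ← Finset.sum_mul, hidem]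
  have hequiv : ∀ (a : A) (w : X → k) (x : X), L (fun z => w (a⁻¹ • z)) x = L w (a⁻¹ • x) := by
    intro a w x
    simp only [hL]
    refine Fintype.sum_equiv (MulAction.toPerm a⁻¹) _ _ fun z => ?_
    simp [heq]
  have hinv : ∀ w : X → k, (∀ (a : A) x, w (a • x) = w x) → ∀ (a : A) x, L w (a • x) = L w x := by
    intro w hw a x
    conv_rhs => rw [show x = a⁻¹ • (a • x) from (inv_smul_smul a x).symm, ← hequiv]
    exact congrArg (fun f => L f (a • x)) (funext fun z => (hw a⁻¹ z).symm)
  -- invariant vectors are combinations of orbit indicators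
  have hdec : ∀ w : X → k, (∀ (a : A) x, w (a • x) = w x) →
      ∃ c : X → k, w = ∑ z, c z • orbitInd k A z ∧ ∀ z, c z ≠ 0 → w z ≠ 0 := by
    intro w hw
    let rep : X → X := fun z => Quotient.out (Quotient.mk (orbitRel A X) z)
    have hrep : ∀ z, rep z ∈ orbit A z := fun z => by
      rw [← orbitRel_apply]
      exact Quotient.mk_out z
    have hrep' : ∀ z x, x ∈ orbit A z → rep x = rep z := fun z x hx => by
      show Quotient.out _ = Quotient.out _
      congr 1
      exact Quotient.sound (orbitRel_apply.mpr hx)
    refine ⟨fun z => if rep z = z then w z else 0, funext fun x => ?_, fun z hz => ?_⟩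
    · rw [Finset.sum_apply, Finset.sum_eq_single (rep x)]
      · obtain ⟨a, ha⟩ := hrep x
        simp only [Pi.smul_apply, smul_eq_mul, orbitInd, hrep' x (rep x) (hrep x), if_true,
          mem_orbit_symm.mp (hrep x), mul_one]
        rw [← ha, hw]
      · intro z _ hz
        simp only [Pi.smul_apply, smul_eq_mul, orbitInd, ite_mul, zero_mul, mul_ite, mul_one,
          mul_zero]
        split_ifs with h1 h2 <;> try rfl
        exact absurd ((hrep' z x h1).trans h2).symm hz
      · exact fun h => absurd (Finset.mem_univ _) h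
    · dsimp only at hz
      by_cases h : rep z = z
      · rwa [if_pos h] at hz
      · exact absurd (if_neg h) hz
  let σ : X → X → k := fun y => L (orbitInd k A y)
  -- an orbit with small stabilizer survives
  obtain ⟨y, hy, hσ⟩ : ∃ y, Nat.card (stabilizer A y) ≤ N ∧ σ y ≠ 0 := by
    by_contra hno
    push Not at hno
    have hall : ∀ n y, Nat.card (stabilizer A y) = n → σ y = 0 := by
      intro n
      induction n using Nat.strong_induction_on with
      | _ n ih =>
      intro y hy
      by_cases hsmall : n ≤ N
      · exact hno y (hy ▸ hsmall)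
      have hbigy : N < n := Nat.lt_of_not_le hsmall
      obtain ⟨c, hc, hc'⟩ := hdec (σ y) (hinv _ fun a x => orbitInd_smul y a x)
      have hσσ : σ y = ∑ z, c z • σ z := by
        conv_lhs => rw [show σ y = L (σ y) from (hidemL _).symm, hc, map_sum]
        exact Finset.sum_congr rfl fun z _ => map_smul _ _ _
      rw [hσσ]
      refine Finset.sum_eq_zero fun z _ => ?_
      by_cases hcz : c z = 0
      · rw [hcz, zero_smul]
      refine smul_eq_zero.mpr (Or.inr (ih _ ?_ z rfl))
      by_contra hle
      refine hc' z hcz ?_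
      show L (orbitInd k A y) z = 0
      rw [hL, sum_eq_sum_fixed hA (stabilizer A z) fun u hu w => by
        rw [orbitInd_smul]
        congr 1
        conv_lhs => rw [← show u • z = z from hu]
        exact heq u z w]
      refine Finset.sum_eq_zero fun w hw => ?_
      by_cases hwO : w ∈ orbit A y
      swap
      · simp [orbitInd, hwO]
      have hwfix : stabilizer A z ≤ stabilizer A w := fun u hu => (Finset.mem_filter.mp hw).2 u hu
      have hcardw : Nat.card (stabilizer A w) = n := by
        obtain ⟨a, rfl⟩ := hwO
        rw [stabilizer_smul_eq_stabilizer_map_conj, Subgroup.card_map_of_injective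
          (MulAut.conj a).injective, hy]
      have heqst : stabilizer A z = stabilizer A w :=
        Subgroup.eq_of_le_of_card_ge hwfix (by omega)
      rw [hbig z w (hcardw ▸ hbigy) (fun a ha => (heqst ▸ ha : a ∈ stabilizer A z)), zero_mul]
    obtain ⟨x₀, y₀, hxy⟩ := hne
    have hW : LinearMap.range L ≠ ⊥ := fun h => hxy (by
      have h1 := congrFun (LinearMap.range_eq_bot.mp h ▸ rfl : L (Pi.single y₀ 1) = 0) x₀
      simpa [hL, Pi.single_apply] using h1)
    let ρ : Representation k A (X → k) :=
      { toFun := fun a => LinearMap.funLeft k k (fun x : X => a⁻¹ • x)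
        map_one' := LinearMap.ext fun w => funext fun x => by simp
        map_mul' := fun a b => LinearMap.ext fun w => funext fun x => by
          simp [mul_inv_rev, mul_smul] }
    obtain ⟨w, ⟨w', rfl⟩, hw0, hwfix⟩ := Perm.exists_fixed_ne_zero hA ρ (LinearMap.range L)
      (by rintro a _ ⟨w, rfl⟩; exact ⟨fun z => w (a⁻¹ • z), funext fun x => hequiv a w x⟩) hW
    obtain ⟨c, hc, -⟩ := hdec (L w') fun a x => by
      have h := congrFun (hwfix a⁻¹) x
      simpa [ρ] using h
    refine hw0 ?_
    rw [← hidemL w', hc, map_sum]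
    refine Finset.sum_eq_zero fun z _ => ?_
    rw [map_smul]
    exact smul_eq_zero.mpr (Or.inr (hall _ z rfl))
  -- the transitive module of that orbit embeds
  let O := orbit A y
  let φ : (O → k) →ₗ[k] LinearMap.range L :=
    LinearMap.codRestrict _ (L ∘ₗ
      { toFun := fun w x => if h : x ∈ O then w ⟨x, h⟩ else 0
        map_add' := fun w w' => funext fun x => by
          simp only [Pi.add_apply]; split_ifs <;> simp
        map_smul' := fun a w => funext fun x => by
          simp only [Pi.smul_apply, RingHom.id_apply]; split_ifs <;> simp })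
      (fun w => ⟨_, rfl⟩)
  let ρO : Representation k A (O → k) :=
    { toFun := fun a => LinearMap.funLeft k k (fun x : O => a⁻¹ • x)
      map_one' := LinearMap.ext fun w => funext fun x => by simp
      map_mul' := fun a b => LinearMap.ext fun w => funext fun x => by
        simp [mul_inv_rev, mul_smul] }
  have hφeq : ∀ (a : A) (w : O → k) (x : X),
      ((φ (ρO a w) : LinearMap.range L) : X → k) x = ((φ w : LinearMap.range L) : X → k) (a⁻¹ • x) := by
    intro a w x
    show L _ x = L _ (a⁻¹ • x)
    rw [← hequiv]
    refine congrArg (fun f => L f x) (funext fun z => ?_)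
    by_cases hz : z ∈ O
    · have hz' : a⁻¹ • z ∈ O := (mem_orbit_smul_iff' (A := A)).mpr hz
      simp only [LinearMap.coe_mk, AddHom.coe_mk, dif_pos hz, dif_pos hz']
      rfl
    · have hz' : a⁻¹ • z ∉ O := fun h => hz ((mem_orbit_smul_iff' (A := A)).mp h)
      simp only [LinearMap.coe_mk, AddHom.coe_mk, dif_neg hz, dif_neg hz']
  have hinj : Function.Injective φ := by
    rw [← LinearMap.ker_eq_bot]
    by_contra hker
    obtain ⟨w, hw, hw0, hwfix⟩ := Perm.exists_fixed_ne_zero hA ρO (LinearMap.ker φ)
      (fun a w hw => by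
        rw [LinearMap.mem_ker] at hw ⊢
        exact Subtype.ext (funext fun x => by rw [hφeq, hw]; rfl)) hker
    let y' : O := ⟨y, mem_orbit_self y⟩
    have hconst : ∀ z : O, w z = w y' := by
      rintro ⟨z, a, rfl⟩
      have h := congrFun (hwfix a) ⟨a • y, mem_orbit y a⟩
      simp only [ρO, MonoidHom.coe_mk, OneHom.coe_mk, LinearMap.funLeft_apply] at h
      rw [← h]
      exact congrArg w (Subtype.ext (inv_smul_smul a y))
    refine hσ ?_
    have h : L (fun x => if h : x ∈ O then w ⟨x, h⟩ else 0) = 0 :=
      congrArg Subtype.val (LinearMap.mem_ker.mp hw)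
    have h' : (fun x => if h : x ∈ O then w ⟨x, h⟩ else 0) = w y' • orbitInd k A y := funext fun x => by
      by_cases hx : x ∈ O
      · simp [hx, orbitInd, O, hconst ⟨x, hx⟩]
      · simp [hx, orbitInd, O] 
    rw [h', map_smul] at h
    refine (smul_eq_zero.mp h).resolve_left fun h0 => hw0 (funext fun z => ?_)
    rw [hconst z, h0]
    rfl
  have hle : Nat.card O ≤ Module.finrank k (LinearMap.range L) := by
    have := LinearMap.finrank_le_finrank_of_injective hinj
    rwa [Module.finrank_pi, ← Nat.card_eq_fintype_card] at this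
  have horb : Nat.card O * Nat.card (stabilizer A y) = Nat.card A := by
    rw [← Nat.card_prod]
    exact Nat.card_congr (orbitProdStabilizerEquivGroup A y)
  have : Nonempty O := ⟨⟨y, mem_orbit_self y⟩⟩
  have hOpos : 0 < Nat.card O := Nat.card_pos
  have hprod : Module.finrank k (LinearMap.range L) * N = Nat.card A := hrank
  have hN : Nat.card (stabilizer A y) = N := by
    refine le_antisymm hy ?_
    by_contra hlt
    rw [not_le] at hlt
    exact (Nat.mul_lt_mul_of_le_of_lt hle hlt (lt_of_lt_of_le hOpos hle)).ne (horb.trans hprod.symm)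
  refine ⟨y, hN, fun R hR w hwR x₀ hx₀ => ?_⟩
  have hcard : Module.finrank k (LinearMap.range L) = Nat.card O :=
    Nat.eq_of_mul_eq_mul_right (hN ▸ Nat.card_pos : 0 < N) (hprod.trans (hN ▸ horb.symm))
  have hsurj : Function.Surjective φ :=
    (LinearMap.injective_iff_surjective_of_finrank_eq_finrank (by
      rw [Module.finrank_pi, ← Nat.card_eq_fintype_card, hcard])).mp hinj
  obtain ⟨c, hc⟩ := hsurj ⟨L w, w, rfl⟩
  have hcR : ∀ u ∈ R, ρO u c = c := fun u hu => hinj (Subtype.ext (funext fun x => by
    rw [hφeq, hc]
    have := hwR u⁻¹ (R.inv_mem hu) x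
    exact this))
  show L w x₀ = 0
  have hc1 : L (fun x => if h : x ∈ O then c ⟨x, h⟩ else 0) = L w := congrArg Subtype.val hc
  rw [← hc1, hL, sum_eq_sum_fixed hA R fun u hu x => ?_]
  · refine Finset.sum_eq_zero fun z hz => ?_
    by_cases hzO : z ∈ O
    · obtain ⟨u, hu, hne'⟩ := hR z hzO
      exact absurd ((Finset.mem_filter.mp hz).2 u hu) hne'
    · rw [dif_neg hzO, mul_zero]
  · congr 1
    · conv_lhs => rw [← hx₀ u hu]
      exact heq u x₀ x
    · by_cases hx : x ∈ O
      · have hx' : u • x ∈ O := (mem_orbit_smul_iff' (A := A)).mpr hx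
        rw [dif_pos hx, dif_pos hx']
        have h := congrFun (hcR u hu) ⟨u • x, hx'⟩
        simp only [ρO, MonoidHom.coe_mk, OneHom.coe_mk, LinearMap.funLeft_apply] at h
        rw [← h]
        exact congrArg c (Subtype.ext (inv_smul_smul u x))
      · have hx' : u • x ∉ O := fun h => hx ((mem_orbit_smul_iff' (A := A)).mp h)
        rw [dif_neg hx, dif_neg hx']

end Cfsg.Agent.BrauerPairs
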