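import Cfsg.Agent.Lib.BrauerPairs.Subpair
import Cfsg.Agent.Lib.Blocks.NilOmega

/-!
# Blocks and normal `p`-subgroups

* `eq_br_of_normal`: a central idempotent of `H` is supported on `C(P)` when `P` is a normal
  `p`-subgroup of `H`;
* `blockCoeff_eq_sum_of_suppIn`: a block idempotent supported, modulo `M`, in a normal subgroup is
  exactly a sum of block idempotents of that subgroup;
* `exists_block_of_stable`: the idempotent of a block `f` of `C(Q)` is a block idempotent of every
  `T` with `Q C(Q) ≤ T ≤ N(Q)` fixing `f`;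
* `blockCoeff_eq_zero_of_normal`, `blockCoeff_eq_orbit_average`.
-/

set_option autoImplicit false

namespace Cfsg.Agent.BrauerPairs

open Cfsg Cfsg.Agent.Blocks

variable {G : Type*} [Group G] [Finite G] {p : ℕ} {M : Ideal AlgInt}

variable (hM : IsPModular p M)
include hM

/-- In a group with the normal `p`-subgroup `P`, central idempotents live on `C(P)`. -/
theorem eq_br_of_normal_top [Fact p.Prime] {P : Subgroup G} [P.Normal] (hP : IsPGroup p P)
    {z : MonoidAlgebra (Res M) G} (hz : Fixed ⊤ z) (hzz : z * z = z) : br P z = z := by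
  classical
  have := res_charP hM
  have := Fintype.ofFinite G
  have := Fintype.ofFinite (ConjClasses G)
  have hN : (⊤ : Subgroup G) ≤ Subgroup.normalizer (P : Set G) := fun g _ => by
    rw [Subgroup.mem_normalizer_iff]
    exact fun x => ⟨fun hx => Subgroup.Normal.conj_mem inferInstance x hx g,
      fun hx => by simpa [mul_assoc] using Subgroup.Normal.conj_mem inferInstance _ hx g⁻¹⟩
  have hb : Fixed ⊤ (br P z) := Fixed.br hz hN
  have hbb : br P z * br P z = br P z := by
    rw [← br_mul (p := p) hP (hz.mono le_top) (hz.mono le_top), hzz]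
  have hd : Fixed ⊤ (z - br P z) := fun u hu => by rw [map_sub, hz u hu, hb u hu]
  have hnil : IsNilpotent (z - br P z) := isNilpotent_of_lamG hM hd fun χ => by
    have hlc := isClassFunction_lift hd
    have hlR := memR_lift hM (z - br P z)
    rw [lamG, res_eq_zero_iff hM (Blocks.memR_omega hM hlc hlR χ), omega_eq_sum_classes hlc]
    refine memI_sum hM _ fun q _ => ?_
    by_cases hq : (Quotient.out q : G) ∈ Subgroup.centralizer (P : Set G)
    · refine memI_mul_right hM ?_ (memR_centralChar hM χ _)
      rw [← res_eq_zero_iff hM (hlR _), lift, res_unres hM, MonoidAlgebra.coeff_sub,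
        Finsupp.sub_apply, coeff_br, if_pos hq, sub_self]
    · refine memI_mul_left hM (hlR _) (memI_centralChar_of_forall_notMem hM hP ?_ χ)
      intro x hx hxC
      obtain ⟨c, rfl⟩ := isConj_iff.1 hx
      exact hq ((Blocks.conj_mem_centralizer_iff (hN (Subgroup.mem_top c)) _).1 hxC)
  exact (eq_of_isNilpotent_sub_of_isIdempotentElem_of_commute (e₁ := z) (e₂ := br P z) hzz hbb hnil
    (hz.commute SuppIn.top)).symm

/-- If `P` is a normal `p`-subgroup of `H`, central idempotents of `H` live on `C(P)`. -/
theorem eq_br_of_normal [Fact p.Prime] {P H : Subgroup G} (hP : IsPGroup p P) (hPH : P ≤ H)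
    (hH : H ≤ Subgroup.normalizer (P : Set G)) {z : MonoidAlgebra (Res M) G}
    (hz : IsCentralIn H z) (hzz : z * z = z) : br P z = z := by
  classical
  have : (P.subgroupOf H).Normal := ⟨fun u hu n => by
    rw [Subgroup.mem_subgroupOf] at hu ⊢
    exact ((Subgroup.mem_normalizer_iff.mp (hH n.2)) _).mp hu⟩
  have := Fintype.ofFinite G
  have h := eq_br_of_normal_top hM (hP.of_equiv (Subgroup.subgroupOfEquivOfLe hPH).symm)
    (fixed_pull hz.2) (by rw [← pull_mul hz.1 hz.1, hzz])
  refine br_eq_self fun x hx => ?_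
  by_cases hxH : x ∈ H
  swap
  · exact hz.1 x hxH
  have hx' := congrArg (fun w : MonoidAlgebra (Res M) H => w.coeff ⟨x, hxH⟩) h
  simp only [coeff_br, coeff_pull] at hx'
  rw [if_neg] at hx'
  · exact hx'.symm
  · rw [Subgroup.mem_centralizer_iff]
    intro hc
    refine hx (Subgroup.mem_centralizer_iff.2 fun u hu => ?_)
    exact congrArg Subtype.val (hc ⟨u, hPH hu⟩ (Subgroup.mem_subgroupOf.2 hu))

omit hM in
/-- Convolution of functions supported in a subgroup. -/
theorem conv_of_support (K : Subgroup G) {F F' : G → ℂ} (hF : ∀ x, x ∉ K → F x = 0)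
    (hF' : ∀ x, x ∉ K → F' x = 0) :
    (∀ x, x ∉ K → Blocks.conv F F' x = 0) ∧
      ∀ k : K, Blocks.conv F F' k = Blocks.conv (fun a : K => F a) (fun a : K => F' a) k := by
  classical
  have := Fintype.ofFinite G
  refine ⟨fun x hx => ?_, fun k => ?_⟩
  · rw [conv_eq_sum]
    refine Finset.sum_eq_zero fun y _ => ?_
    by_cases hy : y ∈ K
    · rw [hF' _ fun h => hx (by simpa using K.mul_mem hy h), mul_zero]
    · rw [hF y hy, zero_mul]
  · rw [conv_eq_sum, conv_eq_sum, ← Finset.sum_filter_of_ne (p := fun y => y ∈ K) fun y _ hne =>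
      by_contra fun hy => hne (by rw [hF y hy, zero_mul]),
      Finset.sum_subtype (p := fun y => y ∈ K) _ (fun y => by simp)]
    rfl

omit hM in
open scoped Classical in
theorem subgroupBlockCoeff_coe (K : Subgroup G) (b : Set (IrrCharacter K)) (k : K) :
    subgroupBlockCoeff K b k = blockCoeff b k := by
  rw [subgroupBlockCoeff, dif_pos k.2]

omit [Finite G] hM in
theorem subgroupBlockCoeff_of_notMem (K : Subgroup G) (b : Set (IrrCharacter K)) {x : G}
    (hx : x ∉ K) : subgroupBlockCoeff K b x = 0 := by
  rw [subgroupBlockCoeff, dif_neg hx]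

open scoped Classical in
theorem conv_subgroupBlockCoeff {K : Subgroup G} {b b' : Set (IrrCharacter K)}
    (hb : IsPBlock M b) (hb' : IsPBlock M b') :
    Blocks.conv (subgroupBlockCoeff K b) (subgroupBlockCoeff K b') =
      if b = b' then subgroupBlockCoeff K b else 0 := by
  have h := conv_of_support K (F := subgroupBlockCoeff K b) (F' := subgroupBlockCoeff K b')
    (fun _ => subgroupBlockCoeff_of_notMem K b) (fun _ => subgroupBlockCoeff_of_notMem K b')
  funext x
  by_cases hx : x ∈ K
  · have h2 := h.2 ⟨x, hx⟩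
    simp only [subgroupBlockCoeff_coe] at h2
    rw [h2]
    simp only [blockCoeff_eq_ofOmega, ← ofOmega_mul]
    by_cases he : b = b'
    · subst he
      rw [if_pos rfl, blockInd_mul_self, ← blockCoeff_eq_ofOmega]
      exact (subgroupBlockCoeff_coe K b ⟨x, hx⟩).symm
    · rw [if_neg he]
      have : blockInd b * blockInd b' = 0 := by
        ext χ
        by_cases hχ : χ ∈ b
        · have : χ ∉ b' := fun h' => he (isPBlock_eq_of_mem hM hb hb' hχ h')
          simp [blockInd_of_notMem this]
        · simp [blockInd_of_notMem hχ]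
      rw [this, ofOmega_zero]
      rfl
  · rw [h.1 x hx]
    split_ifs
    · exact (subgroupBlockCoeff_of_notMem K b hx).symm
    · rfl

omit [Finite G] hM in
theorem conv_sum_sum [Fintype G] {ι : Type*} (s : Finset ι) (F : ι → G → ℂ) :
    Blocks.conv (fun x => ∑ i ∈ s, F i x) (fun x => ∑ i ∈ s, F i x) =
      fun x => ∑ i ∈ s, ∑ j ∈ s, Blocks.conv (F i) (F j) x := by
  funext x
  simp only [conv_eq_sum, Finset.sum_mul, Finset.mul_sum]
  rw [Finset.sum_comm]
  exact (Finset.sum_congr rfl fun i _ => Finset.sum_comm).trans Finset.sum_comm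

open scoped Classical in
/-- Exact decomposition of a block idempotent supported modulo `M` in a normal subgroup. -/
theorem blockCoeff_eq_sum_of_suppIn [Fact p.Prime] {K : Subgroup G} [K.Normal]
    {B : Set (IrrCharacter G)} (hB : IsPBlock M B) (hsupp : SuppIn K (blk M B)) (x : G) :
    blockCoeff B x = ∑ b ∈ (blocks M K).filter (fun b => blk M B * bIdem M K b = bIdem M K b),
      subgroupBlockCoeff K b x := by
  have := res_charP hM
  have := Fintype.ofFinite G
  set S := (blocks M K).filter (fun b => blk M B * bIdem M K b = bIdem M K b) with hS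
  have hmem : ∀ b ∈ S, IsPBlock M b := fun b hb => mem_blocks.1 (Finset.mem_filter.1 hb).1
  have hKN : ∀ g : G, g ∈ Subgroup.normalizer (K : Set G) := fun g => by
    rw [Subgroup.normalizer_eq_top]
    exact Subgroup.mem_top g
  have hcl : ∀ g : G, ∀ b ∈ S,
      conjImg K K g (mem_normalizer_iff_conj (hKN g)) b ∈ S := by
    intro g b hb
    refine Finset.mem_filter.2 ⟨mem_blocks.2 (isPBlock_conjImg _ (hmem b hb)), ?_⟩
    rw [← cj_bIdem hM]
    conv_lhs => rw [← fixed_blk B g (Subgroup.mem_top g), ← map_mul, (Finset.mem_filter.1 hb).2]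
  let f : G → ℂ := fun y => ∑ b ∈ S, subgroupBlockCoeff K b y
  suffices h : f = blockCoeff B from (congrFun h x).symm
  have hfR : ∀ y, MemLocalRing M (f y) := fun y =>
    memR_sum hM _ fun b hb => memR_subgroupBlockCoeff hM (hmem b hb) y
  have hinv : ∀ (g : G) (b : Set (IrrCharacter K)), IsPBlock M b →
      conjImg K K g⁻¹ (mem_normalizer_iff_conj (hKN g⁻¹))
        (conjImg K K g (mem_normalizer_iff_conj (hKN g)) b) = b := by
    intro g b hb
    refine bIdem_injective hM (isPBlock_conjImg _ (isPBlock_conjImg _ hb)) hb ?_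
    rw [← cj_bIdem hM, ← cj_bIdem hM, cj_inv_cj]
  have hfc : IsClassFunction G f := by
    intro y g
    refine (Finset.sum_bij (fun b _ => conjImg K K g⁻¹ (mem_normalizer_iff_conj (hKN g⁻¹)) b)
      (fun b hb => hcl g⁻¹ b hb) ?_ ?_ ?_)
    · intro b hb b' hb' he
      have h1 := congrArg (bIdem M K) he
      rw [← cj_bIdem hM, ← cj_bIdem hM] at h1
      exact bIdem_injective hM (hmem b hb) (hmem b' hb') ((cj g⁻¹).injective h1)
    · intro b hb
      exact ⟨_, hcl g b hb, hinv g b (hmem b hb)⟩
    · intro b _
      rw [subgroupBlockCoeff_conjImg, inv_inv]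
  have hff : Blocks.conv f f = f := by
    rw [conv_sum_sum S (fun b => subgroupBlockCoeff K b)]
    funext y
    refine Finset.sum_congr rfl fun b hb => ?_
    rw [Finset.sum_eq_single b]
    · rw [conv_subgroupBlockCoeff hM (hmem b hb) (hmem b hb), if_pos rfl]
    · intro b' hb' hne
      rw [conv_subgroupBlockCoeff hM (hmem b hb) (hmem b' hb'), if_neg hne.symm]
      rfl
    · exact fun h => absurd hb h
  refine eq_of_red_eq hM hfc (Blocks.isClassFunction_blockCoeff B) hfR
    (Blocks.memR_blockCoeff hM hB) hff ?_ ?_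
  · rw [blockCoeff_eq_ofOmega, ← ofOmega_mul, blockInd_mul_self]
  -- reductions agree
  have hblk : IsCentralIn K (blk M B) := ⟨hsupp, (fixed_blk B).mono le_top⟩
  have e : blk M B = ∑ b ∈ S, bIdem M K b := by
    calc blk M B = blk M B * ∑ b ∈ blocks M K, bIdem M K b := by rw [sum_bIdem hM, mul_one]
      _ = _ := by
        rw [Finset.mul_sum, hS, Finset.sum_filter]
        refine Finset.sum_congr rfl fun b hb => ?_
        by_cases h : blk M B * bIdem M K b = bIdem M K b
        · rw [if_pos h, h]
        · rw [if_neg h]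
          exact (mul_bIdem_cases hM hblk (blk_mul_self hM hB) (mem_blocks.1 hb)).resolve_left h
  ext y
  rw [← blk, e, coeff_red, MonoidAlgebra.coeff_sum, Finsupp.finsetSum_apply,
    res_sum hM _ fun b hb => memR_subgroupBlockCoeff hM (hmem b hb) y]
  exact Finset.sum_congr rfl fun b _ => (coeff_bIdem hM K b y).symm

/-- Block idempotents vanish outside the centraliser of a normal `p`-subgroup. -/
theorem blockCoeff_eq_zero_of_normal [Fact p.Prime] {P : Subgroup G} [P.Normal]
    (hP : IsPGroup p P) {B : Set (IrrCharacter G)} (hB : IsPBlock M B) {g : G}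
    (hg : g ∉ Subgroup.centralizer (P : Set G)) : blockCoeff B g = 0 := by
  classical
  rw [blockCoeff_eq_sum_of_suppIn hM (K := Subgroup.centralizer (P : Set G)) hB
    (eq_br_of_normal_top hM hP (fixed_blk B) (blk_mul_self hM hB) ▸ suppIn_br P _) g]
  exact Finset.sum_eq_zero fun b _ => subgroupBlockCoeff_of_notMem _ b hg

/-- The idempotent of a stable block of `C(Q)` is a block idempotent of `T`. -/
theorem exists_block_of_stable [Fact p.Prime] {Q T : Subgroup G} (hQ : IsPGroup p Q) (hQT : Q ≤ T)
    (hTN : T ≤ Subgroup.normalizer (Q : Set G))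
    (hCT : Subgroup.centralizer (Q : Set G) ≤ T)
    {f : Set (IrrCharacter (Subgroup.centralizer (Q : Set G)))} (hf : IsPBlock M f)
    (hfix : Fixed T (cb M Q f)) :
    ∃ F : Set (IrrCharacter T), IsPBlock M F ∧ bIdem M T F = cb M Q f ∧
      ∀ t : T, blockCoeff F t = subgroupBlockCoeff (Subgroup.centralizer (Q : Set G)) f t := by
  classical
  have := res_charP hM
  have := Fintype.ofFinite G
  have hz : IsCentralIn T (cb M Q f) := ⟨(bIdem_central _ f).1.mono hCT, hfix⟩
  obtain ⟨F, hF, hFle⟩ := exists_block_le hM hz (bIdem_mul_self hM hf) (bIdem_ne_zero hM hf)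
  have hbr := eq_br_of_normal hM hQ hQT hTN (bIdem_central T F) (bIdem_mul_self hM hF)
  have hFC : IsCentralIn (Subgroup.centralizer (Q : Set G)) (bIdem M T F) :=
    ⟨hbr ▸ suppIn_br Q _, (bIdem_central T F).2.mono hCT⟩
  have heq : bIdem M T F = cb M Q f := by
    have hcomm : cb M Q f * bIdem M T F = bIdem M T F * cb M Q f :=
      hfix.commute (bIdem_central T F).1
    rcases mul_bIdem_cases hM hFC (bIdem_mul_self hM hF) hf with h | h
    · rw [← hFle, hcomm, h]
    · exact absurd (by rw [← hFle, hcomm, h]) (bIdem_ne_zero hM hF)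
  refine ⟨F, hF, heq, fun t => ?_⟩
  let a : T → ℂ := fun t => subgroupBlockCoeff (Subgroup.centralizer (Q : Set G)) f t
  have ha : IsClassFunction T a := fun x u => by
    show subgroupBlockCoeff (Subgroup.centralizer (Q : Set G)) f ((u : G) * x * (u : G)⁻¹) = subgroupBlockCoeff (Subgroup.centralizer (Q : Set G)) f x
    have hu : (u : G)⁻¹ ∈ Subgroup.normalizer ((Subgroup.centralizer (Q : Set G)) : Set G) :=
      inv_mem (mem_normalizer_centralizer (hTN u.2))
    have := subgroupBlockCoeff_conj_of_fixed hM hf hu (hfix _ (T.inv_mem u.2)) x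
    rwa [inv_inv] at this
  have haa : Blocks.conv a a = a := by
    funext y
    have h := (conv_of_support T (F := subgroupBlockCoeff (Subgroup.centralizer (Q : Set G)) f) (F' := subgroupBlockCoeff (Subgroup.centralizer (Q : Set G)) f)
      (fun _ hx => subgroupBlockCoeff_of_notMem (Subgroup.centralizer (Q : Set G)) f fun h => hx (hCT h))
      (fun _ hx => subgroupBlockCoeff_of_notMem (Subgroup.centralizer (Q : Set G)) f fun h => hx (hCT h))).2 y
    rw [conv_subgroupBlockCoeff hM hf hf, if_pos rfl] at h
    exact h.symm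
  have key : blockCoeff F = a := by
    refine eq_of_red_eq hM (Blocks.isClassFunction_blockCoeff F) ha (Blocks.memR_blockCoeff hM hF)
      (fun y => memR_subgroupBlockCoeff hM hf _) ?_ haa ?_
    · rw [blockCoeff_eq_ofOmega, ← ofOmega_mul, blockInd_mul_self]
    · ext y
      have h := congrArg (fun w : MonoidAlgebra (Res M) G => w.coeff (y : G)) heq
      simp only [coeff_bIdem hM, subgroupBlockCoeff_coe] at h
      simpa only [coeff_red] using h
  exact congrFun key t

open scoped Classical in
/-- A block idempotent as the orbit average over the blocks of the centraliser of a normal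
`p`-subgroup. -/
theorem blockCoeff_eq_orbit_average [Fact p.Prime] [Fintype G] {P : Subgroup G} [P.Normal]
    (hP : IsPGroup p P) {B : Set (IrrCharacter G)}
    {e : Set (IrrCharacter (Subgroup.centralizer (P : Set G)))}
    (hBe : IsBrauerPairOf p M B P e) {T : Subgroup G}
    (hT : ∀ x, x ∈ T ↔ cj x (cb M P e) = cb M P e) (g : G) :
    blockCoeff B g = (Nat.card T : ℂ)⁻¹ *
      ∑ x : G, subgroupBlockCoeff (Subgroup.centralizer (P : Set G)) e (x⁻¹ * g * x) := by
  have := res_charP hM
  obtain ⟨⟨-, he⟩, hB, hle⟩ := (isBrauerPairOf_iff hM).1 hBe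
  have hbr : br P (blk M B) = blk M B := eq_br_of_normal_top hM hP (fixed_blk B) (blk_mul_self hM hB)
  rw [hbr] at hle
  have hsupp : SuppIn (Subgroup.centralizer (P : Set G)) (blk M B) := hbr ▸ suppIn_br P _
  have hKN : ∀ x : G, x ∈ Subgroup.normalizer ((Subgroup.centralizer (P : Set G)) : Set G) := fun x =>
    mem_normalizer_centralizer (by rw [Subgroup.normalizer_eq_top]; exact Subgroup.mem_top x)
  let φ : G → Set (IrrCharacter (Subgroup.centralizer (P : Set G))) := fun x => conjImg (Subgroup.centralizer (P : Set G)) (Subgroup.centralizer (P : Set G)) x (mem_normalizer_iff_conj (hKN x)) e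
  have hφ : ∀ x, bIdem M (Subgroup.centralizer (P : Set G)) (φ x) = cj x (cb M P e) := fun x => (cj_bIdem hM _ e).symm
  have hφb : ∀ x, IsPBlock M (φ x) := fun x => isPBlock_conjImg _ he
  rw [blockCoeff_eq_sum_of_suppIn hM (K := Subgroup.centralizer (P : Set G)) hB hsupp g]
  have hR : Finset.univ.image φ =
      (blocks M (Subgroup.centralizer (P : Set G))).filter (fun b => blk M B * bIdem M (Subgroup.centralizer (P : Set G)) b = bIdem M (Subgroup.centralizer (P : Set G)) b) := by
    ext b
    constructor
    · intro hb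
      obtain ⟨x, -, rfl⟩ := Finset.mem_image.1 hb
      refine Finset.mem_filter.2 ⟨mem_blocks.2 (hφb x), ?_⟩
      rw [hφ]
      conv_lhs => rw [← fixed_blk B x (Subgroup.mem_top x), ← map_mul, hle]
    · intro hb
      obtain ⟨hb1, hb2⟩ := Finset.mem_filter.1 hb
      by_contra hno
      set ε := ∑ c ∈ Finset.univ.image φ, bIdem M (Subgroup.centralizer (P : Set G)) c with hε
      have hεfix : Fixed ⊤ ε := by
        intro u _
        rw [hε, map_sum]
        have hinv : ∀ (y : G), ∀ c ∈ Finset.univ.image φ,
            conjImg (Subgroup.centralizer (P : Set G)) (Subgroup.centralizer (P : Set G)) y (mem_normalizer_iff_conj (hKN y)) c ∈ Finset.univ.image φ := by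
          intro y c hc
          obtain ⟨x, -, rfl⟩ := Finset.mem_image.1 hc
          refine Finset.mem_image.2 ⟨y * x, Finset.mem_univ _, ?_⟩
          refine bIdem_injective hM (hφb _) (isPBlock_conjImg _ (hφb x)) ?_
          rw [hφ, ← cj_bIdem hM, hφ, cj_mul]
        refine Finset.sum_bij (fun c _ => conjImg (Subgroup.centralizer (P : Set G)) (Subgroup.centralizer (P : Set G)) u (mem_normalizer_iff_conj (hKN u)) c)
          (hinv u) ?_ ?_ fun c _ => cj_bIdem hM _ c
        · intro c hc c' hc' heq
          obtain ⟨x, -, rfl⟩ := Finset.mem_image.1 hc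
          obtain ⟨x', -, rfl⟩ := Finset.mem_image.1 hc'
          have h1 := congrArg (bIdem M (Subgroup.centralizer (P : Set G))) heq
          rw [← cj_bIdem hM (mem_normalizer_iff_conj (hKN u)) (φ x),
            ← cj_bIdem hM (mem_normalizer_iff_conj (hKN u)) (φ x')] at h1
          exact bIdem_injective hM (hφb x) (hφb x') ((cj u).injective h1)
        · intro c hc
          refine ⟨_, hinv u⁻¹ c hc, ?_⟩
          obtain ⟨x, -, rfl⟩ := Finset.mem_image.1 hc
          refine bIdem_injective hM (isPBlock_conjImg _ (isPBlock_conjImg _ (hφb x))) (hφb x) ?_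
          rw [← cj_bIdem hM, ← cj_bIdem hM, cj_cj_inv]
      have hεmul : ∀ c, IsPBlock M c →
          ε * bIdem M (Subgroup.centralizer (P : Set G)) c = if c ∈ Finset.univ.image φ then bIdem M (Subgroup.centralizer (P : Set G)) c else 0 := by
        intro c hc
        rw [hε, Finset.sum_mul]
        split_ifs with h
        · rw [Finset.sum_eq_single c]
          · exact bIdem_mul_self hM hc
          · intro d hd hne
            obtain ⟨x, -, rfl⟩ := Finset.mem_image.1 hd
            exact bIdem_mul_of_ne hM (hφb x) hc hne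
          · exact fun h' => absurd h h'
        · refine Finset.sum_eq_zero fun d hd => ?_
          obtain ⟨x, -, rfl⟩ := Finset.mem_image.1 hd
          exact bIdem_mul_of_ne hM (hφb x) hc fun h' => h (h' ▸ hd)
      have hεε : ε * ε = ε := by
        conv_lhs => arg 2; rw [hε]
        rw [Finset.mul_sum, hε]
        refine Finset.sum_congr rfl fun c hc => ?_
        obtain ⟨x, -, rfl⟩ := Finset.mem_image.1 hc
        rw [← hε, hεmul _ (hφb x), if_pos hc]
      obtain ⟨ξ, hξ⟩ := isPBlock_nonempty hM hB
      have he1 : φ 1 ∈ Finset.univ.image φ := Finset.mem_image_of_mem _ (Finset.mem_univ 1)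
      have hblk : ε * blk M B = blk M B := by
        rcases mul_blk_cases hM hεfix hεε hB hξ with ⟨-, h⟩ | ⟨-, h⟩
        · exact h
        · exfalso
          refine bIdem_ne_zero hM (hφb 1) ?_
          have h1 := hεmul _ (hφb 1)
          rw [if_pos he1, hφ, cj_one, ← hle, ← mul_assoc, h, zero_mul] at h1
          rw [hφ, cj_one, ← hle]
          exact h1.symm
      have h2 := hεmul b (mem_blocks.1 hb1)
      rw [if_neg hno, ← hb2, ← mul_assoc, hblk, hb2] at h2
      exact bIdem_ne_zero hM (mem_blocks.1 hb1) h2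
  rw [← hR]
  have hterm : ∀ x : G, subgroupBlockCoeff (Subgroup.centralizer (P : Set G)) e (x⁻¹ * g * x) =
      subgroupBlockCoeff (Subgroup.centralizer (P : Set G)) (φ x) g := fun x => (subgroupBlockCoeff_conjImg _ e g).symm
  simp only [hterm]
  rw [← Finset.sum_fiberwise_of_maps_to (t := Finset.univ.image φ) (g := φ)
    (fun x hx => Finset.mem_image_of_mem φ hx), Finset.mul_sum]
  refine Finset.sum_congr rfl fun c hc => ?_
  obtain ⟨x₀, -, rfl⟩ := Finset.mem_image.1 hc
  have hfib : (Finset.univ.filter fun x => φ x = φ x₀).card = Nat.card T := by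
    rw [Nat.card_eq_fintype_card, ← Fintype.card_subtype]
    refine Fintype.card_congr
      { toFun := fun x => ⟨x₀⁻¹ * x.1, ?_⟩
        invFun := fun t => ⟨x₀ * t.1, ?_⟩
        left_inv := fun x => Subtype.ext (by simp)
        right_inv := fun t => Subtype.ext (by simp) }
    · have h := congrArg (bIdem M (Subgroup.centralizer (P : Set G))) x.2
      rw [hφ, hφ] at h
      rw [hT, cj_mul, h, cj_inv_cj]
    · refine bIdem_injective hM (hφb _) (hφb _) ?_
      rw [hφ, hφ, cj_mul, (hT _).1 t.2]
  rw [Finset.sum_congr rfl fun x hx => by rw [(Finset.mem_filter.1 hx).2], Finset.sum_const, hfib,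
    nsmul_eq_mul, ← mul_assoc, inv_mul_cancel₀ (Nat.cast_ne_zero.2 Nat.card_pos.ne'), one_mul]

end Cfsg.Agent.BrauerPairs
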