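import Cfsg.Agent.Lib.BrauerPairs.Pairs

/-!
# Inclusion of Brauer pairs

* `existsUnique_block_of_pair`, `existsUnique_fixed_block`, `existsUnique_normalSubpair`;
* `isBrauerPairOf_iff_of_le`: pairs related by inclusion belong to the same block;
* `exists_subpair`, `subpair_unique`, `subpair_between`, `normalSubpair_of_le`: on every subgroup
  exactly one subpair.
-/

set_option autoImplicit false

namespace Cfsg.Agent.BrauerPairs

open Cfsg Cfsg.Agent.Blocks

variable {G : Type*} [Group G] [Finite G] {p : ℕ} {M : Ideal AlgInt}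

variable (hM : IsPModular p M)
include hM

variable [Fact p.Prime]

theorem cb_mul_eq_zero_or {P : Subgroup G} {z : MonoidAlgebra (Res M) G}
    (hz : IsCentralIn (Subgroup.centralizer (P : Set G)) z) (hzz : z * z = z)
    {e : Set (IrrCharacter (Subgroup.centralizer (P : Set G)))} (he : IsPBlock M e) :
    z * cb M P e = cb M P e ∨ z * cb M P e = 0 :=
  mul_bIdem_cases hM hz hzz he

/-- Every Brauer pair belongs to exactly one block. -/
theorem existsUnique_block_of_pair {P : Subgroup G}
    {e : Set (IrrCharacter (Subgroup.centralizer (P : Set G)))} (h : IsBrauerPair p M P e) :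
    ∃! B : Set (IrrCharacter G), IsBrauerPairOf p M B P e := by
  classical
  have := res_charP hM
  have := Fintype.ofFinite G
  have := Fintype.ofFinite (IrrCharacter G)
  refine existsUnique_of_exists_of_unique ?_ fun B B' hB hB' => ?_
  · by_contra hno
    push Not at hno
    refine bIdem_ne_zero hM h.2 ?_
    have h1 : br P (∑ B ∈ Finset.univ.image
        (fun χ : IrrCharacter G => blockOf M (χ : G → ℂ)), blk M B) * cb M P e = cb M P e := by
      rw [sum_blk hM, br_one, one_mul]
    rw [br_sum, Finset.sum_mul] at h1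
    refine h1.symm.trans (Finset.sum_eq_zero fun B hB => ?_)
    obtain ⟨χ, -, rfl⟩ := Finset.mem_image.1 hB
    refine (cb_mul_eq_zero_or hM (br_blk_central hM P _)
      (br_blk_mul_self hM h.1 ⟨χ, rfl⟩) h.2).resolve_left fun h2 => ?_
    exact hno _ ((isBrauerPairOf_iff hM).2 ⟨h, ⟨χ, rfl⟩, h2⟩)
  · obtain ⟨-, hB₁, e₁⟩ := (isBrauerPairOf_iff hM).1 hB
    obtain ⟨-, hB₂, e₂⟩ := (isBrauerPairOf_iff hM).1 hB'
    by_contra hne
    refine bIdem_ne_zero hM h.2 ?_
    show cb M P e = 0
    rw [← e₁, ← e₂, ← mul_assoc, ← br_mul (p := p) h.1 ((fixed_blk B).mono le_top)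
      ((fixed_blk B').mono le_top), blk_mul_of_ne hM hB₁ hB₂ hne, br_zero, zero_mul]

/-- Below a block of `C(P)` lies exactly one `P`-stable block of `K`. -/
theorem existsUnique_fixed_block {P K : Subgroup G} (hP : IsPGroup p P)
    (hPK : P ≤ Subgroup.normalizer (K : Set G))
    (hCK : Subgroup.centralizer (P : Set G) ≤ K)
    {e : Set (IrrCharacter (Subgroup.centralizer (P : Set G)))} (he : IsPBlock M e) :
    ∃! b : Set (IrrCharacter K), IsPBlock M b ∧ Fixed P (bIdem M K b) ∧
      br P (bIdem M K b) * cb M P e = cb M P e := by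
  classical
  have := res_charP hM
  have := Fintype.ofFinite G
  refine existsUnique_of_exists_of_unique ?_ ?_
  · by_contra hno
    push Not at hno
    let S : Finset (MonoidAlgebra (Res M) G) := (blocks M K).image (bIdem M K)
    have hmem : ∀ (u : P) (z : MonoidAlgebra (Res M) G), z ∈ S → cj (u : G) z ∈ S := by
      intro u z hz
      obtain ⟨b, hb, rfl⟩ := Finset.mem_image.1 hz
      rw [cj_bIdem hM (mem_normalizer_iff_conj (hPK u.2))]
      exact Finset.mem_image_of_mem _ (mem_blocks.2 (isPBlock_conjImg _ (mem_blocks.1 hb)))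
    let _ : MulAction P S :=
      { smul := fun u z => ⟨cj (u : G) (z : MonoidAlgebra (Res M) G), hmem u z z.2⟩
        one_smul := fun z => Subtype.ext (by
          show cj ((1 : P) : G) (z : MonoidAlgebra (Res M) G) = z
          rw [Subgroup.coe_one, cj_one])
        mul_smul := fun u v z => Subtype.ext (by
          show cj ((u * v : P) : G) (z : MonoidAlgebra (Res M) G) = cj (u : G) (cj (v : G) _)
          rw [Subgroup.coe_mul, cj_mul]) }
    have hzero : ∀ b ∈ blocks M K, Fixed P (bIdem M K b) →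
        br P (bIdem M K b) * cb M P e = 0 := fun b hb hfix =>
      (cb_mul_eq_zero_or hM (br_bIdem_central hM hCK b)
        (br_bIdem_mul_self hM hP (mem_blocks.1 hb) hfix) he).resolve_left
        (hno b (mem_blocks.1 hb) hfix)
    let nf : S → MonoidAlgebra (Res M) G := fun z =>
      if Fixed P (z : MonoidAlgebra (Res M) G) then 0 else z
    have hnf : br P (∑ z : S, nf z) = 0 := by
      refine br_sum_eq_zero_of_no_fixed (p := p) hP nf ?_ ?_
      · intro u z
        have hiff : Fixed P (cj (u : G) (z : MonoidAlgebra (Res M) G)) ↔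
            Fixed P (z : MonoidAlgebra (Res M) G) := by
          constructor
          · intro h
            have hz : (z : MonoidAlgebra (Res M) G) = cj (u : G) z := by
              have h' := h _ (P.inv_mem u.2)
              rwa [cj_inv_cj] at h'
            rw [hz]
            exact h
          · intro h
            rw [h _ u.2]
            exact h
        show (if Fixed P (cj (u : G) (z : MonoidAlgebra (Res M) G)) then 0 else
          cj (u : G) (z : MonoidAlgebra (Res M) G)) = cj (u : G) (if _ then 0 else _)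
        by_cases hz : Fixed P (z : MonoidAlgebra (Res M) G)
        · rw [if_pos (hiff.2 hz), if_pos hz, map_zero]
        · rw [if_neg fun h => hz (hiff.1 h), if_neg hz]
      · intro z hz
        exact if_pos fun u hu => congrArg Subtype.val (hz ⟨u, hu⟩)
    refine bIdem_ne_zero hM he ?_
    show cb M P e = 0
    have h1 : br P (∑ z : S, (z : MonoidAlgebra (Res M) G)) * cb M P e = cb M P e := by
      rw [Finset.sum_coe_sort S (fun z => z), Finset.sum_image fun b hb b' hb' =>
        bIdem_injective hM (mem_blocks.1 hb) (mem_blocks.1 hb'), sum_bIdem hM, br_one, one_mul]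
    have hsplit : ∑ z : S, (z : MonoidAlgebra (Res M) G) = (∑ z : S, nf z) +
        ∑ z : S, (if Fixed P (z : MonoidAlgebra (Res M) G) then
          (z : MonoidAlgebra (Res M) G) else 0) := by
      rw [← Finset.sum_add_distrib]
      refine Finset.sum_congr rfl fun z _ => ?_
      by_cases hz : Fixed P (z : MonoidAlgebra (Res M) G) <;> simp [nf, hz]
    rw [← h1, hsplit, br_add, hnf, zero_add, br_sum, Finset.sum_mul]
    refine Finset.sum_eq_zero fun z _ => ?_
    by_cases hz : Fixed P (z : MonoidAlgebra (Res M) G)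
    · obtain ⟨b, hb, hbz⟩ := Finset.mem_image.1 z.2
      rw [if_pos hz, ← hbz]
      exact hzero b hb (hbz.symm ▸ hz)
    · rw [if_neg hz, br_zero, zero_mul]
  · rintro b b' ⟨hb, hf, h⟩ ⟨hb', hf', h'⟩
    by_contra hne
    refine bIdem_ne_zero hM he ?_
    show cb M P e = 0
    rw [← h, ← h', ← mul_assoc, ← br_mul (p := p) hP hf hf', bIdem_mul_of_ne hM hb hb' hne,
      br_zero, zero_mul]


/-- The unique normal subpair. -/
theorem existsUnique_normalSubpair {P Q : Subgroup G}
    {e : Set (IrrCharacter (Subgroup.centralizer (P : Set G)))} (hPe : IsBrauerPair p M P e)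
    (hQP : Q ≤ P) (hPN : P ≤ Subgroup.normalizer (Q : Set G)) :
    ∃! f : Set (IrrCharacter (Subgroup.centralizer (Q : Set G))),
      IsNormalSubpair p M Q f P e := by
  obtain ⟨f, ⟨hf, hfix, he⟩, huniq⟩ := existsUnique_fixed_block hM hPe.1
    (fun u hu => mem_normalizer_centralizer (hPN hu)) (Subgroup.centralizer_le hQP) hPe.2
  refine ⟨f, (isNormalSubpair_iff hM).2 ⟨⟨hPe.1.to_le hQP, hf⟩, hPe, hQP, hPN, hfix, he⟩,
    fun f' hf' => ?_⟩
  obtain ⟨h1, -, -, -, h5, h6⟩ := (isNormalSubpair_iff hM).1 hf'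
  exact huniq f' ⟨h1.2, h5, h6⟩

/-- A normal inclusion does not change the block. -/
theorem isBrauerPairOf_iff_of_normal {B : Set (IrrCharacter G)} (hB : IsPBlock M B)
    {a b : BrauerPairIdx G} (h : NormalSubpairRel p M a b) :
    IsBrauerPairOf p M B b.1 b.2 ↔ IsBrauerPairOf p M B a.1 a.2 := by
  have := res_charP hM
  have := Fintype.ofFinite G
  obtain ⟨hQ, hP, hQP, hPN, hfix, he⟩ := (isNormalSubpair_iff hM).1 h
  have hQfix : Fixed b.1 (br a.1 (blk M B)) :=
    Fixed.br ((fixed_blk B).mono le_top) hPN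
  have key : br b.1 (br a.1 (blk M B) * cb M a.1 a.2) * cb M b.1 b.2 =
      br b.1 (blk M B) * cb M b.1 b.2 := by
    rw [br_mul (p := p) hP.1 hQfix hfix, br_br hQP, mul_assoc, he]
  rw [isBrauerPairOf_iff hM, isBrauerPairOf_iff hM]
  constructor
  · rintro ⟨-, -, hb⟩
    refine ⟨hQ, hB, (cb_mul_eq_zero_or hM (br_blk_central hM _ B)
      (br_blk_mul_self hM hQ.1 hB) hQ.2).resolve_right fun h0 => bIdem_ne_zero hM hP.2 ?_⟩
    rw [h0, br_zero, zero_mul, hb] at key
    exact key.symm
  · rintro ⟨-, -, ha⟩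
    refine ⟨hP, hB, ?_⟩
    rw [← key, ha, he]

/-- Pairs related by inclusion belong to the same block. -/
theorem isBrauerPairOf_iff_of_le {B : Set (IrrCharacter G)} (hB : IsPBlock M B) {Q P : Subgroup G}
    {f : Set (IrrCharacter (Subgroup.centralizer (Q : Set G)))}
    {e : Set (IrrCharacter (Subgroup.centralizer (P : Set G)))}
    (h : SubpairLE p M Q f P e) :
    IsBrauerPairOf p M B P e ↔ IsBrauerPairOf p M B Q f := by
  have key : ∀ a b : BrauerPairIdx G, Relation.ReflTransGen (NormalSubpairRel p M) a b →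
      (IsBrauerPairOf p M B b.1 b.2 ↔ IsBrauerPairOf p M B a.1 a.2) := by
    intro a b hab
    induction hab with
    | refl => rfl
    | tail _ hst ih => exact (isBrauerPairOf_iff_of_normal hM hB hst).trans ih
  exact key _ _ h

omit hM [Fact p.Prime] in
theorem subgroup_le_of_subpairLE {a b : BrauerPairIdx G}
    (h : Relation.ReflTransGen (NormalSubpairRel p M) a b) : a.1 ≤ b.1 := by
  induction h with
  | refl => exact le_rfl
  | tail _ hst ih => exact ih.trans hst.2.2.1

omit hM [Fact p.Prime] in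
theorem isBrauerPair_of_subpairLE {a b : BrauerPairIdx G}
    (h : Relation.ReflTransGen (NormalSubpairRel p M) a b) (hb : IsBrauerPair p M b.1 b.2) :
    IsBrauerPair p M a.1 a.2 := by
  induction h using Relation.ReflTransGen.head_induction_on with
  | refl => exact hb
  | head hst _ _ => exact hst.1

omit hM in
theorem lt_inf_normalizer {Q P : Subgroup G} (hP : IsPGroup p P) (hlt : Q < P) :
    Q < P ⊓ Subgroup.normalizer (Q : Set G) := by
  have : Group.IsNilpotent P := hP.isNilpotent
  refine lt_of_le_of_ne (le_inf hlt.le Subgroup.le_normalizer) fun he => ?_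
  have h' : Q.subgroupOf P < ⊤ := by
    rw [lt_top_iff_ne_top]
    intro h
    exact not_le_of_gt hlt (Subgroup.subgroupOf_eq_top.1 h)
  refine (Group.normalizerCondition_of_isNilpotent (G := P) _ h').not_ge ?_
  intro x hx
  rw [Subgroup.mem_subgroupOf, he]
  refine ⟨x.2, ?_⟩
  show (x : G) ∈ Subgroup.normalizer (Q : Set G)
  rw [Subgroup.mem_normalizer_iff]
  intro y
  by_cases hy : y ∈ P
  · exact Subgroup.mem_normalizer_iff.1 hx ⟨y, hy⟩
  · refine iff_of_false (fun h => hy (hlt.le h)) fun h => hy ?_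
    have := P.mul_mem (P.mul_mem (P.inv_mem x.2) (hlt.le h)) x.2
    simpa [mul_assoc] using this

/-- Subpairs exist on every subgroup. -/
theorem exists_subpair {P Q : Subgroup G}
    {e : Set (IrrCharacter (Subgroup.centralizer (P : Set G)))} (hPe : IsBrauerPair p M P e)
    (hQP : Q ≤ P) :
    ∃ f : Set (IrrCharacter (Subgroup.centralizer (Q : Set G))),
      IsPBlock M f ∧ SubpairLE p M Q f P e := by
  induction hn : Nat.card P - Nat.card Q using Nat.strong_induction_on generalizing Q with
  | _ n ih =>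
  rcases eq_or_lt_of_le hQP with rfl | hlt
  · exact ⟨e, hPe.2, Relation.ReflTransGen.refl⟩
  set R := P ⊓ Subgroup.normalizer (Q : Set G) with hR
  have hQR := lt_inf_normalizer hPe.1 hlt
  have hRP : R ≤ P := inf_le_left
  have hcard : Nat.card Q < Nat.card R := by
    by_contra hle
    exact hQR.ne (Subgroup.eq_of_le_of_card_ge hQR.le (not_lt.1 hle))
  obtain ⟨g, hg, hgle⟩ := ih (Nat.card P - Nat.card R) (by
    have := Subgroup.card_le_of_le hRP
    omega) hRP rfl
  obtain ⟨f, hf, -⟩ := existsUnique_normalSubpair hM (P := R) (e := g) ⟨hPe.1.to_le hRP, hg⟩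
    hQR.le inf_le_right
  exact ⟨f, hf.1.2, Relation.ReflTransGen.head (b := (⟨R, g⟩ : BrauerPairIdx G)) hf hgle⟩

/-- The normal subpair on a smaller normal subgroup passes through an intermediate one. -/
theorem normalSubpair_trans_unique {P R S : Subgroup G}
    {e : Set (IrrCharacter (Subgroup.centralizer (P : Set G)))}
    {g : Set (IrrCharacter (Subgroup.centralizer (R : Set G)))}
    {h : Set (IrrCharacter (Subgroup.centralizer (S : Set G)))}
    (hg : IsNormalSubpair p M R g P e) (hh : IsNormalSubpair p M S h P e) (hSR : S ≤ R) :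
    IsNormalSubpair p M S h R g := by
  have := res_charP hM
  have := Fintype.ofFinite G
  obtain ⟨hRg, hPe, hRP, hPR, hgfix, hge⟩ := (isNormalSubpair_iff hM).1 hg
  obtain ⟨-, -, -, hPS, -, -⟩ := (isNormalSubpair_iff hM).1 hh
  obtain ⟨h', hh', huniq⟩ := existsUnique_normalSubpair hM hRg hSR (hRP.trans hPS)
  obtain ⟨hSh', -, -, hRS, hfix', he'⟩ := (isNormalSubpair_iff hM).1 hh'
  have hfixP : Fixed P (cb M S h') := by
    intro u hu
    have hrel : NormalSubpairRel p M (⟨S, h'⟩ : BrauerPairIdx G) ⟨R, g⟩ := hh'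
    have hR' : conjIdx u (⟨R, g⟩ : BrauerPairIdx G) = ⟨R, g⟩ :=
      idx_ext hM (conjSub_eq_self_iff.2 (hPR hu)) (isPBlock_conjBlock _ _ hRg.2) hRg.2
        (by show cb M (conjSub u R) (conjBlock R u g) = cb M R g; rw [← cj_cb hM, hgfix u hu])
    have hmem : u ∈ Subgroup.normalizer (Subgroup.centralizer (S : Set G) : Set G) :=
      mem_normalizer_centralizer (hPS hu)
    set f := conjImg _ _ u (mem_normalizer_iff_conj hmem) h' with hfdef
    have hcf : cb M S f = cj u (cb M S h') := (cj_bIdem hM _ h').symm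
    have hidx : conjIdx u (⟨S, h'⟩ : BrauerPairIdx G) = ⟨S, f⟩ :=
      idx_ext hM (conjSub_eq_self_iff.2 (hPS hu)) (isPBlock_conjBlock _ _ hSh'.2)
        (isPBlock_conjImg _ hSh'.2)
        (by show cb M (conjSub u S) (conjBlock S u h') = cb M S f; rw [← cj_cb hM, hcf])
    have hrel' := normalSubpairRel_conj hM hrel u
    rw [hidx, hR'] at hrel'
    rw [← hcf, huniq f hrel']
  have hRgfix : Fixed P (br R (cb M S h')) := Fixed.br hfixP hPR
  have hle : br P (cb M S h') * cb M P e = cb M P e := by
    have h1 : br P (br R (cb M S h') * cb M R g) * cb M P e = br P (cb M R g) * cb M P e := by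
      rw [he']
    rw [br_mul (p := p) hPe.1 hRgfix hgfix, br_br hRP, mul_assoc, hge] at h1
    exact h1
  have : IsNormalSubpair p M S h' P e :=
    (isNormalSubpair_iff hM).2 ⟨hSh', hPe, hSR.trans hRP, hPS, hfixP, hle⟩
  rwa [(existsUnique_normalSubpair hM hPe (hSR.trans hRP) hPS).unique hh this]

/-- Subpairs are unique. -/
theorem subpair_unique {P Q : Subgroup G}
    {e : Set (IrrCharacter (Subgroup.centralizer (P : Set G)))}
    {f f' : Set (IrrCharacter (Subgroup.centralizer (Q : Set G)))}
    (hPe : IsBrauerPair p M P e) (h : SubpairLE p M Q f P e) (h' : SubpairLE p M Q f' P e) :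
    f = f' := by
  suffices key : ∀ (n : ℕ) (b : BrauerPairIdx G), Nat.card b.1 = n → IsBrauerPair p M b.1 b.2 →
      ∀ a a' : BrauerPairIdx G, Relation.ReflTransGen (NormalSubpairRel p M) a b →
        Relation.ReflTransGen (NormalSubpairRel p M) a' b → a.1 = a'.1 → a = a' by
    exact eq_of_heq (Sigma.mk.inj (key _ ⟨P, e⟩ rfl hPe ⟨Q, f⟩ ⟨Q, f'⟩ h h' rfl)).2
  intro n
  induction n using Nat.strong_induction_on with
  | _ n ih =>
  intro b hn hb
  -- the last proper step
  have last : ∀ a : BrauerPairIdx G, Relation.ReflTransGen (NormalSubpairRel p M) a b →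
      a = b ∨ ∃ c, c.1 < b.1 ∧ NormalSubpairRel p M c b ∧
        Relation.ReflTransGen (NormalSubpairRel p M) a c := by
    suffices last' : ∀ a d : BrauerPairIdx G, Relation.ReflTransGen (NormalSubpairRel p M) a d →
        a = d ∨ ∃ c, c.1 < d.1 ∧ NormalSubpairRel p M c d ∧
          Relation.ReflTransGen (NormalSubpairRel p M) a c from fun a ha => last' a b ha
    intro a d had
    induction had with
    | refl => exact Or.inl rfl
    | @tail c d hac hcd ihc =>
      by_cases hlt : c.1 < d.1
      · exact Or.inr ⟨c, hlt, hcd, hac⟩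
      · have heq : c = d := by
          obtain ⟨Q₀, f₀⟩ := c
          obtain ⟨P₀, e₀⟩ := d
          obtain ⟨h1, h2, h3, h4, h5, h6⟩ := (isNormalSubpair_iff hM).1 hcd
          obtain rfl : Q₀ = P₀ := eq_of_le_of_not_lt h3 hlt
          rw [br_eq_self (bIdem_central _ f₀).1] at h6
          by_contra hne
          refine bIdem_ne_zero hM h2.2 (h6.symm.trans ?_)
          exact bIdem_mul_of_ne hM h1.2 h2.2 fun he => hne (congrArg (Sigma.mk Q₀) he)
        exact heq ▸ ihc
  intro a a' ha ha' haa'
  rcases last a ha with rfl | ⟨c, hc, hcb, hac⟩ <;>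
    rcases last a' ha' with rfl | ⟨c', hc', hcb', hac'⟩
  · rfl
  · exact absurd haa'.le (not_le_of_gt ((subgroup_le_of_subpairLE hac').trans_lt hc'))
  · exact absurd haa'.ge (not_le_of_gt ((subgroup_le_of_subpairLE hac).trans_lt hc))
  -- the common subpair on the intersection
  obtain ⟨R, g⟩ := c
  obtain ⟨R', g'⟩ := c'
  have hRg : IsBrauerPair p M R g := hcb.1
  have hR'g : IsBrauerPair p M R' g' := hcb'.1
  have hRP : R ≤ b.1 := hcb.2.2.1
  have hPR : b.1 ≤ Subgroup.normalizer (R : Set G) := hcb.2.2.2.1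
  have hPR' : b.1 ≤ Subgroup.normalizer (R' : Set G) := hcb'.2.2.2.1
  set S := R ⊓ R' with hS
  have hPS : b.1 ≤ Subgroup.normalizer (S : Set G) := fun u hu => by
    rw [← conjSub_eq_self_iff]
    ext y
    have e1 := conjSub_eq_self_iff.2 (hPR hu)
    have e2 := conjSub_eq_self_iff.2 (hPR' hu)
    rw [hS, mem_conjSub, Subgroup.mem_inf, Subgroup.mem_inf, ← mem_conjSub, ← mem_conjSub, e1, e2]
  obtain ⟨k, hk, -⟩ := existsUnique_normalSubpair hM hb (inf_le_left.trans hRP) hPS
  have hkR : NormalSubpairRel p M (⟨S, k⟩ : BrauerPairIdx G) ⟨R, g⟩ :=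
    normalSubpair_trans_unique hM hcb hk inf_le_left
  have hkR' : NormalSubpairRel p M (⟨S, k⟩ : BrauerPairIdx G) ⟨R', g'⟩ :=
    normalSubpair_trans_unique hM hcb' hk inf_le_right
  have haS : a.1 ≤ S := le_inf (subgroup_le_of_subpairLE hac)
    (haa' ▸ subgroup_le_of_subpairLE hac')
  obtain ⟨f0, -, hf0⟩ := exists_subpair hM (P := S) (e := k) hk.1 haS
  have hsmall : ∀ T : Subgroup G, T < b.1 → Nat.card T < n := fun T hT => by
    rw [← hn]
    by_contra hle
    exact hT.ne (Subgroup.eq_of_le_of_card_ge hT.le (not_lt.1 hle))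
  have e1 := ih _ (hsmall R hc) ⟨R, g⟩ rfl hRg a ⟨a.1, f0⟩ hac (hf0.trans (.single hkR)) rfl
  have e2 := ih _ (hsmall R' hc') ⟨R', g'⟩ rfl hR'g a' ⟨a.1, f0⟩ hac'
    (hf0.trans (.single hkR')) haa'.symm
  exact e1.trans e2.symm

/-- Subpairs of subpairs on intermediate subgroups. -/
theorem subpair_between {Q R P : Subgroup G}
    {f : Set (IrrCharacter (Subgroup.centralizer (Q : Set G)))}
    {e : Set (IrrCharacter (Subgroup.centralizer (P : Set G)))}
    (hPe : IsBrauerPair p M P e) (h : SubpairLE p M Q f P e) (hQR : Q ≤ R) (hRP : R ≤ P) :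
    ∃ g : Set (IrrCharacter (Subgroup.centralizer (R : Set G))), IsPBlock M g ∧
      SubpairLE p M Q f R g ∧ SubpairLE p M R g P e := by
  obtain ⟨g, hg, hgle⟩ := exists_subpair hM hPe hRP
  obtain ⟨f', -, hf'⟩ := exists_subpair hM (P := R) (e := g) ⟨hPe.1.to_le hRP, hg⟩ hQR
  refine ⟨g, hg, ?_, hgle⟩
  rwa [subpair_unique hM hPe h (hf'.trans hgle)]

/-- An inclusion onto an overgroup normalising the lower subgroup is normal. -/
theorem normalSubpair_of_le {Q P : Subgroup G}
    {f : Set (IrrCharacter (Subgroup.centralizer (Q : Set G)))}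
    {e : Set (IrrCharacter (Subgroup.centralizer (P : Set G)))}
    (hPe : IsBrauerPair p M P e) (h : SubpairLE p M Q f P e)
    (hPN : P ≤ Subgroup.normalizer (Q : Set G)) : IsNormalSubpair p M Q f P e := by
  have hQP : Q ≤ P :=
    subgroup_le_of_subpairLE (a := (⟨Q, f⟩ : BrauerPairIdx G)) (b := ⟨P, e⟩) h
  obtain ⟨f', hf', -⟩ := existsUnique_normalSubpair hM hPe hQP hPN
  rwa [subpair_unique hM hPe h (Relation.ReflTransGen.single hf')]

end Cfsg.Agent.BrauerPairs
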