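import Mathlib.GroupTheory.Nilpotent
import Cfsg.Agent.EqLemmas
import Mathlib.GroupTheory.PGroup
import Mathlib.Algebra.BigOperators.Ring.Finset

/-!
# An involution on normal chains of `p`-subgroups

`chainSet p G`: the nonempty chains of nontrivial `p`-subgroups, each normal in the largest one.
For a `p`-element `u ≠ 1`, `chainTog u` is an involution of the chains normalised by `u`, other
than `{⟨u⟩}`, changing the length by one and preserving the stabilizer inside `C(u)`;
`sum_chain_eq` is the resulting collapse of the alternating sum.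
-/

set_option autoImplicit false

namespace Cfsg.Agent.BrauerPairs

open Subgroup

variable {G : Type*} [Group G]

/-- The stabilizer of a chain. -/
def chainStab (s : Finset (Subgroup G)) : Subgroup G := ⨅ Q ∈ s, normalizer ((Q : Subgroup G) : Set G)

/-- The conditions on a chain. -/
def IsNormalChain (p : ℕ) (s : Finset (Subgroup G)) : Prop :=
  s.Nonempty ∧ (∀ Q ∈ s, ∀ R ∈ s, Q ≤ R ∨ R ≤ Q) ∧ (∀ Q ∈ s, Q ≠ ⊥ ∧ IsPGroup p Q) ∧
    ∃ T ∈ s, ∀ Q ∈ s, Q ≤ T ∧ T ≤ normalizer ((Q : Subgroup G) : Set G)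

theorem mem_chainStab {s : Finset (Subgroup G)} {g : G} :
    g ∈ chainStab s ↔ ∀ Q ∈ s, g ∈ normalizer ((Q : Subgroup G) : Set G) := by
  simp only [chainStab, mem_iInf]

open scoped Classical in
/-- The largest member not containing `u` (or `⊥`). -/
noncomputable def chainLow (u : G) (s : Finset (Subgroup G)) : Subgroup G :=
  (s.filter fun Q => u ∉ Q).sup id

/-- The conjugates of `u` under the largest member. -/
def chainOrbit (u : G) (s : Finset (Subgroup G)) : Set G :=
  Set.range fun t : ↥(s.sup id) => (t : G) * u * (t : G)⁻¹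

/-- The member to be inserted or removed. -/
noncomputable def chainPivot (u : G) (s : Finset (Subgroup G)) : Subgroup G :=
  chainLow u s ⊔ closure (chainOrbit u s)

open scoped Classical in
/-- Toggle the pivot. -/
noncomputable def chainTog (u : G) (s : Finset (Subgroup G)) : Finset (Subgroup G) :=
  if chainPivot u s ∈ s then s.erase (chainPivot u s) else insert (chainPivot u s) s

theorem mem_chainPivot_self (u : G) (s : Finset (Subgroup G)) : u ∈ chainPivot u s :=
  mem_sup_right (subset_closure ⟨⟨1, one_mem _⟩, by simp⟩)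

theorem conj_mem_of_le_normalizer {Q : Subgroup G} {t : G}
    (ht : t ∈ normalizer ((Q : Subgroup G) : Set G)) {x : G} (hx : x ∈ Q) : t * x * t⁻¹ ∈ Q :=
  (mem_normalizer_iff.mp ht x).mp hx

/-- A `p`-group is not generated by a proper subgroup and its conjugates. -/
theorem exists_proper_normalized [Finite G] {p : ℕ} [Fact p.Prime] {L T : Subgroup G}
    (hT : IsPGroup p T) (hL : L < T) :
    ∃ M, L ≤ M ∧ M < T ∧ T ≤ normalizer ((M : Subgroup G) : Set G) := by
  haveI : Group.IsNilpotent T := hT.isNilpotent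
  have hne : L.subgroupOf T ≠ ⊤ := fun h => hL.not_ge (subgroupOf_eq_top.mp h)
  obtain ⟨M, hM, hLM⟩ := (eq_top_or_exists_le_coatom (L.subgroupOf T)).resolve_left hne
  haveI : M.Normal := NormalizerCondition.normal_of_coatom M
    Group.normalizerCondition_of_isNilpotent hM
  refine ⟨M.map T.subtype, fun x hx => ⟨⟨x, hL.le hx⟩, hLM hx, rfl⟩,
    (map_subtype_le M).lt_of_ne fun h => hM.1 ?_, fun t ht => ?_⟩
  · exact map_injective T.subtype_injective (h.trans (by rw [← MonoidHom.range_eq_map, range_subtype]))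
  · refine mem_normalizer_iff.mpr fun x => ⟨?_, ?_⟩
    · rintro ⟨y, hy, rfl⟩
      exact ⟨_, Normal.conj_mem ‹_› y hy ⟨t, ht⟩, rfl⟩
    · rintro ⟨y, hy, hy'⟩
      refine ⟨_, Normal.conj_mem ‹_› y hy (⟨t, ht⟩ : T)⁻¹, ?_⟩
      have hy2 : (y : G) = t * x * t⁻¹ := hy'
      simp only [subtype_apply, Subgroup.coe_mul, Subgroup.coe_inv, hy2]
      group

variable {p : ℕ} {u : G} {s : Finset (Subgroup G)}

theorem sup_eq_top_member (hs : IsNormalChain p s) :
    s.sup id ∈ s ∧ ∀ Q ∈ s, Q ≤ s.sup id ∧ s.sup id ≤ normalizer ((Q : Subgroup G) : Set G) := by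
  obtain ⟨T, hT, h⟩ := hs.2.2.2
  have : s.sup id = T := le_antisymm (Finset.sup_le fun Q hQ => (h Q hQ).1) (Finset.le_sup (f := id) hT)
  rw [this]
  exact ⟨hT, h⟩

theorem chainLow_spec (hs : IsNormalChain p s) :
    chainLow u s = ⊥ ∨ chainLow u s ∈ s ∧ u ∉ chainLow u s := by
  classical
  have := Finset.sup_induction (s := s.filter fun Q => u ∉ Q) (f := id)
    (p := fun Q => Q = ⊥ ∨ Q ∈ s ∧ u ∉ Q) (Or.inl rfl) ?_ ?_
  · exact this
  · rintro a (rfl | ⟨ha, hau⟩) b hb
    · rwa [bot_sup_eq]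
    · rcases hb with rfl | ⟨hb, hbu⟩
      · rw [sup_bot_eq]; exact Or.inr ⟨ha, hau⟩
      · rcases hs.2.1 a ha b hb with h | h
        · rw [sup_eq_right.mpr h]; exact Or.inr ⟨hb, hbu⟩
        · rw [sup_eq_left.mpr h]; exact Or.inr ⟨ha, hau⟩
  · exact fun Q hQ => Or.inr ⟨(Finset.mem_filter.mp hQ).1, (Finset.mem_filter.mp hQ).2⟩

theorem le_chainLow {Q : Subgroup G} (hQ : Q ∈ s) (hu : u ∉ Q) : Q ≤ chainLow u s := by
  classical
  exact Finset.le_sup (f := id) (Finset.mem_filter.mpr ⟨hQ, hu⟩)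

theorem chainOrbit_subset {Q : Subgroup G} (hs : IsNormalChain p s) (hQ : Q ∈ s) (hu : u ∈ Q) :
    chainOrbit u s ⊆ Q := by
  rintro _ ⟨t, rfl⟩
  exact conj_mem_of_le_normalizer (((sup_eq_top_member hs).2 Q hQ).2 t.2) hu

theorem le_chainPivot {Q : Subgroup G} (hQ : Q ∈ s) (hu : u ∉ Q) : Q ≤ chainPivot u s :=
  (le_chainLow hQ hu).trans le_sup_left

theorem chainPivot_le {Q : Subgroup G} (hs : IsNormalChain p s) (hQ : Q ∈ s) (hu : u ∈ Q) :
    chainPivot u s ≤ Q := by
  refine sup_le ?_ ((closure_le Q).mpr (chainOrbit_subset hs hQ hu))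
  rcases chainLow_spec (u := u) hs with h | ⟨h, hu'⟩
  · rw [h]; exact bot_le
  · exact (hs.2.1 _ h Q hQ).resolve_right fun hle => hu' (hle hu)

/-- Membership of the orbit closure is preserved by what fixes `u` and normalises the top. -/
theorem mem_normalizer_chainPivot {n : G} (hlow : n ∈ normalizer ((chainLow u s : Subgroup G) : Set G))
    (hconj : ∀ t ∈ s.sup id, ∃ t' ∈ s.sup id, n * (t * u * t⁻¹) * n⁻¹ = t' * u * t'⁻¹)
    (hconj' : ∀ t ∈ s.sup id, ∃ t' ∈ s.sup id, n⁻¹ * (t * u * t⁻¹) * n = t' * u * t'⁻¹) :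
    n ∈ normalizer ((chainPivot u s : Subgroup G) : Set G) := by
  have key : ∀ m : G, m ∈ normalizer ((chainLow u s : Subgroup G) : Set G) →
      (∀ t ∈ s.sup id, ∃ t' ∈ s.sup id, m * (t * u * t⁻¹) * m⁻¹ = t' * u * t'⁻¹) →
      chainPivot u s ≤ (chainPivot u s).comap (MulAut.conj m).toMonoidHom := by
    intro m hm hm'
    refine sup_le (fun x hx => mem_sup_left (conj_mem_of_le_normalizer hm hx)) ?_
    rw [closure_le]
    rintro _ ⟨t, rfl⟩
    obtain ⟨t', ht', h⟩ := hm' t t.2
    exact mem_sup_right (subset_closure ⟨⟨t', ht'⟩, h.symm⟩)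
  refine mem_normalizer_iff.mpr fun x => ⟨fun hx => key n hlow hconj hx, fun hx => ?_⟩
  have h := key n⁻¹ (inv_mem hlow) (fun t ht => by simpa using hconj' t ht) hx
  simpa [mul_assoc] using h

theorem mem_normalizer_chainLow (hs : IsNormalChain p s) {n : G} (hn : n ∈ chainStab s) :
    n ∈ normalizer ((chainLow u s : Subgroup G) : Set G) := by
  rcases chainLow_spec (u := u) hs with h | ⟨h, -⟩
  · rw [h, mem_normalizer_iff]
    intro x
    simp [mem_bot]
  · exact mem_chainStab.mp hn _ h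

/-- What stabilizes the chain and fixes `u` normalises the pivot. -/
theorem stab_mem_normalizer_pivot (hs : IsNormalChain p s) {n : G} (hn : n ∈ chainStab s)
    (hc : Commute u n) : n ∈ normalizer ((chainPivot u s : Subgroup G) : Set G) := by
  have hT := mem_chainStab.mp hn _ (sup_eq_top_member hs).1
  have key : ∀ m : G, m ∈ normalizer ((s.sup id : Subgroup G) : Set G) → Commute u m →
      ∀ t ∈ s.sup id, ∃ t' ∈ s.sup id, m * (t * u * t⁻¹) * m⁻¹ = t' * u * t'⁻¹ := by
    intro m hm hcm t ht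
    refine ⟨m * t * m⁻¹, conj_mem_of_le_normalizer hm ht, ?_⟩
    have h1 : m⁻¹ * u * m = u := by rw [mul_assoc, hcm.eq, inv_mul_cancel_left]
    calc m * (t * u * t⁻¹) * m⁻¹ = m * t * (m⁻¹ * u * m) * t⁻¹ * m⁻¹ := by rw [h1]; group
      _ = _ := by group
  refine mem_normalizer_chainPivot (mem_normalizer_chainLow hs hn) (key n hT hc) fun t ht => ?_
  simpa using key n⁻¹ (inv_mem hT) hc.inv_right t ht

/-- The top normalises the pivot. -/
theorem top_le_normalizer_pivot (hs : IsNormalChain p s) :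
    s.sup id ≤ normalizer ((chainPivot u s : Subgroup G) : Set G) := by
  have hstab : s.sup id ≤ chainStab s := fun t ht =>
    mem_chainStab.mpr fun Q hQ => ((sup_eq_top_member hs).2 Q hQ).2 ht
  intro n hn
  refine mem_normalizer_chainPivot (mem_normalizer_chainLow hs (hstab hn))
    (fun t ht => ⟨n * t, mul_mem hn ht, by group⟩)
    fun t ht => ⟨n⁻¹ * t, mul_mem (inv_mem hn) ht, by group⟩

theorem chainPivot_eq_of_notMem_top (hs : IsNormalChain p s)
    (hu : u ∉ s.sup id) :
    chainPivot u s = s.sup id ⊔ zpowers u := by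
  have h := sup_eq_top_member hs
  refine le_antisymm (sup_le ?_ ?_) (sup_le (le_chainPivot h.1 hu) ?_)
  · refine le_sup_of_le_left ?_
    classical
    exact Finset.sup_le fun Q hQ => (h.2 Q (Finset.mem_filter.mp hQ).1).1
  · rw [closure_le]
    rintro _ ⟨t, rfl⟩
    exact mul_mem (mul_mem (mem_sup_left t.2) (mem_sup_right (mem_zpowers u)))
      (inv_mem (mem_sup_left t.2))
  · exact zpowers_le.mpr (mem_chainPivot_self u s)

theorem isPGroup_chainPivot [Fact p.Prime] [Finite G] (hs : IsNormalChain p s)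
    (hu : ∃ k, orderOf u = p ^ k) (hstab : u ∈ chainStab s) : IsPGroup p (chainPivot u s) := by
  have h := sup_eq_top_member hs
  by_cases huT : u ∈ s.sup id
  · exact (hs.2.2.1 _ h.1).2.to_le (chainPivot_le hs h.1 huT)
  · rw [chainPivot_eq_of_notMem_top hs huT, sup_comm]
    obtain ⟨k, hk⟩ := hu
    exact (IsPGroup.of_card (n := k) (by rw [Nat.card_zpowers, hk])).to_sup_of_normal_right'
      (hs.2.2.1 _ h.1).2 (zpowers_le.mpr (mem_chainStab.mp hstab _ h.1))

theorem chainPivot_ne_bot (hu : u ≠ 1) : chainPivot u s ≠ ⊥ := fun h =>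
  hu (mem_bot.mp (h ▸ mem_chainPivot_self u s))

theorem mem_normalizer_of_mem {Q : Subgroup G} {x : G} (hx : x ∈ Q) :
    x ∈ normalizer ((Q : Subgroup G) : Set G) :=
  le_normalizer hx

theorem chainTog_mem_of_ne {Q : Subgroup G} (hQ : Q ∈ s) (hne : Q ≠ chainPivot u s) :
    Q ∈ chainTog u s := by
  classical
  rw [chainTog]
  split_ifs
  · exact Finset.mem_erase.mpr ⟨hne, hQ⟩
  · exact Finset.mem_insert_of_mem hQ

theorem of_mem_chainTog {Q : Subgroup G} (hQ : Q ∈ chainTog u s) :
    Q = chainPivot u s ∨ Q ∈ s := by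
  classical
  rw [chainTog] at hQ
  split_ifs at hQ
  · exact Or.inr (Finset.mem_of_mem_erase hQ)
  · exact (Finset.mem_insert.mp hQ)

theorem chainLow_chainTog : chainLow u (chainTog u s) = chainLow u s := by
  classical
  have hK := mem_chainPivot_self u s
  simp only [chainLow, chainTog]
  congr 1
  ext Q
  by_cases hQ : Q = chainPivot u s
  · subst hQ
    simp [hK]
  · split_ifs <;> simp [hQ]

/-- The pivot itself, when it is removed and was the largest member. -/
theorem pivot_eq_top_cases [Fact p.Prime] [Finite G] (hs : IsNormalChain p s)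
    (hK : chainPivot u s = s.sup id) :
    s.sup id = chainLow u s ⊔ zpowers u := by
  have h := sup_eq_top_member hs
  have huT : u ∈ s.sup id := hK ▸ mem_chainPivot_self u s
  have hle : chainLow u s ⊔ zpowers u ≤ s.sup id :=
    sup_le (le_sup_left.trans hK.le) (zpowers_le.mpr huT)
  by_contra hne
  obtain ⟨M, hLM, hMT, hTM⟩ := exists_proper_normalized (hs.2.2.1 _ h.1).2
    (hle.lt_of_ne (Ne.symm hne))
  refine hMT.not_ge (hK ▸ sup_le (le_sup_left.trans hLM) ((closure_le M).mpr ?_))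
  rintro _ ⟨t, rfl⟩
  exact conj_mem_of_le_normalizer (hTM t.2) (hLM (mem_sup_right (mem_zpowers u)))

theorem chainTog_spec [Fact p.Prime] [Finite G] (hs : IsNormalChain p s)
    (hu : ∃ k, orderOf u = p ^ k) (hu1 : u ≠ 1) (hstab : u ∈ chainStab s)
    (hne : s ≠ {zpowers u}) :
    IsNormalChain p (chainTog u s) ∧ u ∈ chainStab (chainTog u s) ∧
      chainPivot u (chainTog u s) = chainPivot u s := by
  classical
  have h := sup_eq_top_member hs
  let K := chainPivot u s
  have hKne : K ≠ ⊥ := chainPivot_ne_bot hu1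
  have hKu : u ∈ K := mem_chainPivot_self u s
  have hKp : IsPGroup p K := isPGroup_chainPivot hs hu hstab
  have hcomp : ∀ Q ∈ s, Q ≤ K ∨ K ≤ Q := fun Q hQ =>
    (em (u ∈ Q)).elim (fun hQu => Or.inr (chainPivot_le hs hQ hQu))
      (fun hQu => Or.inl (le_chainPivot hQ hQu))
  have hord : ∀ Q ∈ chainTog u s, ∀ R ∈ chainTog u s, Q ≤ R ∨ R ≤ Q := by
    intro Q hQ R hR
    rcases of_mem_chainTog hQ with rfl | hQ <;> rcases of_mem_chainTog hR with rfl | hR
    · exact Or.inl le_rfl
    · exact (hcomp R hR).symm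
    · exact hcomp Q hQ
    · exact hs.2.1 Q hQ R hR
  have hmemb : ∀ Q ∈ chainTog u s, Q ≠ ⊥ ∧ IsPGroup p Q := fun Q hQ => by
    rcases of_mem_chainTog hQ with rfl | hQ
    · exact ⟨hKne, hKp⟩
    · exact hs.2.2.1 Q hQ
  have hstab' : u ∈ chainStab (chainTog u s) := mem_chainStab.mpr fun Q hQ => by
    rcases of_mem_chainTog hQ with rfl | hQ
    · exact mem_normalizer_of_mem hKu
    · exact mem_chainStab.mp hstab Q hQ
  suffices hT : ∃ T ∈ chainTog u s, (∀ Q ∈ chainTog u s,
      Q ≤ T ∧ T ≤ normalizer ((Q : Subgroup G) : Set G)) ∧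
      chainLow u s ⊔ closure (Set.range fun t : T => (t : G) * u * (t : G)⁻¹) = K by
    obtain ⟨T, hT, hall, hpiv⟩ := hT
    refine ⟨⟨⟨T, hT⟩, hord, hmemb, T, hT, hall⟩, hstab', ?_⟩
    have hsup : (chainTog u s).sup id = T :=
      le_antisymm (Finset.sup_le fun Q hQ => (hall Q hQ).1) (Finset.le_sup (f := id) hT)
    rw [chainPivot, chainLow_chainTog, chainOrbit, hsup]
    exact hpiv
  by_cases huT : u ∈ s.sup id
  · by_cases hTK : s.sup id = K
    · have hT : s.sup id = chainLow u s ⊔ zpowers u := pivot_eq_top_cases hs hTK.symm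
      have hmem : K ∈ s := hTK ▸ h.1
      have hKs : ∀ Q, Q ∈ chainTog u s ↔ Q ≠ K ∧ Q ∈ s := fun Q => by
        rw [chainTog, if_pos hmem, Finset.mem_erase]
      have hlow' : ∀ Q ∈ chainTog u s, Q ≤ chainLow u s := fun Q hQ => by
        obtain ⟨hne', hQs⟩ := (hKs Q).mp hQ
        refine le_chainLow hQs fun hQu => hne' (le_antisymm ?_ (chainPivot_le hs hQs hQu))
        exact hTK ▸ (h.2 Q hQs).1
      rcases chainLow_spec (u := u) hs with h0 | ⟨h0, h0u⟩
      · refine absurd (Finset.eq_singleton_iff_unique_mem.mpr ⟨?_, fun Q hQ => ?_⟩) hne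
        · rw [h0, bot_sup_eq] at hT
          exact hT ▸ h.1
        · rw [h0, bot_sup_eq] at hT
          rw [← hT, hTK]
          by_contra hne'
          exact (hs.2.2.1 Q hQ).1 (le_bot_iff.mp (h0 ▸ hlow' Q ((hKs Q).mpr ⟨hne', hQ⟩)))
      · have h0K : chainLow u s ≠ K := fun he => h0u (by rw [he]; exact hKu)
        refine ⟨chainLow u s, (hKs _).mpr ⟨h0K, h0⟩, fun Q hQ => ⟨hlow' Q hQ,
          le_trans (h.2 _ h0).1 (h.2 Q ((hKs Q).mp hQ).2).2⟩, ?_⟩
        refine le_antisymm (sup_le (le_sup_left.trans hT.ge |>.trans hTK.le) ((closure_le K).mpr ?_)) ?_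
        · rintro _ ⟨t, rfl⟩
          refine hTK ▸ conj_mem_of_le_normalizer (Q := s.sup id) ?_ huT
          exact mem_normalizer_of_mem ((h.2 _ h0).1 t.2)
        · rw [← hTK, hT]
          exact sup_le le_sup_left (zpowers_le.mpr (mem_sup_right (subset_closure ⟨⟨1, one_mem _⟩, by simp⟩)))
    · refine ⟨s.sup id, chainTog_mem_of_ne h.1 hTK, fun Q hQ => ?_, rfl⟩
      rcases of_mem_chainTog hQ with rfl | hQ
      · exact ⟨chainPivot_le hs h.1 huT, top_le_normalizer_pivot hs⟩
      · exact h.2 Q hQ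
  · have hK : K = s.sup id ⊔ zpowers u := chainPivot_eq_of_notMem_top hs huT
    have hnot : K ∉ s := fun hm => huT ((h.2 K hm).1 hKu)
    refine ⟨K, ?_, fun Q hQ => ?_, ?_⟩
    · rw [chainTog, if_neg hnot]
      exact Finset.mem_insert_self _ _
    · rcases of_mem_chainTog hQ with rfl | hQ
      · exact ⟨le_rfl, le_normalizer⟩
      · refine ⟨(h.2 Q hQ).1.trans (hK.symm ▸ le_sup_left), hK ▸ sup_le (h.2 Q hQ).2 ?_⟩
        exact zpowers_le.mpr (mem_chainStab.mp hstab Q hQ)
    · refine le_antisymm (sup_le le_sup_left ((closure_le K).mpr ?_)) ?_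
      · rintro _ ⟨t, rfl⟩
        exact mul_mem (mul_mem t.2 hKu) (inv_mem t.2)
      · refine sup_le le_sup_left ((closure_le _).mpr ?_)
        rintro _ ⟨t, rfl⟩
        refine mem_sup_right (subset_closure ⟨⟨(t : G), ?_⟩, rfl⟩)
        rw [hK]
        exact mem_sup_left t.2

theorem chainTog_chainTog (hK : chainPivot u (chainTog u s) = chainPivot u s) :
    chainTog u (chainTog u s) = s := by
  classical
  by_cases h : chainPivot u s ∈ s
  · have h1 : chainTog u s = s.erase (chainPivot u s) := if_pos h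
    rw [h1] at hK ⊢
    rw [chainTog, hK, if_neg (Finset.notMem_erase _ _), Finset.insert_erase h]
  · have h1 : chainTog u s = insert (chainPivot u s) s := if_neg h
    rw [h1] at hK ⊢
    rw [chainTog, hK, if_pos (Finset.mem_insert_self _ _), Finset.erase_insert h]

theorem neg_one_pow_chainTog {R : Type*} [Ring R] (hne : s.Nonempty)
    (hne' : (chainTog u s).Nonempty) :
    (-1 : R) ^ ((chainTog u s).card - 1) = -((-1 : R) ^ (s.card - 1)) := by
  classical
  have h1 := hne.card_pos
  have h2 := hne'.card_pos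
  by_cases h : chainPivot u s ∈ s
  · have hc : (chainTog u s).card = s.card - 1 := by
      rw [chainTog, if_pos h, Finset.card_erase_of_mem h]
    rw [hc] at h2 ⊢
    obtain ⟨n, hn⟩ : ∃ n, s.card = n + 2 := ⟨s.card - 2, by omega⟩
    rw [hn, show n + 2 - 1 = n + 1 from rfl, Nat.add_sub_cancel, pow_succ]
    simp
  · have hc : (chainTog u s).card = s.card + 1 := by
      rw [chainTog, if_neg h, Finset.card_insert_of_notMem h]
    rw [hc]
    obtain ⟨n, hn⟩ : ∃ n, s.card = n + 1 := ⟨s.card - 1, by omega⟩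
    rw [hn, Nat.add_sub_cancel, Nat.add_sub_cancel, pow_succ]
    simp

theorem chainStab_chainTog_inf [Fact p.Prime] [Finite G] (hs : IsNormalChain p s)
    (hu : ∃ k, orderOf u = p ^ k) (hu1 : u ≠ 1) (hstab : u ∈ chainStab s)
    (hne : s ≠ {zpowers u}) :
    chainStab (chainTog u s) ⊓ centralizer ({u} : Set G)
      = chainStab s ⊓ centralizer ({u} : Set G) := by
  obtain ⟨hs', -, hK⟩ := chainTog_spec hs hu hu1 hstab hne
  ext n
  simp only [mem_inf]
  refine ⟨fun ⟨hn, hc⟩ => ⟨mem_chainStab.mpr fun Q hQ => ?_, hc⟩,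
    fun ⟨hn, hc⟩ => ⟨mem_chainStab.mpr fun Q hQ => ?_, hc⟩⟩
  · have hcomm : Commute u n := mem_centralizer_iff.mp hc u rfl
    by_cases hQK : Q = chainPivot u s
    · rw [hQK, ← hK]
      exact stab_mem_normalizer_pivot hs' hn hcomm
    · exact mem_chainStab.mp hn Q (chainTog_mem_of_ne hQ hQK)
  · have hcomm : Commute u n := mem_centralizer_iff.mp hc u rfl
    rcases of_mem_chainTog hQ with rfl | hQ
    · exact stab_mem_normalizer_pivot hs hn hcomm
    · exact mem_chainStab.mp hn Q hQ

theorem isNormalChain_zpowers (hu : ∃ k, orderOf u = p ^ k) (hu1 : u ≠ 1) :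
    IsNormalChain p ({zpowers u} : Finset (Subgroup G)) := by
  obtain ⟨k, hk⟩ := hu
  refine ⟨Finset.singleton_nonempty _, fun Q hQ R hR => ?_, fun Q hQ => ?_, zpowers u,
    Finset.mem_singleton_self _, fun Q hQ => ?_⟩
  · rw [Finset.mem_singleton.mp hQ, Finset.mem_singleton.mp hR]
    exact Or.inl le_rfl
  · rw [Finset.mem_singleton.mp hQ]
    exact ⟨fun h => hu1 (mem_bot.mp (h ▸ mem_zpowers u)),
      IsPGroup.of_card (n := k) (by rw [Nat.card_zpowers, hk])⟩
  · rw [Finset.mem_singleton.mp hQ]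
    exact ⟨le_rfl, le_normalizer⟩

theorem chainPivot_singleton :
    chainPivot u ({zpowers u} : Finset (Subgroup G)) = zpowers u := by
  classical
  refine le_antisymm (sup_le ?_ ?_) (zpowers_le.mpr (mem_chainPivot_self u _))
  · refine Finset.sup_le fun Q hQ => ?_
    rw [Finset.mem_singleton.mp (Finset.mem_filter.mp hQ).1]
    exact le_rfl
  · rw [closure_le]
    rintro _ ⟨⟨t, ht⟩, rfl⟩
    rw [Finset.sup_singleton, id] at ht
    exact mul_mem (mul_mem ht (mem_zpowers u)) (inv_mem ht)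

open scoped Classical in
/-- The alternating sum of a function of the stabilizer inside `C(u)` collapses to `{⟨u⟩}`. -/
theorem sum_chain_eq {R : Type*} [Ring R] [Fact p.Prime] [Finite G] [Fintype (Finset (Subgroup G))]
    (hu : ∃ k, orderOf u = p ^ k) (hu1 : u ≠ 1) (F : Subgroup G → R) :
    ∑ s ∈ Finset.univ.filter (fun s => IsNormalChain p s),
        (if u ∈ chainStab s then
          (-1 : R) ^ (s.card - 1) * F (chainStab s ⊓ centralizer ({u} : Set G)) else 0)
      = F (centralizer ({u} : Set G)) := by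
  rw [← Finset.sum_filter]
  let A := (Finset.univ.filter (fun s : Finset (Subgroup G) => IsNormalChain p s)).filter
    (fun s => u ∈ chainStab s)
  have h0 : ({zpowers u} : Finset (Subgroup G)) ∈ A := by
    refine Finset.mem_filter.mpr ⟨Finset.mem_filter.mpr ⟨Finset.mem_univ _,
      isNormalChain_zpowers hu hu1⟩, mem_chainStab.mpr fun Q hQ => ?_⟩
    rw [Finset.mem_singleton.mp hQ]
    exact mem_normalizer_of_mem (mem_zpowers u)
  show ∑ s ∈ A, _ = _
  rw [← Finset.add_sum_erase A _ h0, Finset.card_singleton, Nat.sub_self, pow_zero, one_mul]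
  have hstab : chainStab ({zpowers u} : Finset (Subgroup G)) ⊓ centralizer ({u} : Set G)
      = centralizer ({u} : Set G) := by
    refine inf_eq_right.mpr fun n hn => mem_chainStab.mpr fun Q hQ => ?_
    rw [Finset.mem_singleton.mp hQ]
    refine mem_normalizer_iff.mpr fun x => ?_
    have hfix : n * u * n⁻¹ = u := by
      rw [← mem_centralizer_iff.mp hn u rfl, mul_inv_cancel_right]
    constructor
    · rintro ⟨i, rfl⟩
      exact ⟨i, by rw [← conj_zpow, hfix]⟩
    · rintro ⟨i, hi⟩
      refine ⟨i, ?_⟩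
      have : n * u ^ i * n⁻¹ = n * x * n⁻¹ := by rw [← conj_zpow, hfix]; exact hi
      exact mul_left_cancel (mul_right_cancel this)
  have hinv : ∀ s ∈ A.erase {zpowers u}, IsNormalChain p s ∧ u ∈ chainStab s ∧
      s ≠ {zpowers u} := fun s hs => by
    obtain ⟨hne, hsA⟩ := Finset.mem_erase.mp hs
    exact ⟨(Finset.mem_filter.mp (Finset.mem_filter.mp hsA).1).2, (Finset.mem_filter.mp hsA).2, hne⟩
  rw [hstab, add_eq_left]
  refine Finset.sum_involution (fun s _ => chainTog u s) (fun s hs => ?_) (fun s hs _ => ?_)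
    (fun s hs => ?_) fun s hs => ?_
  · obtain ⟨h1, h2, h3⟩ := hinv s hs
    rw [chainStab_chainTog_inf h1 hu hu1 h2 h3,
      neg_one_pow_chainTog h1.1 (chainTog_spec h1 hu hu1 h2 h3).1.1, neg_mul, add_neg_cancel]
  · intro he
    by_cases hm : chainPivot u s ∈ s
    · rw [chainTog, if_pos hm] at he
      exact Finset.erase_eq_self.mp he hm
    · rw [chainTog, if_neg hm] at he
      exact hm (Finset.insert_eq_self.mp he)
  · obtain ⟨h1, h2, h3⟩ := hinv s hs
    obtain ⟨h4, h5, h6⟩ := chainTog_spec h1 hu hu1 h2 h3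
    refine Finset.mem_erase.mpr ⟨fun he => ?_,
      Finset.mem_filter.mpr ⟨Finset.mem_filter.mpr ⟨Finset.mem_univ _, h4⟩, h5⟩⟩
    have h7 := chainTog_chainTog h6
    rw [he, chainTog, chainPivot_singleton, if_pos (Finset.mem_singleton_self _),
      Finset.erase_singleton] at h7
    exact h1.1.ne_empty h7.symm
  · obtain ⟨h1, h2, h3⟩ := hinv s hs
    exact chainTog_chainTog (chainTog_spec h1 hu hu1 h2 h3).2.2

end Cfsg.Agent.BrauerPairs
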