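import Cfsg.Agent.Lib.BrauerPairs.SingularColumns
import Cfsg.Agent.Lib.BrauerPairs.ChainInvolution

/-!
# The alternating sum of `k - l` over normal chains

`sum_chain_card_sub_blockRank`: `|G| * (k(b) - l(b))` is the alternating sum, over the normal chains
of `p`-subgroups, of `|N(s)| * (k(b_s) - l(b_s))`.
-/

set_option autoImplicit false

namespace Cfsg.Agent.BrauerPairs

open Cfsg Blocks SecondMain

variable {G : Type*} [Group G] [Finite G] {p : ℕ} {M : Ideal AlgInt} {b : Set (IrrCharacter G)}

open scoped Classical in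
/-- The column at the `p'`-part `v`, in a subgroup of the centralizer of the `p`-part. -/
noncomputable def localCol (M : Ideal AlgInt) (b : Set (IrrCharacter G)) (H : Subgroup G) (v : G) :
    ℂ :=
  if h : v ∈ H then localSum M b H.subtype ⟨v, h⟩ else 0

omit [Finite G] in
theorem localCol_of_mem {H : Subgroup G} {v : G} (h : v ∈ H) :
    localCol M b H v = localSum M b H.subtype ⟨v, h⟩ := by
  classical
  exact dif_pos h

/-- The column of the blocks of a subgroup `N` at an element with parts `u`, `v`. -/
theorem localSum_subtype_eq_localCol (hM : IsPModular p M) (N : Subgroup G) {u v : G}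
    (hu : ∃ k, orderOf u = p ^ k) (hv : ¬ p ∣ orderOf v) (hc : Commute u v) (huN : u ∈ N)
    (hvN : v ∈ N) :
    localSum M b N.subtype ⟨u * v, mul_mem huN hvN⟩
      = localCol M b (N ⊓ Subgroup.centralizer ({u} : Set G)) v := by
  let u' : N := ⟨u, huN⟩
  let C : Subgroup N := Subgroup.centralizer ({u'} : Set N)
  have hC : ∀ g, g ∈ C ↔ Commute u' g := fun g => commute_iff_mem_centralizer_singleton
  have hvC : (⟨v, hvN⟩ : N) ∈ C := (hC _).mpr (Subtype.ext hc.eq)
  have hmem : v ∈ N ⊓ Subgroup.centralizer ({u} : Set G) :=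
    ⟨hvN, commute_iff_mem_centralizer_singleton.mpr hc⟩
  rw [localCol_of_mem hmem, show (⟨u * v, mul_mem huN hvN⟩ : N) = u' * ((⟨⟨v, hvN⟩, hvC⟩ : C) : N)
    from rfl, localSum_eq_centralizer hM N.subtype (u := u') ?_ hC (v := ⟨⟨v, hvN⟩, hvC⟩) ?_]
  · let e : C ≃* (N ⊓ Subgroup.centralizer ({u} : Set G) : Subgroup G) :=
      { toFun := fun c => ⟨((c : N) : G), (c : N).2, commute_iff_mem_centralizer_singleton.mpr
          (congrArg Subtype.val ((hC _).mp c.2).eq)⟩
        invFun := fun c => ⟨⟨(c : G), c.2.1⟩, (hC _).mpr (Subtype.ext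
          (commute_iff_mem_centralizer_singleton.mp c.2.2).eq)⟩
        left_inv := fun c => rfl
        right_inv := fun c => rfl
        map_mul' := fun c d => rfl }
    exact localSum_congr e _ _ (fun k => rfl) _
  · rwa [← Subgroup.orderOf_coe]
  · rwa [← Subgroup.orderOf_coe, ← Subgroup.orderOf_coe]

/-- The column of `b` at an element with parts `u`, `v`. -/
theorem colSum_eq_localCol (hM : IsPModular p M) (hb : IsPBlock M b) {u v : G}
    (hu : ∃ k, orderOf u = p ^ k) (hv : ¬ p ∣ orderOf v) (hc : Commute u v) :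
    colSum b (u * v) (u * v) = localCol M b (Subgroup.centralizer ({u} : Set G)) v := by
  have hvC : v ∈ Subgroup.centralizer ({u} : Set G) := commute_iff_mem_centralizer_singleton.mpr hc
  rw [localCol_of_mem hvC]
  have h := localSum_eq_centralizer (b := b) hM (MonoidHom.id G) hu
    (C := Subgroup.centralizer ({u} : Set G)) (fun g => commute_iff_mem_centralizer_singleton)
    (v := ⟨v, hvC⟩) (by rwa [← Subgroup.orderOf_coe])
  rw [localSum, localW_id_eq hM hb] at h
  exact h

open scoped Classical in
/-- The alternating sum. -/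
theorem sum_chain_card_sub_blockRank [Fintype (Finset (Subgroup G))] (hM : IsPModular p M)
    (hb : IsPBlock M b) :
    (Nat.card G : ℂ) * ((Nat.card b : ℂ) - (blockRank p b : ℂ))
      = ∑ s ∈ Finset.univ.filter (fun s : Finset (Subgroup G) => IsNormalChain p s),
          (-1 : ℂ) ^ (s.card - 1) * ((Nat.card (chainStab s) : ℂ) *
            ((Nat.card (localW M b (chainStab s).subtype) : ℂ)
              - (blockRank p (localW M b (chainStab s).subtype) : ℂ))) := by
  haveI : Fact p.Prime := ⟨hM.1⟩
  have := Fintype.ofFinite G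
  choose a c hac hma hmc hak hck using fun g : G => Transfer.exists_pPart_mul (p := p) g
  have hreg : ∀ g, ¬ p ∣ orderOf (c g) := fun g =>
    (Fact.out (p := p.Prime)).coprime_iff_not_dvd.mp (hck g).symm
  have hcomm : ∀ g, Commute (a g) (c g) := fun g => by
    obtain ⟨i, hi⟩ := Subgroup.mem_zpowers_iff.mp (hma g)
    obtain ⟨j, hj⟩ := Subgroup.mem_zpowers_iff.mp (hmc g)
    rw [← hi, ← hj]
    exact (Commute.refl g).zpow_zpow i j
  let S : Finset G := Finset.univ.filter fun g => p ∣ orderOf g
  have ha1 : ∀ g ∈ S, a g ≠ 1 := fun g hg h1 => by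
    have h := (hac g).trans (by rw [h1, one_mul])
    exact hreg g (h ▸ (Finset.mem_filter.mp hg).2)
  have hterm : ∀ N : Subgroup G, (Nat.card N : ℂ) * ((Nat.card (localW M b N.subtype) : ℂ)
      - (blockRank p (localW M b N.subtype) : ℂ)) = ∑ g ∈ S, if a g ∈ N then
        localCol M b (N ⊓ Subgroup.centralizer ({a g} : Set G)) (c g) else 0 := by
    intro N
    rw [natCast_card_mul_sub_blockRank hM fun ψ hψ => blockOf_subset_localW hM N.subtype hψ]
    symm
    rw [← Finset.sum_subset (Finset.filter_subset (fun g => g ∈ N) S) fun g hg hgN => ?_]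
    · refine Finset.sum_bij' (fun g hg => (⟨g, (Finset.mem_filter.mp hg).2⟩ : N))
        (fun g _ => (g : G)) (fun g hg => ?_) (fun g hg => ?_) (fun g _ => rfl) (fun g _ => rfl)
        fun g hg => ?_
      · exact Finset.mem_filter.mpr ⟨Finset.mem_univ _, by
          rw [← Subgroup.orderOf_coe]
          exact (Finset.mem_filter.mp (Finset.mem_filter.mp hg).1).2⟩
      · exact Finset.mem_filter.mpr ⟨Finset.mem_filter.mpr ⟨Finset.mem_univ _, by
          rw [Subgroup.orderOf_coe]
          exact (Finset.mem_filter.mp hg).2⟩, g.2⟩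
      · have hgN := (Finset.mem_filter.mp hg).2
        have haN : a g ∈ N := Subgroup.zpowers_le.mpr hgN (hma g)
        have hcN : c g ∈ N := Subgroup.zpowers_le.mpr hgN (hmc g)
        rw [if_pos haN, ← localSum_subtype_eq_localCol hM N (hak g) (hreg g) (hcomm g) haN hcN]
        show localSum M b N.subtype _ = localSum M b N.subtype _
        exact congrArg _ (Subtype.ext (hac g).symm)
    · by_cases haN : a g ∈ N
      · rw [if_pos haN, localCol, dif_neg]
        intro h
        exact hgN (Finset.mem_filter.mpr ⟨hg, (hac g) ▸ mul_mem haN h.1⟩)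
      · rw [if_neg haN]
  rw [natCast_card_mul_sub_blockRank hM fun χ hχ => (isPBlock_eq_blockOf hM hb hχ).ge]
  simp only [hterm, Finset.mul_sum, mul_ite, mul_zero]
  rw [Finset.sum_comm]
  refine Finset.sum_congr rfl fun g hg => ?_
  rw [sum_chain_eq (hak g) (ha1 g hg) fun H => localCol M b H (c g),
    ← colSum_eq_localCol hM hb (hak g) (hreg g) (hcomm g), ← hac g]

end Cfsg.Agent.BrauerPairs
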