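import Cfsg.Agent.Lib.Blocks.CoverDefect

/-!
# Covered blocks through idempotents

* `covers_of_mul_ne_zero`: `blk B * bIdem c ≠ 0` makes `B` cover `c`;
* `mul_ne_zero_of_covers`: conversely;
* `exists_stable_covered`: a `P`-stable covered block on which `br P` does not vanish.
-/

set_option autoImplicit false

namespace Cfsg.Agent.BrauerPairs

open Cfsg Cfsg.Agent.Blocks

variable {G : Type*} [Group G] [Fintype G] {p : ℕ} {M : Ideal AlgInt} (hM : IsPModular p M)
  (N : Subgroup G) [N.Normal] [Fintype N]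
include hM

theorem covers_of_mul_ne_zero {B : Set (IrrCharacter G)} (hB : IsPBlock M B)
    {c : Set (IrrCharacter N)} (hc : IsPBlock M c) (h : blk M B * bIdem M N c ≠ 0) :
    ∃ χ ∈ B, ∃ θ ∈ c, classInner (fun n : N => (χ : G → ℂ) n) (θ : N → ℂ) ≠ 0 := by
  classical
  by_contra hno
  have hcl := BlocksNormal.isClassFunction_orbitFun N c
  have hR := BlocksNormal.memR_orbitFun N hM hc
  obtain ⟨z, hz⟩ : ∃ z, z = red M (BlocksNormal.orbitFun N c) := ⟨_, rfl⟩
  have hzfix : Fixed ⊤ z := hz ▸ fixed_red hcl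
  have hzC : IsCentralIn N z := ⟨fun x hx => by
    rw [hz, coeff_red, BlocksNormal.orbitFun, Char.extendByZero_not_mem _ _ hx, res_zero hM],
    hzfix.mono le_top⟩
  obtain ⟨θ, hθ⟩ := isPBlock_nonempty hM hc
  have hlam : lam M N θ z = 1 := by
    have hpull : pull N z = red M (ofOmega (blockInd (BlocksNormal.orbitSet N c))) := by
      ext x
      rw [coeff_pull, hz, coeff_red, coeff_red, BlocksNormal.orbitFun,
        Char.extendByZero_mem _ _ x.2]
    rw [lam, hpull, lamG_red hM (isClassFunction_ofOmega _)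
      (BlocksNormal.blockInd_orbitSet_mem N hM hc), omega_ofOmega,
      blockInd_of_mem (show θ ∈ BlocksNormal.orbitSet N c from
        ⟨1, by rwa [BlocksNormal.conjIrr_one]⟩), res_one hM]
  have := res_nontrivial hM
  obtain ⟨w, hw, hzw⟩ := exists_inverse hM hzC hc hθ (by rw [hlam]; exact one_ne_zero)
  have hnil : IsNilpotent (blk M B * z) := by
    refine isNilpotent_of_lamG hM ((fixed_blk B).mul hzfix) fun ξ => ?_
    rw [lamG_mul hM (fixed_blk B) hzfix, lamG_blk hM hB]
    split_ifs with hξ
    · rw [one_mul, hz, lamG_red hM hcl hR]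
      obtain ⟨ψ, hψ⟩ := BlocksNormal.exists_constituent N ξ
      rw [BlocksNormal.omega_orbitFun N c ξ hψ, blockInd_of_notMem, res_zero hM]
      rintro ⟨g, hg⟩
      exact hno ⟨ξ, hξ, _, hg, by rwa [BlocksNormal.constituent_conjIrr]⟩
    · rw [zero_mul]
  refine h ?_
  obtain ⟨n, hn⟩ := hnil
  have hidem : blk M B * bIdem M N c * (blk M B * bIdem M N c) = blk M B * bIdem M N c := by
    rw [← mul_assoc, mul_assoc (blk M B) (bIdem M N c) (blk M B),
      ← (fixed_blk B).commute SuppIn.top, ← mul_assoc, blk_mul_self hM hB, mul_assoc,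
      bIdem_mul_self hM hc]
  have hcomm : (blk M B * z) * w = w * (blk M B * z) :=
    ((fixed_blk B).mul hzfix).commute SuppIn.top
  have hpow : ∀ k : ℕ, (blk M B * bIdem M N c) ^ (k + 1) = blk M B * bIdem M N c := by
    intro k
    induction k with
    | zero => rw [zero_add, pow_one]
    | succ k ih => rw [pow_succ, ih, hidem]
  rw [← hpow n, ← hzw, ← mul_assoc, Commute.mul_pow hcomm, pow_succ (blk M B * z), hn, zero_mul,
    zero_mul]

/-- Some `P`-stable covered block survives `br P`. -/
theorem exists_stable_covered [Fact p.Prime] {B : Set (IrrCharacter G)} (hB : IsPBlock M B)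
    {P : Subgroup G} (hP : IsPGroup p P) (hbr : br P (blk M B) ≠ 0) :
    ∃ c : Set (IrrCharacter N), IsPBlock M c ∧ Fixed P (bIdem M N c) ∧
      br P (blk M B * bIdem M N c) ≠ 0 := by
  classical
  have := res_charP hM
  by_contra hno
  push Not at hno
  let S : Finset (MonoidAlgebra (Res M) G) := (blocks M N).image (bIdem M N)
  have hnorm : ∀ u : G, u ∈ Subgroup.normalizer (N : Set G) := fun u => by
    rw [Subgroup.normalizer_eq_top]; exact Subgroup.mem_top u
  have hmem : ∀ (u : P) (z : MonoidAlgebra (Res M) G), z ∈ S → cj (u : G) z ∈ S := by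
    intro u z hz
    obtain ⟨b, hb, rfl⟩ := Finset.mem_image.1 hz
    rw [cj_bIdem hM (mem_normalizer_iff_conj (hnorm (u : G)))]
    exact Finset.mem_image_of_mem _ (mem_blocks.2 (isPBlock_conjImg _ (mem_blocks.1 hb)))
  let _ : MulAction P S :=
    { smul := fun u z => ⟨cj (u : G) (z : MonoidAlgebra (Res M) G), hmem u z z.2⟩
      one_smul := fun z => Subtype.ext (by
        show cj ((1 : P) : G) (z : MonoidAlgebra (Res M) G) = z
        rw [Subgroup.coe_one, cj_one])
      mul_smul := fun u v z => Subtype.ext (by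
        show cj ((u * v : P) : G) (z : MonoidAlgebra (Res M) G) = cj (u : G) (cj (v : G) _)
        rw [Subgroup.coe_mul, cj_mul]) }
  let F : S → MonoidAlgebra (Res M) G := fun z =>
    if Fixed P (z : MonoidAlgebra (Res M) G) then 0 else blk M B * z
  have hF : br P (∑ z : S, F z) = 0 := by
    refine br_sum_eq_zero_of_no_fixed (p := p) hP F ?_ ?_
    · intro u z
      have hiff : Fixed P (cj (u : G) (z : MonoidAlgebra (Res M) G)) ↔
          Fixed P (z : MonoidAlgebra (Res M) G) := by
        constructor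
        · intro h
          have hz : (z : MonoidAlgebra (Res M) G) = cj (u : G) z := by
            have h' := h _ (P.inv_mem u.2)
            rwa [cj_inv_cj] at h'
          rw [hz]
          exact h
        · intro h
          rw [h _ u.2]
          exact h
      show (if Fixed P (cj (u : G) (z : MonoidAlgebra (Res M) G)) then 0 else
        blk M B * cj (u : G) (z : MonoidAlgebra (Res M) G)) =
          cj (u : G) (if _ then 0 else blk M B * _)
      by_cases hz : Fixed P (z : MonoidAlgebra (Res M) G)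
      · rw [if_pos (hiff.2 hz), if_pos hz, map_zero]
      · rw [if_neg fun h => hz (hiff.1 h), if_neg hz, map_mul, fixed_blk B _ (Subgroup.mem_top _)]
    · intro z hz
      exact if_pos fun u hu => congrArg Subtype.val (hz ⟨u, hu⟩)
  refine hbr ?_
  have hsplit : blk M B = (∑ z : S, F z) + ∑ z : S,
      (if Fixed P (z : MonoidAlgebra (Res M) G) then blk M B * z else 0) := by
    rw [← Finset.sum_add_distrib]
    calc blk M B = ∑ z : S, blk M B * (z : MonoidAlgebra (Res M) G) := by
          rw [← Finset.mul_sum, Finset.sum_coe_sort S (fun z => z),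
            Finset.sum_image fun b hb b' hb' =>
              bIdem_injective hM (mem_blocks.1 hb) (mem_blocks.1 hb'), sum_bIdem hM, mul_one]
      _ = _ := Finset.sum_congr rfl fun z _ => by
          by_cases hz : Fixed P (z : MonoidAlgebra (Res M) G) <;> simp [F, hz]
  rw [hsplit, br_add, hF, zero_add, br_sum]
  refine Finset.sum_eq_zero fun z _ => ?_
  by_cases hz : Fixed P (z : MonoidAlgebra (Res M) G)
  · obtain ⟨b, hb, hbz⟩ := Finset.mem_image.1 z.2
    rw [if_pos hz, ← hbz]
    exact hno b (mem_blocks.1 hb) (hbz.symm ▸ hz)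
  · rw [if_neg hz, br_zero]

/-- A covered block is met by the block idempotent. -/
theorem mul_ne_zero_of_covers {B : Set (IrrCharacter G)} (hB : IsPBlock M B)
    {c : Set (IrrCharacter N)} (hc : IsPBlock M c)
    (hcov : ∃ χ ∈ B, ∃ θ ∈ c, classInner (fun n : N => (χ : G → ℂ) n) (θ : N → ℂ) ≠ 0) :
    blk M B * bIdem M N c ≠ 0 := by
  classical
  obtain ⟨b, hb, hne⟩ : ∃ b ∈ blocks M N, blk M B * bIdem M N b ≠ 0 := by
    by_contra hno
    push Not at hno
    refine blk_ne_zero hM hB ?_
    rw [← mul_one (blk M B), ← sum_bIdem hM N, Finset.mul_sum]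
    exact Finset.sum_eq_zero hno
  obtain ⟨χ', hχ', ψ, hψ, hne'⟩ := covers_of_mul_ne_zero hM N hB (mem_blocks.1 hb) hne
  obtain ⟨χ, hχ, θ, hθ, hcon⟩ := hcov
  obtain ⟨g, hg⟩ := BlocksNormal.exists_conjIrr_mem_of_sameBlock N hM hc
    (sameBlock_of_mem hM hB hχ hχ') hθ hcon hne'
  have hgN : g ∈ Subgroup.normalizer (N : Set G) := by
    rw [Subgroup.normalizer_eq_top]; exact Subgroup.mem_top g
  have himg : conjImg N N g (mem_normalizer_iff_conj hgN) b = c := by
    have h1 := isPBlock_conjImg (mem_normalizer_iff_conj hgN) (mem_blocks.1 hb)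
    have h2 : BlocksNormal.conjIrr N g ψ ∈ conjImg N N g (mem_normalizer_iff_conj hgN) b := by
      refine ⟨ψ, hψ, Subtype.ext (funext fun n => ?_)⟩
      rw [pullIrr_apply]
      show _ = CliffordChar.conjFun N g (ψ : N → ℂ) n
      rw [CliffordChar.conjFun_apply]
      refine congrArg (ψ : N → ℂ) (Subtype.ext ?_)
      show g⁻¹ * (n : G) * g = _
      simp [MulAut.conjNormal_apply]
    rw [isPBlock_eq_blockOf hM h1 h2, ← isPBlock_eq_blockOf hM hc hg]
  intro h
  refine hne ((cj g).injective ?_)
  rw [map_zero, map_mul, fixed_blk B g (Subgroup.mem_top g),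
    cj_bIdem hM (mem_normalizer_iff_conj hgN) b, himg, h]

end Cfsg.Agent.BrauerPairs
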