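import Cfsg.Agent.Lib.BrauerPairs.LocalDefect
import Cfsg.Agent.Lib.BrauerPairs.Transport
import Cfsg.Agent.Lib.BrauerPairs.StableBlock

/-!
# Stabilisers of Brauer pairs and local extension

* `pairStab M Q f`: the stabiliser of the pair `(Q, f)`, with `pairStab_conj`, `exists_block_pairStab`;
* `isMaximal_of_isDefectGroup`;
* `local_fully_iff`: intersections with a maximal pair are local defect groups exactly when they
  are largest among the conjugates below that pair;
* `not_dvd_local_index`, `card_inter_centralizer`: the local form of `not_dvd_index_sup_defect`;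
* `local_extend`: the Sylow-type extension inside a local subgroup.
-/

set_option autoImplicit false

namespace Cfsg.Agent.BrauerPairs

open Cfsg Cfsg.Agent.Blocks

variable {G : Type*} [Group G] [Finite G] {p : ℕ} {M : Ideal AlgInt}

/-- The stabiliser of `(Q, f)`. -/
noncomputable def pairStab (M : Ideal AlgInt) (Q : Subgroup G)
    (f : Set (IrrCharacter (Subgroup.centralizer (Q : Set G)))) : Subgroup G where
  carrier := {y | y ∈ Subgroup.normalizer (Q : Set G) ∧ cj y (cb M Q f) = cb M Q f}
  one_mem' := ⟨one_mem _, cj_one _⟩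
  mul_mem' := fun {a b} ha hb => ⟨mul_mem ha.1 hb.1, by rw [cj_mul, hb.2, ha.2]⟩
  inv_mem' := fun {a} ha => ⟨inv_mem ha.1, by conv_lhs => rw [← ha.2, cj_inv_cj]⟩

theorem mem_pairStab {Q : Subgroup G} {f : Set (IrrCharacter (Subgroup.centralizer (Q : Set G)))}
    {y : G} : y ∈ pairStab M Q f ↔
      y ∈ Subgroup.normalizer (Q : Set G) ∧ cj y (cb M Q f) = cb M Q f := Iff.rfl

theorem pairStab_le_normalizer (Q : Subgroup G)
    (f : Set (IrrCharacter (Subgroup.centralizer (Q : Set G)))) :
    pairStab M Q f ≤ Subgroup.normalizer (Q : Set G) := fun _ h => h.1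

theorem fixed_pairStab (Q : Subgroup G)
    (f : Set (IrrCharacter (Subgroup.centralizer (Q : Set G)))) :
    Fixed (pairStab M Q f) (cb M Q f) := fun _ h => h.2

theorem le_pairStab (Q : Subgroup G)
    (f : Set (IrrCharacter (Subgroup.centralizer (Q : Set G)))) : Q ≤ pairStab M Q f := fun _ h =>
  ⟨Subgroup.le_normalizer h, cj_eq_self_of_suppIn (bIdem_central _ f).1 h⟩

omit [Finite G] in
theorem cb_congr [Finite G] {P P' : Subgroup G}
    {e : Set (IrrCharacter (Subgroup.centralizer (P : Set G)))}
    {e' : Set (IrrCharacter (Subgroup.centralizer (P' : Set G)))}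
    (h : (⟨P, e⟩ : BrauerPairIdx G) = ⟨P', e'⟩) : cb M P e = cb M P' e' := by
  cases h
  rfl

variable (hM : IsPModular p M) [Fact p.Prime]
include hM

theorem centralizer_le_pairStab (Q : Subgroup G)
    (f : Set (IrrCharacter (Subgroup.centralizer (Q : Set G)))) :
    Subgroup.centralizer (Q : Set G) ≤ pairStab M Q f := fun u h =>
  ⟨centralizer_le_normalizer hM Q h, (bIdem_central _ f).2 u h⟩

theorem mem_pairStab_iff {Q : Subgroup G}
    {f : Set (IrrCharacter (Subgroup.centralizer (Q : Set G)))} (hf : IsPBlock M f) {y : G} :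
    y ∈ pairStab M Q f ↔ y ∈ Subgroup.normalizer (Q : Set G) ∧
      StabilizesBlock (Subgroup.centralizer (Q : Set G)) f y :=
  and_congr_right fun hy => (stabilizesBlock_iff hM hf (mem_normalizer_centralizer hy)).symm

theorem pairStab_conj (Q : Subgroup G) (f : Set (IrrCharacter (Subgroup.centralizer (Q : Set G))))
    (x : G) : pairStab M (conjSub x Q) (conjBlock Q x f) = conjSub x (pairStab M Q f) := by
  ext y
  rw [mem_conjSub, mem_pairStab, mem_pairStab, ← conjSub_eq_self_iff, ← conjSub_eq_self_iff,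
    ← cj_cb hM, conjSub_mul]
  refine and_congr ⟨fun h => ?_, fun h => ?_⟩ ⟨fun h => ?_, fun h => ?_⟩
  · have h' := congrArg (conjSub x⁻¹) h
    rwa [conjSub_mul, conjSub_mul, ← mul_assoc, inv_mul_cancel, conjSub_one] at h'
  · have h' := congrArg (conjSub x) h
    rw [conjSub_mul] at h'
    convert h' using 2
    group
  · have h' := congrArg (cj x⁻¹) h
    rwa [← cj_mul, ← cj_mul, cj_inv_cj] at h'
  · have h' := congrArg (cj x) h
    rw [← cj_mul] at h'
    rw [← cj_mul]
    convert h' using 3
    group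

theorem exists_block_pairStab {Q : Subgroup G}
    {f : Set (IrrCharacter (Subgroup.centralizer (Q : Set G)))} (hQ : IsBrauerPair p M Q f) :
    ∃ F : Set (IrrCharacter (pairStab M Q f)), IsPBlock M F ∧
      bIdem M (pairStab M Q f) F = cb M Q f ∧
      ∀ t : pairStab M Q f, blockCoeff F t =
        subgroupBlockCoeff (Subgroup.centralizer (Q : Set G)) f t :=
  exists_block_of_stable hM hQ.1 (le_pairStab Q f) (pairStab_le_normalizer Q f)
    (centralizer_le_pairStab hM Q f) hQ.2 (fixed_pairStab Q f)

theorem inf_pairStab_eq {Q P : Subgroup G}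
    {f : Set (IrrCharacter (Subgroup.centralizer (Q : Set G)))}
    {e : Set (IrrCharacter (Subgroup.centralizer (P : Set G)))}
    (hPe : IsBrauerPair p M P e) (hle : SubpairLE p M Q f P e) :
    P ⊓ pairStab M Q f = P ⊓ Subgroup.normalizer (Q : Set G) :=
  le_antisymm (inf_le_inf_left _ (pairStab_le_normalizer Q f)) (le_inf inf_le_left fun u hu =>
    ⟨hu.2, (br_cb_ne_zero_of_le hM hPe hle inf_le_left inf_le_right).1 u hu⟩)

/-- A pair of the block on a defect group is maximal. -/
theorem isMaximal_of_isDefectGroup {B : Set (IrrCharacter G)} {D : Subgroup G}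
    {g : Set (IrrCharacter (Subgroup.centralizer (D : Set G)))}
    (hg : IsBrauerPairOf p M B D g) (hD : IsDefectGroup p M B D) :
    IsMaximalBrauerPair p M B D g := by
  refine ⟨hg, fun R h hR hle => ?_⟩
  have hDR : D ≤ R :=
    subgroup_le_of_subpairLE (a := (⟨D, g⟩ : BrauerPairIdx G)) (b := ⟨R, h⟩) hle
  obtain ⟨⟨hRp, hh⟩, hB, hRle⟩ := (isBrauerPairOf_iff hM).1 hR
  refine (Subgroup.eq_of_le_of_card_ge hDR (card_le_of_br_ne_zero hM hB hRp (fun h0 => ?_) hD)).symm
  rw [h0, zero_mul] at hRle
  exact bIdem_ne_zero hM hh hRle.symm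

/-- Largest intersections are exactly defect groups. -/
theorem local_fully_iff {B : Set (IrrCharacter G)} {Q P H : Subgroup G}
    {f : Set (IrrCharacter (Subgroup.centralizer (Q : Set G)))}
    {e : Set (IrrCharacter (Subgroup.centralizer (P : Set G)))} {b : Set (IrrCharacter H)}
    (hmax : IsMaximalBrauerPair p M B P e) (hle : SubpairLE p M Q f P e) (hf : IsPBlock M f)
    (hHN : H ≤ Subgroup.normalizer (Q : Set G)) (hb : IsPBlock M b)
    (heq : bIdem M H b = cb M Q f) :
    (∀ g : G, SubpairLE p M (conjSub g Q) (conjBlock Q g f) P e →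
        Nat.card (P ⊓ conjSub g H : Subgroup G) ≤ Nat.card (P ⊓ H : Subgroup G)) ↔
      IsDefectGroup p M b ((P ⊓ H).subgroupOf H) := by
  have hPe : IsBrauerPair p M P e := hmax.1.1
  have hconj : ∀ g : G, ∀ x, x ∈ H ↔ g * x * g⁻¹ ∈ conjSub g H := fun g x => by
    rw [mem_conjSub]
    simp [mul_assoc]
  have hb' : ∀ g, IsPBlock M (conjImg H (conjSub g H) g (hconj g) b) ∧
      bIdem M (conjSub g H) (conjImg H (conjSub g H) g (hconj g) b) =
        cb M (conjSub g Q) (conjBlock Q g f) := fun g =>
    ⟨isPBlock_conjImg _ hb, by rw [← cj_bIdem hM, heq, cj_cb hM]⟩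
  -- defect orders do not change under conjugation
  have hcard : ∀ (g : G) (E : Subgroup ↥(conjSub g H)),
      IsDefectGroup p M (conjImg H (conjSub g H) g (hconj g) b) E →
      ∀ D : Subgroup H, IsDefectGroup p M b D → Nat.card E ≤ Nat.card D := by
    intro g E hE D hD
    have h0 := sub_br_defectGroup_ne_zero hM hE
    rw [(hb' g).2, ← cj_cb hM, ← heq] at h0
    have hle' : conjSub g⁻¹ (E.map (conjSub g H).subtype) ≤ H := by
      have h := conjSub_mono g⁻¹ (Subgroup.map_subtype_le E)
      rwa [conjSub_mul, inv_mul_cancel, conjSub_one] at h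
    have h2 := sub_card_le_of_br_ne_zero hM hb hle'
      (((isPGroup_defectGroup hM hE).map _).map _) (fun h => h0 ?_) hD
    · rwa [card_conjSub, Subgroup.card_map_of_injective (Subgroup.subtype_injective _)] at h2
    · have h1 := congrArg (cj g) h
      rwa [cj_br, conjSub_mul, mul_inv_cancel, conjSub_one, map_zero] at h1
  have hsub : ∀ (H' : Subgroup G), Nat.card ((P ⊓ H').subgroupOf H') = Nat.card (P ⊓ H' : Subgroup G) :=
    fun H' => Nat.card_congr (Subgroup.subgroupOfEquivOfLe inf_le_right).toEquiv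
  constructor
  · intro h
    obtain ⟨D, hD, hDle⟩ := exists_local_defectGroup_ge hM hPe hle hHN hb heq
    obtain ⟨x, hx, hdef⟩ := local_defect hM hmax hle hf hHN hb heq
    have hE := hdef _ _ rfl (hb' x).1 (hb' x).2
    have h1 : Nat.card D ≤ Nat.card ((P ⊓ conjSub x H).subgroupOf (conjSub x H)) := by
      -- conjugate the other way
      have h0 := sub_br_defectGroup_ne_zero hM hD
      have hle' : conjSub x (D.map H.subtype) ≤ conjSub x H :=
        conjSub_mono x (Subgroup.map_subtype_le D)
      have h2 := sub_card_le_of_br_ne_zero hM (hb' x).1 hle'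
        (((isPGroup_defectGroup hM hD).map _).map _) (fun h => h0 ?_) hE
      · rwa [card_conjSub, Subgroup.card_map_of_injective (Subgroup.subtype_injective _)] at h2
      · rw [(hb' x).2, ← cj_cb hM, ← cj_br, ← heq] at h
        exact (cj x).injective (h.trans (map_zero _).symm)
    have h3 : Nat.card D ≤ Nat.card ((P ⊓ H).subgroupOf H) := by
      rw [hsub]
      exact h1.trans ((hsub _).le.trans (h x hx))
    rwa [Subgroup.eq_of_le_of_card_ge hDle h3]
  · intro hD g hg
    have hgN : conjSub g H ≤ Subgroup.normalizer (conjSub g Q : Set G) := by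
      intro u hu
      have := conjSub_eq_self_iff.2 (hHN (mem_conjSub.1 hu))
      rw [← conjSub_eq_self_iff]
      conv_rhs => rw [← this]
      rw [conjSub_mul, conjSub_mul]
      congr 1
      group
    obtain ⟨E, hE, hEle⟩ := exists_local_defectGroup_ge hM hPe hg hgN (hb' g).1 (hb' g).2
    rw [← hsub, ← hsub]
    exact (Subgroup.card_le_of_le hEle).trans (hcard g E hE _ hD)

/-- The defect group of a local block covers a Sylow subgroup modulo the centraliser. -/
theorem not_dvd_local_index {Q T : Subgroup G}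
    {f : Set (IrrCharacter (Subgroup.centralizer (Q : Set G)))} (hf : IsPBlock M f)
    (hTN : T ≤ Subgroup.normalizer (Q : Set G)) (hCT : Subgroup.centralizer (Q : Set G) ≤ T)
    {F : Set (IrrCharacter T)} (hF : IsPBlock M F) (heq : bIdem M T F = cb M Q f)
    {D : Subgroup T} (hD : IsDefectGroup p M F D) :
    ¬ p ∣ (D ⊔ (Subgroup.centralizer (Q : Set G)).subgroupOf T).index := by
  set K := (Subgroup.centralizer (Q : Set G)).subgroupOf T with hK
  have hn : K.Normal := ⟨fun u hu t => by
    rw [hK, Subgroup.mem_subgroupOf] at hu ⊢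
    exact (Subgroup.mem_normalizer_iff.1 (mem_normalizer_centralizer (hTN t.2)) _).1 hu⟩
  let φ : K ≃* Subgroup.centralizer (Q : Set G) := Subgroup.subgroupOfEquivOfLe hCT
  refine not_dvd_index_sup_defect hM (N := K) hF (isPBlock_image φ hf) ?_ hD
  apply emb_injective T
  show emb T (bIdem M K (pullIrr φ '' f)) = bIdem M T F
  rw [heq]
  ext x
  by_cases hx : x ∈ T
  · refine (coeff_emb_coe T (bIdem M K (pullIrr φ '' f)) ⟨x, hx⟩).trans ?_
    rw [coeff_bIdem hM, coeff_bIdem hM]
    congr 1
    simp only [subgroupBlockCoeff]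
    by_cases hxC : x ∈ Subgroup.centralizer (Q : Set G)
    · rw [dif_pos hxC, dif_pos (show (⟨x, hx⟩ : T) ∈ K from hxC)]
      exact blockCoeff_image φ f ⟨⟨x, hx⟩, hxC⟩
    · rw [dif_neg hxC, dif_neg (show (⟨x, hx⟩ : T) ∉ K from hxC)]
  · rw [suppIn_emb T _ x hx, (bIdem_central _ f).1 x fun h => hx (hCT h)]

/-- The intersection of a local defect group with the centraliser has the order of the defect group
of the block. -/
theorem card_inter_centralizer {Q T : Subgroup G}
    {f : Set (IrrCharacter (Subgroup.centralizer (Q : Set G)))} (hf : IsPBlock M f)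
    (hTN : T ≤ Subgroup.normalizer (Q : Set G)) (hCT : Subgroup.centralizer (Q : Set G) ≤ T)
    {F : Set (IrrCharacter T)} (hF : IsPBlock M F) (heq : bIdem M T F = cb M Q f)
    {D : Subgroup T} (hD : IsDefectGroup p M F D)
    {D₀ : Subgroup (Subgroup.centralizer (Q : Set G))} (hD₀ : IsDefectGroup p M f D₀) :
    Nat.card (D.map T.subtype ⊓ Subgroup.centralizer (Q : Set G) : Subgroup G) = Nat.card D₀ := by
  have hDp : IsPGroup p (D.map T.subtype) := (isPGroup_defectGroup hM hD).map _
  refine le_antisymm (sub_card_le_of_br_ne_zero hM hf inf_le_right (hDp.to_le inf_le_left)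
    (fun h => ?_) hD₀) ?_
  · refine sub_br_defectGroup_ne_zero hM hD ?_
    rw [heq, ← br_br (inf_le_left : D.map T.subtype ⊓ (Subgroup.centralizer (Q : Set G)) ≤ D.map T.subtype),
      show br (D.map T.subtype ⊓ (Subgroup.centralizer (Q : Set G))) (cb M Q f) = 0 from h, br_zero]
  · have hle : D₀.map (Subgroup.centralizer (Q : Set G)).subtype ≤ T := (Subgroup.map_subtype_le D₀).trans hCT
    have hp₀ : IsPGroup p (D₀.map (Subgroup.centralizer (Q : Set G)).subtype) := (isPGroup_defectGroup hM hD₀).map _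
    obtain ⟨E, hE, hle'⟩ := sub_exists_defectGroup_ge hM hF hle hp₀ (by
      rw [heq]
      exact sub_br_defectGroup_ne_zero hM hD₀)
    obtain ⟨t, rfl⟩ := isDefectGroup_conj_eq hM hF hD hE
    have h2 : D₀.map (Subgroup.centralizer (Q : Set G)).subtype ≤ conjSub (t : G) (D.map T.subtype ⊓ (Subgroup.centralizer (Q : Set G))) := by
      intro z hz
      have h3 := mem_conjSub.1 (hle' (show (⟨z, hle hz⟩ : T) ∈ _ from hz))
      rw [mem_conjSub, Subgroup.mem_inf]
      refine ⟨⟨_, h3, rfl⟩, ?_⟩
      have hzC := Subgroup.map_subtype_le D₀ hz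
      exact (Subgroup.mem_normalizer_iff''.1 (mem_normalizer_centralizer (hTN t.2)) z).1 hzC
    have h4 := Subgroup.card_le_of_le h2
    rwa [card_conjSub, Subgroup.card_map_of_injective (Subgroup.centralizer (Q : Set G)).subtype_injective] at h4

/-- A pair in a local subgroup above `(Q, f)` is conjugate there below the maximal pair. -/
theorem local_extend {Q P T R : Subgroup G}
    {f : Set (IrrCharacter (Subgroup.centralizer (Q : Set G)))}
    {e : Set (IrrCharacter (Subgroup.centralizer (P : Set G)))}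
    {h : Set (IrrCharacter (Subgroup.centralizer (R : Set G)))}
    (hPe : IsBrauerPair p M P e) (hle : SubpairLE p M Q f P e) (hQT : Q ≤ T)
    (hTN : T ≤ Subgroup.normalizer (Q : Set G)) (hCT : Subgroup.centralizer (Q : Set G) ≤ T)
    {F : Set (IrrCharacter T)} (hF : IsPBlock M F) (heq : bIdem M T F = cb M Q f)
    (hD : IsDefectGroup p M F ((P ⊓ T).subgroupOf T))
    (hn : IsNormalSubpair p M Q f R h) (hRT : R ≤ T) :
    ∃ c ∈ T, SubpairLE p M (conjSub c R) (conjBlock R c h) P e := by
  have hQP : Q ≤ P :=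
    subgroup_le_of_subpairLE (a := (⟨Q, f⟩ : BrauerPairIdx G)) (b := ⟨P, e⟩) hle
  obtain ⟨g, hg, hQg, hgP⟩ := subpair_between hM hPe hle (le_inf hQP hQT) inf_le_left
  have hng := normalSubpair_of_le hM ⟨hPe.1.to_le inf_le_left, hg⟩ hQg
    (inf_le_right.trans hTN)
  -- a pair of `G` above `(Q, f)` inside `T` comes from one of `T`
  have down : ∀ (S : Subgroup G) (k : Set (IrrCharacter (Subgroup.centralizer (S : Set G)))),
      IsNormalSubpair p M Q f S k → S ≤ T →
      ∃ k' : Set (IrrCharacter (Subgroup.centralizer (S.subgroupOf T : Set T))),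
        IsBrauerPairOf p M F (S.subgroupOf T) k' ∧
          (⟨(S.subgroupOf T).map T.subtype, upBlock _ k'⟩ : BrauerPairIdx G) = ⟨S, k⟩ := by
    intro S k hk hST
    have hmap : (S.subgroupOf T).map T.subtype = S := Subgroup.map_subgroupOf_eq_of_le hST
    obtain ⟨-, hSk, hQS, -, -, hkle⟩ := (isNormalSubpair_iff hM).1 hk
    generalize hS' : S.subgroupOf T = S' at *
    subst hmap
    have hC : Subgroup.centralizer ((S'.map T.subtype : Subgroup G) : Set G) ≤ T :=
      (Subgroup.centralizer_le hQS).trans hCT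
    obtain ⟨k', hk', rfl⟩ := exists_upBlock hM S' hC hSk.2
    exact ⟨k', (isBrauerPairOf_sub_iff hM S' hC hF hk').2 ⟨hSk.1, by rw [heq, hkle]⟩, rfl⟩
  obtain ⟨g', hg', hgid⟩ := down _ g hng inf_le_right
  obtain ⟨h', hh', hhid⟩ := down R h hn hRT
  obtain ⟨c, hc⟩ := exists_conj_le_maximal hM (isMaximal_of_isDefectGroup hM hg' hD) hh'
  refine ⟨c, c.2, ?_⟩
  have hCR : Subgroup.centralizer (((R.subgroupOf T).map T.subtype : Subgroup G) : Set G) ≤ T := by
    rw [Subgroup.map_subgroupOf_eq_of_le hRT]
    exact (Subgroup.centralizer_le hn.2.2.1).trans hCT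
  have hmapc : (conjSub c (R.subgroupOf T)).map T.subtype = conjSub (c : G) R := by
    conv_rhs => rw [← Subgroup.map_subgroupOf_eq_of_le hRT]
    rw [conjSub, conjSub, Subgroup.map_map, Subgroup.map_map]
    rfl
  have hCc : Subgroup.centralizer
      (((conjSub c (R.subgroupOf T)).map T.subtype : Subgroup G) : Set G) ≤ T := by
    rw [hmapc]
    refine (Subgroup.centralizer_le (fun u hu => ?_)).trans hCT
    rw [SetLike.mem_coe, mem_conjSub]
    exact hn.2.2.1 ((Subgroup.mem_normalizer_iff''.1 (hTN c.2) u).1 hu)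
  have hup := subpairLE_up hM hCc hc
  have hidx : (⟨(conjSub c (R.subgroupOf T)).map T.subtype,
      upBlock _ (conjBlock (R.subgroupOf T) c h')⟩ : BrauerPairIdx G) =
        ⟨conjSub (c : G) R, conjBlock R (c : G) h⟩ := by
    refine idx_ext hM hmapc (isPBlock_upBlock _ hCc (isPBlock_conjBlock _ _ hh'.1.2))
      (isPBlock_conjBlock _ _ hn.2.1.2) ?_
    show cb M _ (upBlock _ (conjBlock (R.subgroupOf T) c h')) = cb M (conjSub (c : G) R) _
    have e1 : cb M _ (upBlock (R.subgroupOf T) h') = cb M R h := cb_congr hhid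
    rw [← emb_cb hM _ hCc, ← cj_cb hM, emb_cj, emb_cb hM _ hCR, e1, cj_cb hM]
  unfold SubpairLE at hup hgP ⊢
  rw [hidx, hgid] at hup
  exact hup.trans hgP

end Cfsg.Agent.BrauerPairs
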