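import Cfsg.Prelude.Def_BlockFusion
import Cfsg.Agent.Lib.BrauerPairs.LocalFusion

/-!
# The fusion system of a block

* `isConj_iff`: conjugacy in the fusion system in terms of the pair below the maximal pair;
* `conjSub_centralizer_map`: `g C(Q) g⁻¹ = C(g Q g⁻¹)`;
* `isFullyCentralized_iff`, `isFullyNormalized_iff`: conjugation by group elements.
-/

set_option autoImplicit false

namespace Cfsg.Agent.BrauerPairs

open Cfsg Cfsg.Agent.Blocks

variable {G : Type*} [Group G] {p : ℕ} {M : Ideal AlgInt}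

theorem conjSub_centralizer_map (Q : Subgroup G) (g : G) :
    conjSub g (Subgroup.centralizer (Q : Set G)) =
      Subgroup.centralizer ((conjSub g Q : Subgroup G) : Set G) := by
  ext y
  have h := mem_centralizer_map_conj Q g (g⁻¹ * y * g)
  rw [show g * (g⁻¹ * y * g) * g⁻¹ = y by group] at h
  rw [mem_conjSub]
  exact h

theorem range_eq_conjSub {Q : Subgroup G} (φ : Q →* G) {g : G}
    (h : ∀ u : Q, φ u = g * (u : G) * g⁻¹) : φ.range = conjSub g Q := by
  ext y
  rw [mem_conjSub]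
  constructor
  · rintro ⟨u, rfl⟩
    rw [h, show g⁻¹ * (g * (u : G) * g⁻¹) * g = u by group]
    exact u.2
  · intro hy
    exact ⟨⟨_, hy⟩, by rw [h]; group⟩

variable [Finite G] (hM : IsPModular p M) [Fact p.Prime]
include hM

theorem isConj_iff {B : Set (IrrCharacter G)} {P Q R : Subgroup G}
    {e : Set (IrrCharacter (Subgroup.centralizer (P : Set G)))}
    {f : Set (IrrCharacter (Subgroup.centralizer (Q : Set G)))} {F : FusionSystem P}
    (hF : IsBlockFusionSystemOn p M B P e F) (hle : SubpairLE p M Q f P e) :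
    F.IsConj Q R ↔ ∃ g : G, conjSub g Q = R ∧
      SubpairLE p M (conjSub g Q) (conjBlock Q g f) P e := by
  have hQP : Q ≤ P :=
    subgroup_le_of_subpairLE (a := (⟨Q, f⟩ : BrauerPairIdx G)) (b := ⟨P, e⟩) hle
  constructor
  · rintro ⟨φ, hφ, hR⟩
    obtain ⟨-, g, hg, -, f', hf', hgf'⟩ := (hF.2 Q φ).1 hφ
    obtain rfl : f = f' := subpair_unique hM hF.1.1.1 hle hf'
    exact ⟨g, (range_eq_conjSub φ hg).symm.trans hR, hgf'⟩
  · rintro ⟨g, rfl, hg⟩
    refine ⟨(MulAut.conj g).toMonoidHom.comp Q.subtype,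
      (hF.2 Q _).2 ⟨hQP, g, fun _ => rfl, ?_, f, hle, hg⟩, range_eq_conjSub _ fun _ => rfl⟩
    exact subgroup_le_of_subpairLE
      (a := (⟨conjSub g Q, conjBlock Q g f⟩ : BrauerPairIdx G)) (b := ⟨P, e⟩) hg

theorem isFullyCentralized_iff {B : Set (IrrCharacter G)} {P Q : Subgroup G}
    {e : Set (IrrCharacter (Subgroup.centralizer (P : Set G)))}
    {f : Set (IrrCharacter (Subgroup.centralizer (Q : Set G)))} {F : FusionSystem P}
    (hF : IsBlockFusionSystemOn p M B P e F) (hle : SubpairLE p M Q f P e) :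
    F.IsFullyCentralized Q ↔ ∀ g : G, SubpairLE p M (conjSub g Q) (conjBlock Q g f) P e →
      Nat.card (P ⊓ conjSub g (Subgroup.centralizer (Q : Set G)) : Subgroup G) ≤
        Nat.card (P ⊓ Subgroup.centralizer (Q : Set G) : Subgroup G) := by
  have hQP : Q ≤ P :=
    subgroup_le_of_subpairLE (a := (⟨Q, f⟩ : BrauerPairIdx G)) (b := ⟨P, e⟩) hle
  constructor
  · intro h g hg
    have := h.2 _ ((isConj_iff hM hF hle).2 ⟨g, rfl, hg⟩)
    rwa [conjSub_centralizer_map]
  · refine fun h => ⟨hQP, fun R hR => ?_⟩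
    obtain ⟨g, rfl, hg⟩ := (isConj_iff hM hF hle).1 hR
    have := h g hg
    rwa [conjSub_centralizer_map] at this

theorem isFullyNormalized_iff {B : Set (IrrCharacter G)} {P Q : Subgroup G}
    {e : Set (IrrCharacter (Subgroup.centralizer (P : Set G)))}
    {f : Set (IrrCharacter (Subgroup.centralizer (Q : Set G)))} {F : FusionSystem P}
    (hF : IsBlockFusionSystemOn p M B P e F) (hle : SubpairLE p M Q f P e) :
    F.IsFullyNormalized Q ↔ ∀ g : G, SubpairLE p M (conjSub g Q) (conjBlock Q g f) P e →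
      Nat.card (P ⊓ conjSub g (pairStab M Q f) : Subgroup G) ≤
        Nat.card (P ⊓ pairStab M Q f : Subgroup G) := by
  have hQP : Q ≤ P :=
    subgroup_le_of_subpairLE (a := (⟨Q, f⟩ : BrauerPairIdx G)) (b := ⟨P, e⟩) hle
  have hPe : IsBrauerPair p M P e := hF.1.1.1
  have key : ∀ g : G, SubpairLE p M (conjSub g Q) (conjBlock Q g f) P e →
      P ⊓ conjSub g (pairStab M Q f) = P ⊓ Subgroup.normalizer (conjSub g Q : Set G) := fun g hg => by
    rw [← pairStab_conj hM]
    exact inf_pairStab_eq hM hPe hg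
  constructor
  · intro h g hg
    have := h.2 _ ((isConj_iff hM hF hle).2 ⟨g, rfl, hg⟩)
    rw [key g hg, inf_pairStab_eq hM hPe hle]
    exact this
  · refine fun h => ⟨hQP, fun R hR => ?_⟩
    obtain ⟨g, rfl, hg⟩ := (isConj_iff hM hF hle).1 hR
    have := h g hg
    rwa [key g hg, inf_pairStab_eq hM hPe hle] at this

end Cfsg.Agent.BrauerPairs
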