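import Cfsg.Agent.Lib.BrauerPairs.LocalDefect
import Cfsg.Agent.Lib.Blocks.KernelPairs

/-!
# Induction of a block along its Brauer pairs

For a block `b` of `H` and a pair `(P, e)` below it (`P ≤ H`, `C(P) ≤ H`):
* `lam_br`: the central character of `e` at `br P t` is that of `b` at `t`;
* `exists_induced_of_pair`: `b` induces the block of the pair `(P, e)`.
-/

set_option autoImplicit false

namespace Cfsg.Agent.BrauerPairs

open Cfsg Cfsg.Agent.Blocks Cfsg.Agent.KernelPairs
open scoped Classical

variable {G : Type*} [Group G] [Finite G] {p : ℕ} {M : Ideal AlgInt} (hM : IsPModular p M)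
include hM

theorem lam_pow_eq {H : Subgroup G} {a : MonoidAlgebra (Res M) G} (ha : IsCentralIn H a)
    (η : IrrCharacter H) (n : ℕ) :
    IsCentralIn H (a ^ n) ∧ lam M H η (a ^ n) = lam M H η a ^ n := by
  have := Fintype.ofFinite G
  induction n with
  | zero =>
    rw [pow_zero, pow_zero]
    refine ⟨⟨fun x hx => ?_, Fixed.one⟩, lam_one hM H η⟩
    classical
    rw [MonoidAlgebra.one_def, MonoidAlgebra.coeff_single, Finsupp.single_apply, if_neg]
    rintro rfl
    exact hx (one_mem H)
  | succ n ih => rw [pow_succ, pow_succ, lam_mul hM ih.1 ha, ih.2]; exact ⟨ih.1.mul ha, rfl⟩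

theorem lam_eq_zero_of_isNilpotent {H : Subgroup G} {a : MonoidAlgebra (Res M) G}
    (ha : IsCentralIn H a) (η : IrrCharacter H) (h : IsNilpotent a) : lam M H η a = 0 := by
  obtain ⟨n, hn⟩ := h
  have h1 := (lam_pow_eq hM ha η n).2
  rw [hn, lam_zero hM] at h1
  have := res_isDomain hM
  exact eq_zero_of_pow_eq_zero h1.symm

theorem br_pow [Fact p.Prime] {P : Subgroup G} (hP : IsPGroup p P)
    {a : MonoidAlgebra (Res M) G} (ha : Fixed P a) (n : ℕ) :
    Fixed P (a ^ n) ∧ br P (a ^ n) = br P a ^ n := by
  have := res_charP hM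
  have := Fintype.ofFinite G
  induction n with
  | zero => rw [pow_zero, pow_zero]; exact ⟨Fixed.one, br_one P⟩
  | succ n ih => rw [pow_succ, pow_succ, br_mul (p := p) hP ih.1 ha, ih.2]; exact ⟨ih.1.mul ha, rfl⟩

/-- An element killed by the central character above is killed below. -/
theorem lam_br_eq_zero [Fact p.Prime] {P : Subgroup G} (hP : IsPGroup p P)
    {e : Set (IrrCharacter (Subgroup.centralizer (P : Set G)))} (he : IsPBlock M e)
    {η : IrrCharacter (Subgroup.centralizer (P : Set G))} (hη : η ∈ e)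
    {u z : MonoidAlgebra (Res M) G} (hu : Fixed P u) (hz : Fixed P z)
    (huc : IsCentralIn (Subgroup.centralizer (P : Set G)) (br P u))
    (hzc : IsCentralIn (Subgroup.centralizer (P : Set G)) (br P z))
    (hze : br P z * cb M P e = cb M P e) (hnil : IsNilpotent (u * z)) :
    lam M (Subgroup.centralizer (P : Set G)) η (br P u) = 0 := by
  have := res_charP hM
  have := Fintype.ofFinite G
  obtain ⟨n, hn⟩ := hnil
  have hn' : IsNilpotent (br P (u * z)) := ⟨n, by rw [← (br_pow hM hP (hu.mul hz) n).2, hn, br_zero]⟩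
  have huz : IsCentralIn (Subgroup.centralizer (P : Set G)) (br P (u * z)) := by
    rw [br_mul (p := p) hP hu hz]; exact huc.mul hzc
  have h1 := lam_eq_zero_of_isNilpotent hM huz η hn'
  have hcb : IsCentralIn (Subgroup.centralizer (P : Set G)) (cb M P e) := bIdem_central (Subgroup.centralizer (P : Set G)) e
  have h2 : lam M (Subgroup.centralizer (P : Set G)) η (br P z) = 1 := by
    have h := congrArg (lam M (Subgroup.centralizer (P : Set G)) η) hze
    rw [lam_mul hM hzc hcb] at h
    have h3 : lam M (Subgroup.centralizer (P : Set G)) η (cb M P e) = 1 := by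
      show lam M (Subgroup.centralizer (P : Set G)) η (bIdem M (Subgroup.centralizer (P : Set G)) e) = 1
      rw [lam_bIdem hM he, if_pos hη]
    rwa [h3, mul_one] at h
  rwa [br_mul (p := p) hP hu hz, lam_mul hM huc hzc, h2, mul_one] at h1

theorem lamG_scalar {X : Type*} [Group X] [Finite X] (ξ : IrrCharacter X) (c : Res M) :
    lamG M ξ (red M (fun x : X => if x = 1 then unres c else 0)) = c := by
  classical
  have := Fintype.ofFinite X
  have hrR : ∀ x : X, MemLocalRing M (if x = 1 then unres c else 0) := fun x => by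
    split_ifs
    · exact memR_unres hM c
    · exact memR_zero hM
  have hrc : IsClassFunction X (fun x : X => if x = 1 then unres c else 0) := fun x u => by
    simp only [conj_eq_one_iff]
  rw [lamG_red hM hrc hrR, omega_eq_sum, Finset.sum_eq_single (1 : X)]
  · rw [if_pos rfl, mul_div_assoc, div_self (irr_one_ne_zero ξ), mul_one, res_unres hM]
  · intro x _ hx
    rw [if_neg hx, zero_mul]
  · exact fun h' => absurd (Finset.mem_univ _) h'

theorem exists_scalar (c : Res M) : ∃ r : MonoidAlgebra (Res M) G, Fixed ⊤ r ∧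
    (∀ K : Subgroup G, IsCentralIn K r) ∧ (∀ P : Subgroup G, br P r = r) ∧
    (∀ (K : Subgroup G) (η : IrrCharacter K), lam M K η r = c) ∧
    ∀ χ : IrrCharacter G, lamG M χ r = c := by
  classical
  let f : G → ℂ := fun x => if x = 1 then unres c else 0
  have hsupp : ∀ K : Subgroup G, SuppIn K (red M f) := fun K x hx => by
    rw [coeff_red]
    simp only [f, if_neg (fun h : x = 1 => hx (h ▸ one_mem K)), res_zero hM]
  have hfix : Fixed ⊤ (red M f) := fixed_red fun x u => by simp only [f, conj_eq_one_iff]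
  refine ⟨red M f, hfix, fun K => ⟨hsupp K, hfix.mono le_top⟩, fun P => ?_, fun K η => ?_,
    fun χ => lamG_scalar hM χ c⟩
  · ext x
    rw [coeff_br]
    by_cases hx : x ∈ Subgroup.centralizer (P : Set G)
    · rw [if_pos hx]
    · rw [if_neg hx, hsupp _ x hx]
  · rw [lam, pull_red]
    simp only [f, OneMemClass.coe_eq_one]
    convert lamG_scalar hM η c

/-- The central characters along a pair below a block of `H`. -/
theorem lam_br [Fact p.Prime] {P H : Subgroup G} (hP : IsPGroup p P) (hPH : P ≤ H)
    (hCH : Subgroup.centralizer (P : Set G) ≤ H) {b : Set (IrrCharacter H)} (hb : IsPBlock M b)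
    {e : Set (IrrCharacter (Subgroup.centralizer (P : Set G)))} (he : IsPBlock M e)
    (hle : br P (bIdem M H b) * cb M P e = cb M P e) {t : MonoidAlgebra (Res M) G}
    (ht : IsCentralIn H t) {ξ : IrrCharacter H} (hξ : ξ ∈ b)
    {η : IrrCharacter (Subgroup.centralizer (P : Set G))} (hη : η ∈ e) :
    lam M (Subgroup.centralizer (P : Set G)) η (br P t) = lam M H ξ t := by
  classical
  have := Fintype.ofFinite G
  have := Fintype.ofFinite (IrrCharacter H)
  obtain ⟨r, hrf, hrc, hrb, hrl, -⟩ := exists_scalar (G := G) hM (- lam M H ξ t)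
  have hu : IsCentralIn H (t + r) := ⟨fun x hx => by
    rw [MonoidAlgebra.coeff_add, Finsupp.add_apply, ht.1 x hx, (hrc H).1 x hx, add_zero],
    ht.2.add (hrc H).2⟩
  have hbr : IsCentralIn (Subgroup.centralizer (P : Set G)) (br P t) :=
    ⟨suppIn_br P _, Fixed.br (ht.2.mono hCH) (centralizer_le_normalizer hM P)⟩
  have hu' : IsCentralIn (Subgroup.centralizer (P : Set G)) (br P (t + r)) :=
    ⟨suppIn_br P _, Fixed.br (hu.2.mono hCH) (centralizer_le_normalizer hM P)⟩
  have hnil : IsNilpotent ((t + r) * bIdem M H b) := by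
    refine isNilpotent_of_lam hM (hu.mul (bIdem_central H b)) fun ζ => ?_
    rw [lam_mul hM hu (bIdem_central H b), lam_bIdem hM hb]
    split_ifs with hζ
    · rw [lam_add hM ht (hrc H), hrl, lam_congr hM hb hζ hξ ht, add_neg_cancel, zero_mul]
    · rw [mul_zero]
  have h := lam_br_eq_zero hM hP he hη (hu.2.mono hPH) ((bIdem_central H b).2.mono hPH) hu'
    (br_bIdem_central hM hCH b) hle hnil
  rw [br_add, hrb, lam_add hM hbr (hrc (Subgroup.centralizer (P : Set G))), hrl, add_neg_eq_zero] at h
  exact h

theorem lamG_br [Fact p.Prime] {P : Subgroup G} {B : Set (IrrCharacter G)}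
    {e : Set (IrrCharacter (Subgroup.centralizer (P : Set G)))}
    (hBe : IsBrauerPairOf p M B P e) {t : MonoidAlgebra (Res M) G}
    (ht : Fixed ⊤ t) {χ : IrrCharacter G} (hχ : χ ∈ B)
    {η : IrrCharacter (Subgroup.centralizer (P : Set G))} (hη : η ∈ e) :
    lam M (Subgroup.centralizer (P : Set G)) η (br P t) = lamG M χ t := by
  classical
  have := Fintype.ofFinite G
  obtain ⟨⟨hP, he⟩, hB, hle⟩ := (isBrauerPairOf_iff hM).1 hBe
  obtain ⟨r, hrf, hrc, hrb, hrl, hrG⟩ := exists_scalar (G := G) hM (- lamG M χ t)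
  have hu : Fixed ⊤ (t + r) := ht.add hrf
  have hbr : IsCentralIn (Subgroup.centralizer (P : Set G)) (br P t) :=
    ⟨suppIn_br P _, Fixed.br (ht.mono le_top) (centralizer_le_normalizer hM P)⟩
  have hu' : IsCentralIn (Subgroup.centralizer (P : Set G)) (br P (t + r)) :=
    ⟨suppIn_br P _, Fixed.br (hu.mono le_top) (centralizer_le_normalizer hM P)⟩
  have hnil : IsNilpotent ((t + r) * blk M B) := by
    refine isNilpotent_of_lamG hM (hu.mul (fixed_blk B)) fun ζ => ?_
    rw [lamG_mul hM hu (fixed_blk B), lamG_blk hM hB]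
    split_ifs with hζ
    · rw [lamG_add hM ht hrf, hrG, lamG_congr_of_sameBlock hM ht (sameBlock_of_mem hM hB hζ hχ),
        add_neg_cancel, zero_mul]
    · rw [mul_zero]
  have h := lam_br_eq_zero hM hP he hη (hu.mono le_top) ((fixed_blk B).mono le_top) hu'
    (br_blk_central hM P B) hle hnil
  rw [br_add, hrb, lam_add hM hbr (hrc (Subgroup.centralizer (P : Set G))), hrl, add_neg_eq_zero] at h
  exact h

/-- A block with a pair below it induces the block of that pair. -/
theorem exists_induced_of_pair [Fact p.Prime] {P H : Subgroup G} (hP : IsPGroup p P) (hPH : P ≤ H)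
    (hCH : Subgroup.centralizer (P : Set G) ≤ H) {b : Set (IrrCharacter H)} (hb : IsPBlock M b)
    {e : Set (IrrCharacter (Subgroup.centralizer (P : Set G)))} (he : IsPBlock M e)
    (hle : br P (bIdem M H b) * cb M P e = cb M P e) :
    ∃ B, IsInducedBlock M H b B ∧ IsBrauerPairOf p M B P e := by
  classical
  have := Fintype.ofFinite G
  obtain ⟨B, hBe, -⟩ := existsUnique_block_of_pair hM (⟨hP, he⟩ : IsBrauerPair p M P e)
  obtain ⟨η, hη⟩ := isPBlock_nonempty hM he
  refine ⟨B, ⟨hb, hBe.2.1, fun ξ hξ χ hχ g => ?_⟩, hBe⟩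
  have hR : ∀ x : G, MemLocalRing M (classInd g x) := fun x => by
    unfold classInd
    split_ifs
    · exact memR_one hM
    · exact memR_zero hM
  let f : G → ℂ := fun x => if x ∈ H then classInd g x else 0
  have hcl : IsClassFunction G (classInd g) := isClassFunction_classInd g
  have ht : IsCentralIn H (red M f) := by
    refine ⟨fun x hx => by simp only [coeff_red, f, if_neg hx, res_zero hM], fun u hu => ?_⟩
    ext x
    simp only [coeff_cj, coeff_red, f]
    congr 1
    have h2 : u⁻¹ * x * u ∈ H ↔ x ∈ H := by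
      rw [H.mul_mem_cancel_right hu, H.mul_mem_cancel_left (H.inv_mem hu)]
    have h3 : classInd g (u⁻¹ * x * u) = classInd g x := by
      simpa using hcl x u⁻¹
    simp only [h2, h3]
  have hbrt : br P (red M f) = br P (red M (classInd g)) := by
    ext x
    simp only [coeff_br, coeff_red, f]
    split_ifs with h1 h2
    · rfl
    · exact absurd (hCH h1) h2
    · rfl
  have h1 := lam_br hM hP hPH hCH hb he hle ht hξ hη
  rw [hbrt, lamG_br hM hBe (fixed_red hcl) hχ hη, lamG_red hM hcl hR, omega_classInd] at h1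
  rw [lam, pull_red] at h1
  simp only [f, SetLike.coe_mem, if_true] at h1
  have hc : IsClassFunction H (fun k : H => classInd g (k : G)) :=
    fun x u => hcl (x : G) (u : G)
  rw [lamG_red hM hc (fun k => hR _), ← inducedCentralChar_eq_omega hM] at h1
  refine (res_eq_iff hM ?_ ?_).1 h1.symm
  · rw [inducedCentralChar_eq_omega hM]
    exact memR_omega hM hc (fun k => hR _) ξ
  · exact memR_centralChar hM χ g

end Cfsg.Agent.BrauerPairs
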