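import Cfsg.Agent.Lib.BrauerPairs.Fusion
import Cfsg.Agent.Lib.BrauerPairs.PNilpotent

/-!
# Extension to fully normalised pairs; fusion of nilpotent blocks

* `exists_fully_normalized`, `extend_to_fully_normalized`;
* `stab_eq_of_subgroup_eq`, `defect_pairStab_top`, `isPGroup_stab`;
* `mem_coset_centralizer_of_nilpotent`: for a nilpotent block every element carrying a pair below
  `(P, e)` below `(P, e)` acts on it like an element of `P`.
-/

set_option autoImplicit false

namespace Cfsg.Agent.BrauerPairs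

open Cfsg Cfsg.Agent.Blocks

variable {G : Type*} [Group G] {p : ℕ} {M : Ideal AlgInt}

theorem emb_bIdem [Finite G] (hM : IsPModular p M) {H K : Subgroup G} {K' : Subgroup H}
    (φ : K ≃* K') (hφ : ∀ k : K, (((φ k : K') : H) : G) = k) (e : Set (IrrCharacter K')) :
    emb H (bIdem M K' e) = bIdem M K (pullIrr φ '' e) := by
  have hKH : K ≤ H := fun x hx => by
    rw [← show (((φ ⟨x, hx⟩ : K') : H) : G) = x from hφ ⟨x, hx⟩]
    exact ((φ ⟨x, hx⟩ : K') : H).2
  ext x
  by_cases hx : x ∈ H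
  · refine (coeff_emb_coe H (bIdem M K' e) ⟨x, hx⟩).trans ?_
    rw [coeff_bIdem hM, coeff_bIdem hM]
    congr 1
    simp only [subgroupBlockCoeff]
    by_cases hxK : x ∈ K
    · have he : ((φ ⟨x, hxK⟩ : K') : H) = ⟨x, hx⟩ := Subtype.ext (hφ ⟨x, hxK⟩)
      rw [dif_pos hxK, dif_pos (he ▸ (φ ⟨x, hxK⟩).2), blockCoeff_image]
      exact congrArg (blockCoeff e) (Subtype.ext he.symm)
    · rw [dif_neg hxK, dif_neg fun h => hxK ?_]
      have e1 := hφ (φ.symm ⟨⟨x, hx⟩, h⟩)
      rw [φ.apply_symm_apply] at e1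
      exact (show x = _ from e1) ▸ (φ.symm ⟨⟨x, hx⟩, h⟩).2
  · rw [suppIn_emb H _ x hx, (bIdem_central _ _).1 x fun h => hx (hKH h)]

theorem centralizer_inf_le (Q : Subgroup G) {u : G} (hu : u ∈ Subgroup.normalizer (Q : Set G))
    {k : G} (hk : k ∈ Subgroup.centralizer (Q : Set G)) :
    u⁻¹ * k * u ∈ Subgroup.centralizer (Q : Set G) :=
  (Subgroup.mem_normalizer_iff''.1 (mem_normalizer_centralizer hu) k).1 hk

/-- Moving a factor centralising the image to the right. -/
theorem coset_of_left_mul {Q : Subgroup G} {y u k : G} (hu : u⁻¹ * y ∈ Subgroup.centralizer (Q : Set G))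
    (hk : k ∈ Subgroup.centralizer ((conjSub y Q : Subgroup G) : Set G)) :
    u⁻¹ * (k * y) ∈ Subgroup.centralizer (Q : Set G) := by
  rw [← conjSub_centralizer_map, mem_conjSub] at hk
  have := mul_mem hu hk
  simpa [mul_assoc] using this

variable [Finite G] (hM : IsPModular p M) [Fact p.Prime]
include hM

theorem stab_eq_of_subgroup_eq {P : Subgroup G}
    {e : Set (IrrCharacter (Subgroup.centralizer (P : Set G)))} (hPe : IsBrauerPair p M P e) {g : G}
    (hg : SubpairLE p M (conjSub g P) (conjBlock P g e) P e) : g ∈ pairStab M P e := by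
  have hsub : conjSub g P ≤ P :=
    subgroup_le_of_subpairLE (a := (⟨conjSub g P, conjBlock P g e⟩ : BrauerPairIdx G))
      (b := ⟨P, e⟩) hg
  have heq : conjSub g P = P := Subgroup.eq_of_le_of_card_ge hsub (card_conjSub g P).ge
  have hn : g ∈ Subgroup.normalizer (P : Set G) := conjSub_eq_self_iff.1 heq
  set e' := conjImg _ _ g (mem_normalizer_iff_conj (mem_normalizer_centralizer hn)) e with he'
  have hb : IsPBlock M e' := isPBlock_conjImg _ hPe.2
  have hcj : cj g (cb M P e) = cb M P e' := cj_bIdem hM _ e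
  have hidx : conjIdx g (⟨P, e⟩ : BrauerPairIdx G) = ⟨P, e'⟩ := by
    refine idx_ext hM heq (isPBlock_conjBlock _ _ hPe.2) hb ?_
    show cb M (conjSub g P) (conjBlock P g e) = cb M P e'
    rw [← cj_cb hM, hcj]
  have hle : SubpairLE p M P e' P e := by
    unfold SubpairLE at hg ⊢
    rw [← hidx]
    exact hg
  refine ⟨hn, ?_⟩
  rw [hcj, subpair_unique hM hPe hle Relation.ReflTransGen.refl]

/-- The block of the stabiliser of a maximal pair has the defect group `P`. -/
theorem defect_pairStab_top {B : Set (IrrCharacter G)} {P : Subgroup G}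
    {e : Set (IrrCharacter (Subgroup.centralizer (P : Set G)))}
    (hmax : IsMaximalBrauerPair p M B P e) {F : Set (IrrCharacter (pairStab M P e))}
    (hF : IsPBlock M F) (heq : bIdem M (pairStab M P e) F = cb M P e) :
    IsDefectGroup p M F ((P ⊓ pairStab M P e).subgroupOf (pairStab M P e)) :=
  (local_fully_iff hM hmax Relation.ReflTransGen.refl hmax.1.1.2 (pairStab_le_normalizer P e) hF
    heq).1 fun g _ => by
      rw [inf_eq_left.2 (le_pairStab P e)]
      exact Subgroup.card_le_of_le inf_le_left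

/-- Every pair is conjugate below `(P, e)` to one whose local defect group lies in `P`. -/
theorem exists_fully_normalized {B : Set (IrrCharacter G)} {P Q : Subgroup G}
    {e : Set (IrrCharacter (Subgroup.centralizer (P : Set G)))}
    {f : Set (IrrCharacter (Subgroup.centralizer (Q : Set G)))}
    (hmax : IsMaximalBrauerPair p M B P e) (hle : SubpairLE p M Q f P e) (hf : IsPBlock M f) :
    ∃ x : G, SubpairLE p M (conjSub x Q) (conjBlock Q x f) P e ∧
      ∃ F : Set (IrrCharacter (pairStab M (conjSub x Q) (conjBlock Q x f))), IsPBlock M F ∧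
        bIdem M (pairStab M (conjSub x Q) (conjBlock Q x f)) F =
          cb M (conjSub x Q) (conjBlock Q x f) ∧
        IsDefectGroup p M F ((P ⊓ pairStab M (conjSub x Q) (conjBlock Q x f)).subgroupOf
          (pairStab M (conjSub x Q) (conjBlock Q x f))) := by
  have hQP : Q ≤ P :=
    subgroup_le_of_subpairLE (a := (⟨Q, f⟩ : BrauerPairIdx G)) (b := ⟨P, e⟩) hle
  obtain ⟨F₀, hF₀, hF₀eq, -⟩ := exists_block_pairStab hM (Q := Q) (f := f)
    ⟨hmax.1.1.1.to_le hQP, hf⟩
  obtain ⟨x, hx, hdef⟩ := local_defect hM hmax hle hf (pairStab_le_normalizer Q f) hF₀ hF₀eq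
  have hxP : conjSub x Q ≤ P := subgroup_le_of_subpairLE
    (a := (⟨conjSub x Q, conjBlock Q x f⟩ : BrauerPairIdx G)) (b := ⟨P, e⟩) hx
  obtain ⟨F, hF, hFeq, -⟩ := exists_block_pairStab hM (Q := conjSub x Q) (f := conjBlock Q x f)
    ⟨hmax.1.1.1.to_le hxP, isPBlock_conjBlock _ _ hf⟩
  exact ⟨x, hx, F, hF, hFeq, hdef _ _ (pairStab_conj hM Q f x) hF hFeq⟩

/-- Maps onto a pair with largest local defect group extend to `N_P`. -/
theorem extend_to_fully_normalized {P Q : Subgroup G}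
    {e : Set (IrrCharacter (Subgroup.centralizer (P : Set G)))}
    {f : Set (IrrCharacter (Subgroup.centralizer (Q : Set G)))}
    (hPe : IsBrauerPair p M P e) (hle : SubpairLE p M Q f P e) {y : G}
    (hy : SubpairLE p M (conjSub y Q) (conjBlock Q y f) P e)
    {F : Set (IrrCharacter (pairStab M (conjSub y Q) (conjBlock Q y f)))} (hF : IsPBlock M F)
    (heq : bIdem M (pairStab M (conjSub y Q) (conjBlock Q y f)) F =
      cb M (conjSub y Q) (conjBlock Q y f))
    (hD : IsDefectGroup p M F ((P ⊓ pairStab M (conjSub y Q) (conjBlock Q y f)).subgroupOf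
      (pairStab M (conjSub y Q) (conjBlock Q y f))))
    {R : Subgroup G} {h : Set (IrrCharacter (Subgroup.centralizer (R : Set G)))}
    (hRh : IsPBlock M h) (hRP : R ≤ P) (hQR : Q ≤ R)
    (hRN : R ≤ Subgroup.normalizer (Q : Set G)) (hh : SubpairLE p M R h P e) :
    ∃ c ∈ pairStab M (conjSub y Q) (conjBlock Q y f),
      SubpairLE p M (conjSub (c * y) R) (conjBlock R (c * y) h) P e := by
  obtain ⟨h', -, hQh, hh'⟩ := subpair_between hM hPe hle hQR hRP
  obtain rfl : h = h' := subpair_unique hM hPe hh hh'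
  have hn : NormalSubpairRel p M (⟨Q, f⟩ : BrauerPairIdx G) ⟨R, h⟩ :=
    normalSubpair_of_le hM ⟨hPe.1.to_le hRP, hRh⟩ hQh hRN
  have hn' := normalSubpairRel_conj hM hn y
  have hRT : conjSub y R ≤ pairStab M (conjSub y Q) (conjBlock Q y f) := by
    obtain ⟨-, -, -, h4, h5, -⟩ := (isNormalSubpair_iff hM).1 hn'
    exact fun u hu => ⟨h4 hu, h5 u hu⟩
  obtain ⟨c, hc, hle'⟩ := local_extend hM hPe hy (le_pairStab _ _) (pairStab_le_normalizer _ _)
    (centralizer_le_pairStab hM _ _) hF heq hD hn' hRT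
  refine ⟨c, hc, ?_⟩
  have hidx := conjIdx_conjIdx hM c y (a := (⟨R, h⟩ : BrauerPairIdx G)) hRh
  unfold SubpairLE at hle' ⊢
  rw [show (⟨conjSub (c * y) R, conjBlock R (c * y) h⟩ : BrauerPairIdx G) =
    conjIdx (c * y) ⟨R, h⟩ from rfl, ← hidx]
  exact hle'

/-- In a nilpotent block the stabiliser of a pair is a `p`-group modulo the centraliser. -/
theorem exists_pow_mem_centralizer {B : Set (IrrCharacter G)} (hnil : IsNilpotentBlock p M B)
    {Q : Subgroup G} {f : Set (IrrCharacter (Subgroup.centralizer (Q : Set G)))}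
    (hQf : IsBrauerPairOf p M B Q f) {x : G} (hx : x ∈ pairStab M Q f) :
    ∃ a : ℕ, x ^ (p ^ a) ∈ Subgroup.centralizer (Q : Set G) := by
  have := Fintype.ofFinite G
  refine ⟨(orderOf x).factorization p, hnil.2 Q f hQf _ ?_ ?_ ?_⟩
  · exact ((mem_pairStab_iff hM hQf.1.2).1 (pow_mem hx _)).1
  · exact ((mem_pairStab_iff hM hQf.1.2).1 (pow_mem hx _)).2
  · rw [← coprime_orderOf_iff, orderOf_pow, Nat.gcd_eq_right (Nat.ordProj_dvd _ _)]
    exact (Nat.coprime_ordCompl (Fact.out : p.Prime) (orderOf_pos x).ne').symm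

/-- In a nilpotent block the stabiliser of a pair with largest local defect group is
`(P ⊓ T) C(Q)`. -/
theorem pairStab_le_sup_of_nilpotent {B : Set (IrrCharacter G)} (hnil : IsNilpotentBlock p M B)
    {P Q : Subgroup G} {f : Set (IrrCharacter (Subgroup.centralizer (Q : Set G)))}
    (hQf : IsBrauerPairOf p M B Q f) {F : Set (IrrCharacter (pairStab M Q f))} (hF : IsPBlock M F)
    (heq : bIdem M (pairStab M Q f) F = cb M Q f)
    (hD : IsDefectGroup p M F ((P ⊓ pairStab M Q f).subgroupOf (pairStab M Q f))) :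
    ∀ x ∈ pairStab M Q f, ∃ d ∈ P ⊓ pairStab M Q f,
      d⁻¹ * x ∈ Subgroup.centralizer (Q : Set G) := by
  have hnd := not_dvd_local_index hM hQf.1.2 (pairStab_le_normalizer Q f)
    (centralizer_le_pairStab hM Q f) hF heq hD
  set D := (P ⊓ pairStab M Q f).subgroupOf (pairStab M Q f) with hDdef
  set K := (Subgroup.centralizer (Q : Set G)).subgroupOf (pairStab M Q f) with hK
  have hnorm : K.Normal := ⟨fun u hu t => by
    rw [hK, Subgroup.mem_subgroupOf] at hu ⊢
    exact (Subgroup.mem_normalizer_iff.1 (mem_normalizer_centralizer t.2.1) _).1 hu⟩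
  have hpg : IsPGroup p (pairStab M Q f ⧸ K) := by
    intro q
    induction q using QuotientGroup.induction_on with
    | H z =>
      obtain ⟨a, ha⟩ := exists_pow_mem_centralizer hM hnil hQf z.2
      exact ⟨a, by
        rw [← QuotientGroup.mk_pow, QuotientGroup.eq_one_iff, hK, Subgroup.mem_subgroupOf]
        exact ha⟩
  have hone : (D ⊔ K).index = 1 := by
    obtain ⟨n, hn⟩ := (IsPGroup.iff_card).1 hpg
    have hdvd : (D ⊔ K).index ∣ p ^ n := by
      rw [← hn, ← Subgroup.index_eq_card]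
      exact Subgroup.index_dvd_of_le le_sup_right
    obtain ⟨k, -, hk⟩ := (Nat.dvd_prime_pow Fact.out).1 hdvd
    rcases k with _ | k
    · rw [hk, pow_zero]
    · exact absurd (hk ▸ dvd_pow_self p (Nat.succ_ne_zero k)) hnd
  rw [Subgroup.index_eq_one] at hone
  intro x hx
  have hmem : (⟨x, hx⟩ : pairStab M Q f) ∈ D ⊔ K := hone ▸ Subgroup.mem_top _
  obtain ⟨d, hd, k, hk, hdk⟩ := Subgroup.mem_sup_of_normal_right.1 hmem
  refine ⟨d, hd, ?_⟩
  have h := congrArg (fun z : pairStab M Q f => (z : G)) hdk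
  simp only [Subgroup.coe_mul] at h
  rw [← h, inv_mul_cancel_left]
  exact hk

/-- Fusion in a nilpotent block is inner. -/
theorem mem_coset_centralizer_of_nilpotent {B : Set (IrrCharacter G)} {P Q : Subgroup G}
    {e : Set (IrrCharacter (Subgroup.centralizer (P : Set G)))}
    {f : Set (IrrCharacter (Subgroup.centralizer (Q : Set G)))}
    (hmax : IsMaximalBrauerPair p M B P e) (hnil : IsNilpotentBlock p M B) (hf : IsPBlock M f)
    (hle : SubpairLE p M Q f P e) {g : G}
    (hg : SubpairLE p M (conjSub g Q) (conjBlock Q g f) P e) :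
    ∃ u ∈ P, u⁻¹ * g ∈ Subgroup.centralizer (Q : Set G) := by
  induction hn : Nat.card P - Nat.card Q using Nat.strong_induction_on generalizing Q f g with
  | _ n ih =>
  have hPe : IsBrauerPair p M P e := hmax.1.1
  have hQP : Q ≤ P :=
    subgroup_le_of_subpairLE (a := (⟨Q, f⟩ : BrauerPairIdx G)) (b := ⟨P, e⟩) hle
  have hQf : IsBrauerPairOf p M B Q f := (isBrauerPairOf_iff_of_le hM hmax.1.2.1 hle).1 hmax.1
  rcases eq_or_lt_of_le hQP with rfl | hlt
  · obtain rfl : f = e := subpair_unique hM hPe hle Relation.ReflTransGen.refl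
    obtain ⟨F, hF, hFeq, -⟩ := exists_block_pairStab hM hQf.1
    obtain ⟨u, hu, hk⟩ := pairStab_le_sup_of_nilpotent hM hnil hQf hF hFeq
      (defect_pairStab_top hM hmax hF hFeq) g (stab_eq_of_subgroup_eq hM hPe hg)
    exact ⟨u, hu.1, hk⟩
  set N := P ⊓ Subgroup.normalizer (Q : Set G) with hNdef
  have hQN : Q < N := lt_inf_normalizer hPe.1 hlt
  have hcard : Nat.card Q < Nat.card N := by
    by_contra hle'
    exact hQN.ne (Subgroup.eq_of_le_of_card_ge hQN.le (not_lt.1 hle'))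
  obtain ⟨h, hh, hhle⟩ := exists_subpair hM hPe (inf_le_left : N ≤ P)
  obtain ⟨x, hx, F, hF, hFeq, hD⟩ := exists_fully_normalized hM hmax hle hf
  have hQ1f : IsBrauerPairOf p M B (conjSub x Q) (conjBlock Q x f) := isBrauerPairOf_conj hM hQf x
  -- maps onto the fully normalised pair
  have claim : ∀ (Q₀ : Subgroup G) (f₀ : Set (IrrCharacter (Subgroup.centralizer (Q₀ : Set G))))
      (y : G), IsPBlock M f₀ → SubpairLE p M Q₀ f₀ P e → Nat.card Q₀ = Nat.card Q →
      conjIdx y (⟨Q₀, f₀⟩ : BrauerPairIdx G) = conjIdx x ⟨Q, f⟩ →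
      ∃ u ∈ P, u⁻¹ * y ∈ Subgroup.centralizer (Q₀ : Set G) := by
    intro Q₀ f₀ y hf₀ hle₀ hcQ hidx
    have hy : SubpairLE p M (conjSub y Q₀) (conjBlock Q₀ y f₀) P e := by
      unfold SubpairLE at hx ⊢
      rw [show (⟨conjSub y Q₀, conjBlock Q₀ y f₀⟩ : BrauerPairIdx G) = conjIdx y ⟨Q₀, f₀⟩ from rfl,
        hidx]
      exact hx
    have hQ₀P : Q₀ ≤ P :=
      subgroup_le_of_subpairLE (a := (⟨Q₀, f₀⟩ : BrauerPairIdx G)) (b := ⟨P, e⟩) hle₀
    have hlt₀ : Q₀ < P := lt_of_le_of_ne hQ₀P fun he => by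
      rw [he] at hcQ
      exact hlt.ne (Subgroup.eq_of_le_of_card_ge hQP hcQ.le)
    have hQN₀ : Q₀ < P ⊓ Subgroup.normalizer (Q₀ : Set G) := lt_inf_normalizer hPe.1 hlt₀
    obtain ⟨h₀, hh₀, hh₀le⟩ :=
      exists_subpair hM hPe (inf_le_left : P ⊓ Subgroup.normalizer (Q₀ : Set G) ≤ P)
    have key : ∀ (A : BrauerPairIdx G), A = conjIdx x ⟨Q, f⟩ →
        ∃ F' : Set (IrrCharacter (pairStab M A.1 A.2)), IsPBlock M F' ∧
          bIdem M (pairStab M A.1 A.2) F' = cb M A.1 A.2 ∧
          IsDefectGroup p M F' ((P ⊓ pairStab M A.1 A.2).subgroupOf (pairStab M A.1 A.2)) ∧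
          IsBrauerPairOf p M B A.1 A.2 := by
      rintro A rfl
      exact ⟨F, hF, hFeq, hD, hQ1f⟩
    obtain ⟨F', hF', hFeq', hD', hpair⟩ := key _ hidx
    obtain ⟨c, hc, hle'⟩ := extend_to_fully_normalized hM hPe hle₀ hy hF' hFeq' hD' hh₀
      inf_le_left hQN₀.le inf_le_right hh₀le
    have hc2 : Nat.card Q₀ < Nat.card (P ⊓ Subgroup.normalizer (Q₀ : Set G) : Subgroup G) := by
      by_contra hle''
      exact hQN₀.ne (Subgroup.eq_of_le_of_card_ge hQN₀.le (not_lt.1 hle''))
    obtain ⟨u, hu, huC⟩ := ih (Nat.card P - Nat.card (P ⊓ Subgroup.normalizer (Q₀ : Set G) :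
      Subgroup G)) (by
        have := Subgroup.card_le_of_le (inf_le_left : P ⊓ Subgroup.normalizer (Q₀ : Set G) ≤ P)
        omega) hh₀ hh₀le hle' rfl
    have huC' : u⁻¹ * (c * y) ∈ Subgroup.centralizer (Q₀ : Set G) :=
      Subgroup.centralizer_le hQN₀.le huC
    obtain ⟨d, hd, hdC⟩ := pairStab_le_sup_of_nilpotent hM hnil hpair hF' hFeq' hD' c hc
    refine ⟨d⁻¹ * u, P.mul_mem (P.inv_mem hd.1) hu, ?_⟩
    have hy' : (d⁻¹ * u)⁻¹ * (d⁻¹ * c * y) ∈ Subgroup.centralizer (Q₀ : Set G) := by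
      convert huC' using 1
      group
    have hconj : conjSub (d⁻¹ * c * y) Q₀ = conjSub y Q₀ := by
      rw [← conjSub_mul, conjSub_eq_self_iff]
      exact mul_mem (inv_mem (pairStab_le_normalizer _ _ hd.2)) (pairStab_le_normalizer _ _ hc)
    have h4 := coset_of_left_mul (Q := Q₀) (y := d⁻¹ * c * y) (u := d⁻¹ * u) (k := (d⁻¹ * c)⁻¹)
      hy' (by rw [hconj]; exact inv_mem hdC)
    simpa [mul_assoc] using h4
  obtain ⟨u, hu, huC⟩ := claim Q f x hf hle rfl rfl
  obtain ⟨u', hu', hu'C⟩ := claim (conjSub g Q) (conjBlock Q g f) (x * g⁻¹)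
    (isPBlock_conjBlock _ _ hf) hg (card_conjSub g Q) (by
      show conjIdx (x * g⁻¹) (conjIdx g (⟨Q, f⟩ : BrauerPairIdx G)) = _
      rw [conjIdx_conjIdx hM _ _ (a := (⟨Q, f⟩ : BrauerPairIdx G)) hf, inv_mul_cancel_right])
  refine ⟨u'⁻¹ * u, P.mul_mem (P.inv_mem hu') hu, ?_⟩
  have hy : (u'⁻¹ * u)⁻¹ * (u'⁻¹ * x) ∈ Subgroup.centralizer (Q : Set G) := by
    convert huC using 1
    group
  have h5 := coset_of_left_mul (Q := Q) (y := u'⁻¹ * x) (u := u'⁻¹ * u)
    (k := (u'⁻¹ * (x * g⁻¹))⁻¹) hy ?_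
  · convert h5 using 2
    group
  · have hconj : conjSub (u'⁻¹ * x) Q = conjSub g Q := by
      conv_lhs => rw [show u'⁻¹ * x = (u'⁻¹ * (x * g⁻¹)) * g by group]
      rw [← conjSub_mul, conjSub_eq_self_iff]
      exact centralizer_le_normalizer hM _ hu'C
    rw [hconj]
    exact inv_mem hu'C

end Cfsg.Agent.BrauerPairs
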