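import Cfsg.Agent.Lib.BrauerPairs.PPowerIndex
import Cfsg.Agent.Lib.BrauerPairs.NilpotentFusion

/-!
# Nilpotent blocks and normal subgroups of `p`-power index

* `exists_block_over`: a block of `L ⊓ N` lies below one block of `L`, the sum of its orbit;
* `nilpotent_sub_of_nilpotent`, `nilpotent_of_nilpotent_sub`.
-/

set_option autoImplicit false

namespace Cfsg.Agent.BrauerPairs

open Cfsg Cfsg.Agent.Blocks

variable {G : Type*} [Group G] {p : ℕ} {M : Ideal AlgInt}

theorem mem_normalizer_inf_normal {L N : Subgroup G} [hNn : N.Normal] {x : G}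
    (hx : x ∈ Subgroup.normalizer (L : Set G)) : x ∈ Subgroup.normalizer ((L ⊓ N : Subgroup G) : Set G) := by
  rw [Subgroup.mem_normalizer_iff]
  intro h
  simp only [Subgroup.mem_inf]
  refine and_congr (Subgroup.mem_normalizer_iff.1 hx h) ?_
  exact Subgroup.mem_normalizer_iff.1 (by rw [Subgroup.normalizer_eq_top]; exact Subgroup.mem_top x) h

/-- The isomorphism `C(Q) ⊓ H ≃* C_H(Q')`. -/
def centInfEquiv {H : Subgroup G} (Q' : Subgroup H) :
    (Subgroup.centralizer ((Q'.map H.subtype : Subgroup G) : Set G) ⊓ H : Subgroup G) ≃*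
      Subgroup.centralizer (Q' : Set H) where
  toFun x := ⟨⟨x, x.2.2⟩, (mem_centralizer_sub_iff Q' _).2 x.2.1⟩
  invFun y := ⟨((y : H) : G), (mem_centralizer_sub_iff Q' _).1 y.2, (y : H).2⟩
  left_inv _ := rfl
  right_inv _ := rfl
  map_mul' _ _ := rfl

variable [Finite G] (hM : IsPModular p M) [Fact p.Prime]
include hM

/-- A block of `L ⊓ N` lies below exactly one block of `L`: the sum of its `L`-orbit. -/
theorem exists_block_over {N : Subgroup G} [N.Normal] (hN : ∃ k : ℕ, N.index = p ^ k)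
    {L : Subgroup G} {b : Set (IrrCharacter (L ⊓ N : Subgroup G))} (hb : IsPBlock M b) :
    ∃ f : Set (IrrCharacter L), IsPBlock M f ∧
      bIdem M L f * bIdem M (L ⊓ N) b = bIdem M (L ⊓ N) b ∧
      (∀ x ∈ Subgroup.normalizer (L : Set G), cj x (bIdem M (L ⊓ N) b) = bIdem M (L ⊓ N) b →
        cj x (bIdem M L f) = bIdem M L f) ∧
      (∀ y, Fixed L y → y * bIdem M (L ⊓ N) b = bIdem M (L ⊓ N) b →
        y * bIdem M L f = bIdem M L f) ∧
      (∀ b' : Set (IrrCharacter (L ⊓ N : Subgroup G)), IsPBlock M b' →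
        bIdem M L f * bIdem M (L ⊓ N) b' = bIdem M (L ⊓ N) b' →
          ∃ g ∈ L, cj g (bIdem M (L ⊓ N) b) = bIdem M (L ⊓ N) b') := by
  classical
  have := Fintype.ofFinite G
  have hnorm : ∀ g : L, (g : G) ∈ Subgroup.normalizer ((L ⊓ N : Subgroup G) : Set G) := fun g =>
    mem_normalizer_inf_normal (Subgroup.le_normalizer g.2)
  have hblock : ∀ g : L, ∃ b' : Set (IrrCharacter (L ⊓ N : Subgroup G)), IsPBlock M b' ∧
      cj (g : G) (bIdem M (L ⊓ N) b) = bIdem M (L ⊓ N) b' := fun g =>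
    ⟨_, isPBlock_conjImg _ hb, cj_bIdem hM (mem_normalizer_iff_conj (hnorm g)) b⟩
  obtain ⟨O, hO⟩ : ∃ O : Finset (MonoidAlgebra (Res M) G),
      O = Finset.univ.image (fun g : L => cj (g : G) (bIdem M (L ⊓ N) b)) := ⟨_, rfl⟩
  have hmem : ∀ g ∈ L, cj g (bIdem M (L ⊓ N) b) ∈ O := fun g hg => by
    rw [hO]
    exact Finset.mem_image.2 ⟨(⟨g, hg⟩ : L), Finset.mem_univ _, rfl⟩
  have hOmem : ∀ z ∈ O, ∃ g ∈ L, z = cj g (bIdem M (L ⊓ N) b) := fun z hz => by
    obtain ⟨g, -, rfl⟩ := Finset.mem_image.1 (hO ▸ hz)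
    exact ⟨g, g.2, rfl⟩
  have hOblock : ∀ z ∈ O, ∃ b' : Set (IrrCharacter (L ⊓ N : Subgroup G)), IsPBlock M b' ∧
      z = bIdem M (L ⊓ N) b' := fun z hz => by
    obtain ⟨g, hg, rfl⟩ := hOmem z hz
    exact hblock ⟨g, hg⟩
  have hmul : ∀ z ∈ O, ∀ z' ∈ O, z * z' = if z = z' then z else 0 := by
    intro z hz z' hz'
    obtain ⟨b₁, hb₁, rfl⟩ := hOblock z hz
    obtain ⟨b₂, hb₂, rfl⟩ := hOblock z' hz'
    split_ifs with h
    · rw [← h, bIdem_mul_self hM hb₁]
    · exact bIdem_mul_of_ne hM hb₁ hb₂ fun h' => h (by rw [h'])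
  have hb0 : bIdem M (L ⊓ N) b ∈ O := by
    have := hmem 1 L.one_mem
    rwa [cj_one] at this
  have hsb : ∀ z ∈ O, (∑ z' ∈ O, z') * z = z := by
    intro z hz
    rw [Finset.sum_mul, Finset.sum_eq_single z]
    · rw [hmul z hz z hz, if_pos rfl]
    · intro z' hz' hne
      rw [hmul z' hz' z hz, if_neg hne]
    · exact fun h => absurd hz h
  have hss : (∑ z' ∈ O, z') * (∑ z' ∈ O, z') = ∑ z' ∈ O, z' := by
    rw [Finset.mul_sum]
    exact Finset.sum_congr rfl hsb
  have hperm : ∀ x : G, (∀ g ∈ L, ∃ g' ∈ L, cj x (cj g (bIdem M (L ⊓ N) b)) =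
      cj g' (bIdem M (L ⊓ N) b)) → cj x (∑ z' ∈ O, z') = ∑ z' ∈ O, z' := by
    intro x hx
    have hsub : O.image (cj (k := Res M) x) ⊆ O := by
      intro z hz
      obtain ⟨z₀, hz₀, rfl⟩ := Finset.mem_image.1 hz
      obtain ⟨g, hg, rfl⟩ := hOmem z₀ hz₀
      obtain ⟨g', hg', he⟩ := hx g hg
      rw [he]
      exact hmem g' hg'
    have heq : O.image (cj (k := Res M) x) = O := Finset.eq_of_subset_of_card_le hsub
      (by rw [Finset.card_image_of_injective _ (cj x).injective])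
    rw [map_sum]
    conv_rhs => rw [← heq, Finset.sum_image fun a _ a' _ h => (cj x).injective h]
  have hsL : IsCentralIn L (∑ z' ∈ O, z') := by
    refine ⟨fun y hy => ?_, fun x hx => hperm x fun g hg => ⟨x * g, L.mul_mem hx hg, ?_⟩⟩
    · rw [MonoidAlgebra.coeff_sum, Finsupp.finsetSum_apply]
      refine Finset.sum_eq_zero fun z hz => ?_
      obtain ⟨b', -, rfl⟩ := hOblock z hz
      exact (bIdem_central _ b').1 y fun h => hy h.1
    · rw [cj_mul]
  have hs0 : (∑ z' ∈ O, z') ≠ 0 := fun h => by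
    have := hsb _ hb0
    rw [h, zero_mul] at this
    exact bIdem_ne_zero hM hb this.symm
  obtain ⟨f, hf, hsf⟩ := exists_block_le hM hsL hss hs0
  have hfC : IsCentralIn (L ⊓ N) (bIdem M L f) :=
    ⟨suppIn_bIdem_of_pPower hM hN L hf, (bIdem_central L f).2.mono inf_le_left⟩
  have hfO : ∀ g ∈ L, bIdem M L f * cj g (bIdem M (L ⊓ N) b) =
      cj g (bIdem M L f * bIdem M (L ⊓ N) b) := fun g hg => by
    rw [map_mul, (bIdem_central L f).2 g hg]
  have hfs : bIdem M L f * (∑ z' ∈ O, z') = bIdem M L f := by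
    rw [(bIdem_central L f).2.commute hsL.1, hsf]
  have hfb : bIdem M L f * bIdem M (L ⊓ N) b = bIdem M (L ⊓ N) b := by
    refine (mul_bIdem_cases hM hfC (bIdem_mul_self hM hf) hb).resolve_right fun h => ?_
    refine bIdem_ne_zero hM hf ?_
    rw [← hfs, Finset.mul_sum]
    refine Finset.sum_eq_zero fun z hz => ?_
    obtain ⟨g, hg, rfl⟩ := hOmem z hz
    rw [hfO g hg, h, map_zero]
  have heq : bIdem M L f = ∑ z' ∈ O, z' := by
    rw [← hfs, Finset.mul_sum]
    refine Finset.sum_congr rfl fun z hz => ?_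
    obtain ⟨g, hg, rfl⟩ := hOmem z hz
    rw [hfO g hg, hfb]
  refine ⟨f, hf, hfb, fun x hx hxb => ?_, fun y hy hyb => ?_, fun b' hb' h => ?_⟩
  · rw [heq]
    refine hperm x fun g hg => ⟨x * g * x⁻¹, (Subgroup.mem_normalizer_iff.1 hx g).1 hg, ?_⟩
    conv_rhs => rw [← hxb, ← cj_mul, inv_mul_cancel_right, cj_mul]
  · rw [heq, Finset.mul_sum]
    refine Finset.sum_congr rfl fun z hz => ?_
    obtain ⟨g, hg, rfl⟩ := hOmem z hz
    conv_lhs => rw [← hy g hg, ← map_mul, hyb]
  · by_contra hno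
    push Not at hno
    refine bIdem_ne_zero hM hb' ?_
    rw [← h, heq, Finset.sum_mul]
    refine Finset.sum_eq_zero fun z hz => ?_
    obtain ⟨g, hg, rfl⟩ := hOmem z hz
    obtain ⟨b₁, hb₁, he⟩ := hblock ⟨g, hg⟩
    rw [show cj g (bIdem M (L ⊓ N) b) = _ from he]
    exact bIdem_mul_of_ne hM hb₁ hb' fun hh => hno g hg (by rw [← hh]; exact he)

/-- A `p`-regular element of `N` stabilising a block of `L` stabilises a block of `L ⊓ N` below
it. -/
theorem exists_fixed_block_under {N : Subgroup G} [N.Normal] (hN : ∃ k : ℕ, N.index = p ^ k)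
    {L : Subgroup G} {f : Set (IrrCharacter L)} (hf : IsPBlock M f) {x : G}
    (hxN : x ∈ N) (hxL : x ∈ Subgroup.normalizer (L : Set G))
    (hxf : cj x (bIdem M L f) = bIdem M L f) (hx : ¬ p ∣ orderOf x) :
    ∃ b : Set (IrrCharacter (L ⊓ N : Subgroup G)), IsPBlock M b ∧
      bIdem M L f * bIdem M (L ⊓ N) b = bIdem M (L ⊓ N) b ∧
      cj x (bIdem M (L ⊓ N) b) = bIdem M (L ⊓ N) b := by
  classical
  obtain ⟨b, hb, hfb⟩ := exists_block_le hM (H := L ⊓ N)
    ⟨suppIn_bIdem_of_pPower hM hN L hf, (bIdem_central L f).2.mono inf_le_left⟩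
    (bIdem_mul_self hM hf) (bIdem_ne_zero hM hf)
  refine ⟨b, hb, hfb, ?_⟩
  obtain ⟨f₁, hf₁, h1, -, -, htrans⟩ := exists_block_over hM hN hb
  obtain rfl : f = f₁ := by
    by_contra hne
    refine bIdem_ne_zero hM hb ?_
    rw [← hfb, ← h1, ← mul_assoc, bIdem_mul_of_ne hM hf hf₁ hne, zero_mul]
  obtain ⟨a, ha, hax⟩ := htrans _
    (isPBlock_conjImg (mem_normalizer_iff_conj (mem_normalizer_inf_normal hxL)) hb) (by
      rw [← cj_bIdem hM (mem_normalizer_iff_conj (mem_normalizer_inf_normal hxL)) b]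
      conv_lhs => rw [← hxf, ← map_mul, hfb])
  rw [← cj_bIdem hM (mem_normalizer_iff_conj (mem_normalizer_inf_normal hxL)) b] at hax
  have hker : ∀ u ∈ L ⊓ N, ∀ g ∈ L, cj u (cj g (bIdem M (L ⊓ N) b)) =
      cj g (bIdem M (L ⊓ N) b) := by
    intro u hu g hg
    have hug : g⁻¹ * u * g ∈ L ⊓ N := (Subgroup.mem_normalizer_iff''.1
      (mem_normalizer_inf_normal (Subgroup.le_normalizer hg)) u).1 hu
    calc cj u (cj g (bIdem M (L ⊓ N) b)) = cj g (cj (g⁻¹ * u * g) (bIdem M (L ⊓ N) b)) := by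
          rw [← cj_mul, ← cj_mul]
          congr 2
          group
      _ = _ := by rw [(bIdem_central _ b).2 _ hug]
  have hpow : ∀ j : ℕ, cj (x ^ j) (bIdem M (L ⊓ N) b) = cj (a ^ j) (bIdem M (L ⊓ N) b) := by
    intro j
    induction j with
    | zero => rw [pow_zero, pow_zero]
    | succ j ih =>
      rw [pow_succ' x, cj_mul, ih]
      have hu : x * a ^ j * x⁻¹ * (a ^ j)⁻¹ ∈ L ⊓ N := by
        refine ⟨L.mul_mem ((Subgroup.mem_normalizer_iff.1 hxL _).1 (L.pow_mem ha j))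
          (L.inv_mem (L.pow_mem ha j)), ?_⟩
        rw [mul_assoc x (a ^ j), mul_assoc x]
        exact N.mul_mem hxN (Subgroup.Normal.conj_mem ‹_› _ (N.inv_mem hxN) _)
      calc cj x (cj (a ^ j) (bIdem M (L ⊓ N) b))
          = cj (x * a ^ j * x⁻¹) (cj x (bIdem M (L ⊓ N) b)) := by
            rw [← cj_mul, ← cj_mul, inv_mul_cancel_right]
        _ = cj (x * a ^ j * x⁻¹ * (a ^ j)⁻¹) (cj (a ^ (j + 1)) (bIdem M (L ⊓ N) b)) := by
            rw [← hax, ← cj_mul, ← cj_mul, pow_succ]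
            congr 2
            group
        _ = _ := hker _ hu _ (L.pow_mem ha _)
  let S : Subgroup G :=
    { carrier := {g | cj g (bIdem M (L ⊓ N) b) = bIdem M (L ⊓ N) b}
      one_mem' := cj_one _
      mul_mem' := fun {g h} hg hh => by
        show cj (g * h) _ = _
        rw [cj_mul, show cj h _ = _ from hh]
        exact hg
      inv_mem' := fun {g} hg => by
        show cj g⁻¹ _ = _
        conv_lhs => rw [← show cj g _ = _ from hg]
        rw [cj_inv_cj] }
  have hm : a ^ orderOf x ∈ S := by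
    show cj _ _ = _
    rw [← hpow, pow_orderOf_eq_one, cj_one]
  obtain ⟨k, hk⟩ := hN
  have hk' : a ^ (p ^ k) ∈ S :=
    (bIdem_central _ b).2 _ ⟨L.pow_mem ha _, hk ▸ N.pow_index_mem a⟩
  have hcop : (orderOf x).Coprime (p ^ k) :=
    Nat.Coprime.pow_right k (((Fact.out : p.Prime).coprime_iff_not_dvd.2 hx).symm)
  have haS : a ∈ S := by
    have h := Nat.gcd_eq_gcd_ab (orderOf x) (p ^ k)
    rw [hcop.gcd_eq_one] at h
    rw [← zpow_one a, show (1 : ℤ) = _ from h, zpow_add, zpow_mul, zpow_mul, zpow_natCast,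
      zpow_natCast]
    exact S.mul_mem (S.zpow_mem hm _) (S.zpow_mem hk' _)
  rw [← hax]
  exact haS

/-- If the block of `G` is nilpotent, so is the block of `N`. -/
theorem nilpotent_sub_of_nilpotent {N : Subgroup G} [N.Normal] (hN : ∃ k : ℕ, N.index = p ^ k)
    {c : Set (IrrCharacter N)} (hc : IsPBlock M c) {B : Set (IrrCharacter G)}
    (heq : blk M B = bIdem M N c) (hnil : IsNilpotentBlock p M B) :
    IsNilpotentBlock p M c := by
  refine ⟨hc, fun Q' e hQe x hx hxst hxreg => ?_⟩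
  obtain ⟨⟨hQ', he⟩, -, hle⟩ := (isBrauerPairOf_iff hM).1 hQe
  have hxN' := (mem_normalizer_sub_iff hM Q' x).1 hx
  have hQp : IsPGroup p (Q'.map N.subtype : Subgroup G) := hQ'.map _
  have hCN := centralizer_le_normalizer hM (Q'.map N.subtype : Subgroup G)
  have hb : IsPBlock M (pullIrr (centInfEquiv Q') '' e) := isPBlock_image _ he
  have hemb := emb_bIdem hM (centInfEquiv Q') (fun _ => rfl) e
  obtain ⟨f, hf, -, hxf, hyf, -⟩ := exists_block_over hM hN hb
  have hpair : IsBrauerPairOf p M B (Q'.map N.subtype) f := by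
    refine (isBrauerPairOf_iff hM).2 ⟨⟨hQp, hf⟩, hnil.1, hyf _ ?_ ?_⟩
    · exact Fixed.br ((fixed_blk B).mono le_top) hCN
    · rw [heq, ← hemb, show bIdem M N c = emb N (blk M c) from rfl, ← emb_br, ← map_mul, hle]
  have hst : cj (x : G) (cb M (Q'.map N.subtype) f) = cb M (Q'.map N.subtype) f := by
    refine hxf _ (mem_normalizer_centralizer hxN') ?_
    rw [← hemb, ← emb_cj, (stabilizesBlock_iff hM he (mem_normalizer_centralizer hx)).1 hxst]
  have hxC := hnil.2 _ f hpair (x : G) hxN'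
    ((stabilizesBlock_iff hM hf (mem_normalizer_centralizer hxN')).2 hst)
    (by unfold IsPRegular; rwa [Subgroup.orderOf_coe])
  exact (mem_centralizer_sub_iff Q' x).2 hxC

/-- If the block of `N` is nilpotent, so is the block of `G`. -/
theorem nilpotent_of_nilpotent_sub {N : Subgroup G} [N.Normal] (hN : ∃ k : ℕ, N.index = p ^ k)
    {c : Set (IrrCharacter N)} {B : Set (IrrCharacter G)} (hB : IsPBlock M B)
    (heq : blk M B = bIdem M N c) (hnil : IsNilpotentBlock p M c) :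
    IsNilpotentBlock p M B := by
  refine ⟨hB, fun Q f hQf x hx hxst hxreg => ?_⟩
  obtain ⟨hQ, -, -⟩ := (isBrauerPairOf_iff hM).1 hQf
  have hxN : x ∈ N := mem_of_not_dvd_orderOf hN hxreg
  have hxf := (stabilizesBlock_iff hM hQ.2 (mem_normalizer_centralizer hx)).1 hxst
  have hQR : Q ≤ Subgroup.normalizer ((Q ⊓ N : Subgroup G) : Set G) := fun u hu =>
    mem_normalizer_inf_normal (Subgroup.le_normalizer hu)
  have hxR := mem_normalizer_inf_normal (N := N) hx
  obtain ⟨f', hn, huniq⟩ := existsUnique_normalSubpair hM hQ inf_le_left hQR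
  obtain ⟨⟨hRp, hf'⟩, -, -, -, hfix', hle'⟩ := (isNormalSubpair_iff hM).1 hn
  have hxf' : cj x (cb M (Q ⊓ N) f') = cb M (Q ⊓ N) f' := by
    have h1 := mem_normalizer_iff_conj (mem_normalizer_centralizer hxR)
    have hcj : cj x (cb M (Q ⊓ N) f') = cb M (Q ⊓ N) (conjImg _ _ x h1 f') := cj_bIdem hM h1 f'
    rw [hcj]
    refine congrArg (cb M (Q ⊓ N)) (huniq _ ((isNormalSubpair_iff hM).2
      ⟨⟨hRp, isPBlock_conjImg _ hf'⟩, hQ, inf_le_left, hQR, fun u hu => ?_, ?_⟩))
    · rw [← hcj, ← cj_mul, show u * x = x * (x⁻¹ * u * x) by group, cj_mul,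
        hfix' _ ((Subgroup.mem_normalizer_iff''.1 hx u).1 hu)]
    · have h := congrArg (cj x) hle'
      rw [map_mul, cj_br, conjSub_eq_self_iff.2 hx, hcj] at h
      rwa [show cj x (cb M Q f) = cb M Q f from hxf] at h
  have hBR : br (Q ⊓ N) (blk M B) * cb M (Q ⊓ N) f' = cb M (Q ⊓ N) f' := by
    have h := (isBrauerPairOf_iff_of_normal hM hB (a := (⟨Q ⊓ N, f'⟩ : BrauerPairIdx G))
      (b := ⟨Q, f⟩) hn).1 hQf
    exact ((isBrauerPairOf_iff hM).1 h).2.2
  obtain ⟨b, hb, hfb, hxb⟩ := exists_fixed_block_under hM hN hf' hxN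
    (mem_normalizer_centralizer hxR) hxf' hxreg
  have hRN : Q ⊓ N ≤ N := inf_le_right
  have hmap : ((Q ⊓ N).subgroupOf N).map N.subtype = Q ⊓ N := by
    rw [Subgroup.map_subgroupOf_eq_of_le hRN]
  have hbr : br (Q ⊓ N) (blk M B) * bIdem M (Subgroup.centralizer ((Q ⊓ N : Subgroup G) : Set G) ⊓ N) b
      = bIdem M (Subgroup.centralizer ((Q ⊓ N : Subgroup G) : Set G) ⊓ N) b := by
    conv_lhs => rw [← hfb, ← mul_assoc, hBR, hfb]
  -- move the pair into `N`
  have key : ∀ R' : Subgroup N, ∀ b : Set (IrrCharacter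
      (Subgroup.centralizer ((R'.map N.subtype : Subgroup G) : Set G) ⊓ N : Subgroup G)),
      IsPBlock M b → IsPGroup p R' →
      br (R'.map N.subtype) (blk M B) * bIdem M _ b = bIdem M _ b →
      x ∈ Subgroup.normalizer ((R'.map N.subtype : Subgroup G) : Set G) →
      cj x (bIdem M _ b) = bIdem M _ b →
      x ∈ Subgroup.centralizer ((R'.map N.subtype : Subgroup G) : Set G) := by
    intro R' b hb hR' hpair hxn hxb
    set e := pullIrr (centInfEquiv R').symm '' b with he_def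
    have he : IsPBlock M e := isPBlock_image _ hb
    have hemb := emb_bIdem hM (centInfEquiv R') (fun _ => rfl) e
    have heb : pullIrr (centInfEquiv R') '' e = b := by
      rw [he_def, Set.image_image]
      conv_rhs => rw [← Set.image_id b]
      refine congrArg (fun F => F '' b) (funext fun η => ?_)
      apply Subtype.ext
      funext z
      rw [pullIrr_apply, pullIrr_apply]
      exact congrArg (η : _ → ℂ) ((centInfEquiv R').symm_apply_apply z)
    rw [heb] at hemb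
    have hxR' : (⟨x, hxN⟩ : N) ∈ Subgroup.normalizer (R' : Set N) :=
      (mem_normalizer_sub_iff hM R' ⟨x, hxN⟩).2 hxn
    refine (mem_centralizer_sub_iff R' ⟨x, hxN⟩).1 (hnil.2 R' e ?_ _ hxR' ?_ ?_)
    · refine (isBrauerPairOf_iff hM).2 ⟨⟨hR', he⟩, hnil.1, emb_injective N ?_⟩
      rw [map_mul, emb_br]
      show br _ (bIdem M N c) * emb N (bIdem M _ e) = emb N (bIdem M _ e)
      rw [← heq, hemb, hpair]
    · refine (stabilizesBlock_iff hM he (mem_normalizer_centralizer hxR')).2 (emb_injective N ?_)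
      rw [emb_cj]
      show cj x (emb N (bIdem M _ e)) = emb N (bIdem M _ e)
      rw [hemb, hxb]
    · unfold IsPRegular
      rwa [← Subgroup.orderOf_coe]
  have hxc : x ∈ Subgroup.centralizer ((Q ⊓ N : Subgroup G) : Set G) := by
    have k := key ((Q ⊓ N).subgroupOf N)
    rw [hmap] at k
    exact k b hb ((hRp.comap_of_injective N.subtype N.subtype_injective)) hbr hxR hxb
  rw [Subgroup.mem_centralizer_iff] at hxc ⊢
  intro q hq
  have hr : x * q * x⁻¹ * q⁻¹ ∈ Q ⊓ N := by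
    refine ⟨Q.mul_mem ((Subgroup.mem_normalizer_iff.1 hx q).1 hq) (Q.inv_mem hq), ?_⟩
    rw [mul_assoc x q, mul_assoc x]
    exact N.mul_mem hxN (Subgroup.Normal.conj_mem ‹_› _ (N.inv_mem hxN) _)
  set r := x * q * x⁻¹ * q⁻¹ with hr_def
  have hxq : x * q = r * q * x := by rw [hr_def]; group
  have hpow : ∀ j : ℕ, x ^ j * q = r ^ j * q * x ^ j := by
    intro j
    induction j with
    | zero => simp
    | succ j ih =>
      rw [pow_succ' x, mul_assoc x, ih, ← mul_assoc x, ← mul_assoc x,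
        ← (Commute.pow_left (hxc r hr) j).eq, mul_assoc (r ^ j) x q, hxq, pow_succ r]
      simp only [mul_assoc]
  have hr1 : r ^ orderOf x = 1 := by
    have h := hpow (orderOf x)
    rw [pow_orderOf_eq_one, one_mul, mul_one] at h
    exact mul_eq_right.1 h.symm
  have hrone : r = 1 := by
    obtain ⟨n, hn⟩ := hQ.1 ⟨r, hr.1⟩
    have hn' : r ^ (p ^ n) = 1 := by simpa using congrArg Subtype.val hn
    have h1 : orderOf r ∣ Nat.gcd (orderOf x) (p ^ n) :=
      Nat.dvd_gcd (orderOf_dvd_of_pow_eq_one hr1) (orderOf_dvd_of_pow_eq_one hn')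
    rw [(Nat.Coprime.pow_right n (((Fact.out : p.Prime).coprime_iff_not_dvd.2 hxreg).symm)).gcd_eq_one,
      Nat.dvd_one, orderOf_eq_one_iff] at h1
    exact h1
  rw [hrone, one_mul] at hxq
  exact hxq.symm

end Cfsg.Agent.BrauerPairs
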