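import Cfsg.Agent.Lib.BrauerPairs.BlockIdem
import Cfsg.Agent.Lib.BrauerPairs.Principal

/-!
# Brauer pairs as idempotent equations

* `cb M P e` is the reduced idempotent of a block `e` of `C(P)`, in the algebra of `G`;
* `conjImg`, `cj_bIdem`, `cj_cb`: conjugation of blocks and of their idempotents;
* `stabilizesBlock_iff`, `isBrauerPairOf_iff`, `isNormalSubpair_iff`;
* `conjIdx`, `isBrauerPairOf_conj`, `normalSubpairRel_conj`, `subpairLE_conj`, `idx_ext`.
-/

set_option autoImplicit false

namespace Cfsg.Agent.BrauerPairs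

open Cfsg Cfsg.Agent.Blocks

variable {G : Type*} [Group G] {p : ℕ} {M : Ideal AlgInt}

section image

variable {H : Type*} [Group H]

theorem pullIrr_image_blockOf (e : H ≃* G) (χ : IrrCharacter G) :
    pullIrr e '' blockOf M (χ : G → ℂ) = blockOf M (pullIrr e χ : H → ℂ) := by
  ext θ
  constructor
  · rintro ⟨ψ, hψ, rfl⟩
    exact (sameBlock_comp_equiv e (χ : G → ℂ) (ψ : G → ℂ)).2 hψ
  · intro hθ
    have hback : pullIrr e (pullIrr e.symm θ) = θ := by
      apply Subtype.ext
      funext y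
      simp [pullIrr_apply]
    refine ⟨pullIrr e.symm θ, (sameBlock_comp_equiv e (χ : G → ℂ) _).1 ?_, hback⟩
    have h' : SameBlock M (pullIrr e χ : H → ℂ) (pullIrr e (pullIrr e.symm θ) : H → ℂ) :=
      hback.symm ▸ hθ
    exact h'

theorem isPBlock_image (e : H ≃* G) {b : Set (IrrCharacter G)} (hb : IsPBlock M b) :
    IsPBlock M (pullIrr e '' b) := by
  obtain ⟨χ, rfl⟩ := hb
  exact ⟨pullIrr e χ, pullIrr_image_blockOf e χ⟩

theorem blockCoeff_image [Finite G] [Finite H] (e : H ≃* G) (b : Set (IrrCharacter G)) (h : H) :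
    blockCoeff (pullIrr e '' b) h = blockCoeff b (e h) := by
  rw [blockCoeff, blockCoeff, Nat.card_congr e.toEquiv]
  congr 1
  refine (finsum_mem_eq_of_bijOn (pullIrr e) ⟨Set.mapsTo_image _ _, ?_, fun _ h => h⟩
    fun χ _ => ?_).symm
  · intro χ _ ψ _ he
    apply Subtype.ext
    funext g
    simpa [pullIrr_apply] using congrArg (fun θ : IrrCharacter H => (θ : H → ℂ) (e.symm g)) he
  · simp [pullIrr_apply]

end image

variable [Finite G]

/-- The image of a set of characters of `K` under conjugation onto `K'`. -/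
def conjImg (K K' : Subgroup G) (g : G) (h : ∀ x, x ∈ K ↔ g * x * g⁻¹ ∈ K')
    (b : Set (IrrCharacter K)) : Set (IrrCharacter K') :=
  pullIrr (conjEquiv K K' g h).symm '' b

theorem isPBlock_conjImg {K K' : Subgroup G} {g : G} (h : ∀ x, x ∈ K ↔ g * x * g⁻¹ ∈ K')
    {b : Set (IrrCharacter K)} (hb : IsPBlock M b) : IsPBlock M (conjImg K K' g h b) :=
  isPBlock_image _ hb

theorem subgroupBlockCoeff_conjImg {K K' : Subgroup G} {g : G}
    (h : ∀ x, x ∈ K ↔ g * x * g⁻¹ ∈ K') (b : Set (IrrCharacter K)) (x : G) :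
    subgroupBlockCoeff K' (conjImg K K' g h b) x =
      subgroupBlockCoeff K b (g⁻¹ * x * g) := by
  simp only [subgroupBlockCoeff]
  have hiff : g⁻¹ * x * g ∈ K ↔ x ∈ K' := by rw [h]; simp [mul_assoc]
  by_cases hx : x ∈ K'
  · rw [dif_pos hx, dif_pos (hiff.2 hx), conjImg, blockCoeff_image]
    rfl
  · rw [dif_neg hx, dif_neg fun h' => hx (hiff.1 h')]

theorem mem_normalizer_iff_conj {K : Subgroup G} {g : G}
    (hg : g ∈ Subgroup.normalizer (K : Set G)) (x : G) : x ∈ K ↔ g * x * g⁻¹ ∈ K :=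
  Subgroup.mem_normalizer_iff.1 hg x

theorem conjImg_subset_iff_stabilizes {K : Subgroup G} {g : G}
    (hg : g ∈ Subgroup.normalizer (K : Set G)) (b : Set (IrrCharacter K)) :
    StabilizesBlock K b g ↔ conjImg K K g (mem_normalizer_iff_conj hg) b ⊆ b := by
  have key : ∀ χ χ' : IrrCharacter K, IsConjCharOf K g (χ : K → ℂ) (χ' : K → ℂ) ↔
      χ' = pullIrr (conjEquiv K K g (mem_normalizer_iff_conj hg)).symm χ := by
    intro χ χ'
    constructor
    · intro h
      apply Subtype.ext
      funext k'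
      rw [pullIrr_apply]
      refine h _ k' ?_
      show (k' : G) = g * (g⁻¹ * (k' : G) * g) * g⁻¹
      group
    · rintro rfl k k' hk
      rw [pullIrr_apply]
      refine congrArg (χ : K → ℂ) (Subtype.ext ?_)
      show g⁻¹ * (k' : G) * g = (k : G)
      rw [hk]
      group
  constructor
  · rintro ⟨-, h⟩ _ ⟨χ, hχ, rfl⟩
    obtain ⟨χ', hχ', hc⟩ := h χ hχ
    exact (key χ χ').1 hc ▸ hχ'
  · exact fun h => ⟨hg, fun χ hχ => ⟨_, h ⟨χ, hχ, rfl⟩, (key χ _).2 rfl⟩⟩

theorem conjBlock_eq_conjImg (Q : Subgroup G) (g : G)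
    (f : Set (IrrCharacter (Subgroup.centralizer (Q : Set G)))) :
    conjBlock Q g f = conjImg _ _ g (mem_centralizer_map_conj Q g) f := by
  ext ξ'
  constructor
  · rintro ⟨ξ, hξ, h⟩
    refine ⟨ξ, hξ, ?_⟩
    apply Subtype.ext
    funext c'
    rw [pullIrr_apply]
    refine (h _ c' ?_).symm
    show (c' : G) = g * (g⁻¹ * (c' : G) * g) * g⁻¹
    group
  · rintro ⟨ξ, hξ, rfl⟩
    refine ⟨ξ, hξ, fun c c' h => ?_⟩
    rw [pullIrr_apply]
    refine congrArg (ξ : Subgroup.centralizer (Q : Set G) → ℂ) (Subtype.ext ?_)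
    show g⁻¹ * (c' : G) * g = (c : G)
    rw [h]
    group

theorem isPBlock_conjBlock (Q : Subgroup G) (g : G)
    {f : Set (IrrCharacter (Subgroup.centralizer (Q : Set G)))} (hf : IsPBlock M f) :
    IsPBlock M (conjBlock Q g f) := by
  rw [conjBlock_eq_conjImg]
  exact isPBlock_conjImg _ hf

/-- The reduced idempotent of a block of `C(P)`. -/
noncomputable abbrev cb (M : Ideal AlgInt) (P : Subgroup G)
    (e : Set (IrrCharacter (Subgroup.centralizer (P : Set G)))) : MonoidAlgebra (Res M) G :=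
  bIdem M (Subgroup.centralizer (P : Set G)) e

variable (hM : IsPModular p M)
include hM

theorem cj_bIdem {K K' : Subgroup G} {g : G} (h : ∀ x, x ∈ K ↔ g * x * g⁻¹ ∈ K')
    (b : Set (IrrCharacter K)) : cj g (bIdem M K b) = bIdem M K' (conjImg K K' g h b) := by
  ext x
  rw [coeff_cj, coeff_bIdem hM, coeff_bIdem hM, subgroupBlockCoeff_conjImg]

theorem cj_cb (Q : Subgroup G) (g : G)
    (f : Set (IrrCharacter (Subgroup.centralizer (Q : Set G)))) :
    cj g (cb M Q f) = cb M (conjSub g Q) (conjBlock Q g f) := by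
  rw [cj_bIdem hM (mem_centralizer_map_conj Q g) f, ← conjBlock_eq_conjImg]

theorem conjImg_eq_self_iff {K : Subgroup G} {b : Set (IrrCharacter K)} (hb : IsPBlock M b) {g : G}
    (h : ∀ x, x ∈ K ↔ g * x * g⁻¹ ∈ K) :
    conjImg K K g h b = b ↔ cj g (bIdem M K b) = bIdem M K b := by
  rw [cj_bIdem hM h]
  exact ⟨fun h' => by rw [h'], bIdem_injective hM (isPBlock_conjImg h hb) hb⟩

/-- Stabilising a block is fixing its idempotent. -/
theorem stabilizesBlock_iff {K : Subgroup G} {b : Set (IrrCharacter K)} (hb : IsPBlock M b) {g : G}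
    (hg : g ∈ Subgroup.normalizer (K : Set G)) :
    StabilizesBlock K b g ↔ cj g (bIdem M K b) = bIdem M K b := by
  rw [conjImg_subset_iff_stabilizes hg, ← conjImg_eq_self_iff hM hb (mem_normalizer_iff_conj hg)]
  refine ⟨fun h => ?_, fun h => h.subset⟩
  obtain ⟨ξ, hξ⟩ := isPBlock_nonempty hM (isPBlock_conjImg (mem_normalizer_iff_conj hg) hb)
  exact isPBlock_eq_of_mem hM (isPBlock_conjImg _ hb) hb hξ (h hξ)

/-- An exact invariance from an invariance modulo `M`. -/
theorem subgroupBlockCoeff_conj_of_fixed {K : Subgroup G} {b : Set (IrrCharacter K)}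
    (hb : IsPBlock M b) {g : G} (hg : g ∈ Subgroup.normalizer (K : Set G))
    (h : cj g (bIdem M K b) = bIdem M K b) (x : G) :
    subgroupBlockCoeff K b (g⁻¹ * x * g) = subgroupBlockCoeff K b x := by
  rw [← subgroupBlockCoeff_conjImg (mem_normalizer_iff_conj hg),
    (conjImg_eq_self_iff hM hb _).2 h]

theorem red_subgroupBlockCoeff (K : Subgroup G) (b : Set (IrrCharacter K)) :
    red M (subgroupBlockCoeff K b) = bIdem M K b := by
  ext x
  rw [coeff_red, coeff_bIdem hM]

theorem memR_subgroupBlockCoeff {K : Subgroup G} {b : Set (IrrCharacter K)} (hb : IsPBlock M b)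
    (x : G) : MemLocalRing M (subgroupBlockCoeff K b x) := by
  unfold subgroupBlockCoeff
  split_ifs
  · exact Blocks.memR_blockCoeff hM hb _
  · exact memR_zero hM

/-- The central character of `C(P)` on the Brauer image. -/
theorem res_brauerOmega {P : Subgroup G} {β : G → ℂ}
    (hcls : ∀ c ∈ Subgroup.centralizer (P : Set G), ∀ x : G, β (c * x * c⁻¹) = β x)
    (hR : ∀ x, MemLocalRing M (β x)) (ξ : IrrCharacter (Subgroup.centralizer (P : Set G))) :
    res M (brauerOmega P β (ξ : Subgroup.centralizer (P : Set G) → ℂ)) =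
      lam M (Subgroup.centralizer (P : Set G)) ξ (br P (red M β)) ∧
    MemLocalRing M (brauerOmega P β (ξ : Subgroup.centralizer (P : Set G) → ℂ)) := by
  have hc : IsClassFunction _ (fun x : Subgroup.centralizer (P : Set G) => β x) :=
    fun x u => hcls u u.2 x
  have hb : brauerOmega P β (ξ : Subgroup.centralizer (P : Set G) → ℂ) =
      Blocks.omega (ξ : Subgroup.centralizer (P : Set G) → ℂ)
        (fun x : Subgroup.centralizer (P : Set G) => β x) := by
    have := Fintype.ofFinite (Subgroup.centralizer (P : Set G))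
    rw [brauerOmega, omega_eq_sum, finsum_eq_sum_of_fintype, Finset.sum_div]
  rw [hb]
  refine ⟨?_, Blocks.memR_omega hM hc (fun x => hR x) ξ⟩
  rw [← lamG_red hM hc (fun x => hR x), lam]
  congr 1
  ext x
  rw [coeff_red, coeff_pull, coeff_br, if_pos x.2, coeff_red]

variable [Fact p.Prime]

theorem centralizer_le_normalizer (P : Subgroup G) :
    Subgroup.centralizer (P : Set G) ≤ Subgroup.normalizer (P : Set G) := by
  intro c hc
  rw [Subgroup.mem_normalizer_iff]
  intro x
  rw [Subgroup.mem_centralizer_iff] at hc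
  constructor
  · intro hx
    rwa [← hc x hx, mul_assoc, mul_inv_cancel, mul_one]
  · intro hx
    have h := hc _ hx
    rw [inv_mul_cancel_right] at h
    rw [← mul_left_cancel h] at hx
    exact hx

theorem br_blk_central (P : Subgroup G) (B : Set (IrrCharacter G)) :
    IsCentralIn (Subgroup.centralizer (P : Set G)) (br P (blk M B)) :=
  ⟨suppIn_br P _, Fixed.br ((fixed_blk B).mono le_top) (centralizer_le_normalizer hM P)⟩

theorem br_blk_mul_self {P : Subgroup G} (hP : IsPGroup p P) {B : Set (IrrCharacter G)}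
    (hB : IsPBlock M B) : br P (blk M B) * br P (blk M B) = br P (blk M B) := by
  have := res_charP hM
  have := Fintype.ofFinite G
  rw [← br_mul (p := p) hP ((fixed_blk B).mono le_top) ((fixed_blk B).mono le_top),
    blk_mul_self hM hB]

theorem br_bIdem_central {P K : Subgroup G} (hCK : Subgroup.centralizer (P : Set G) ≤ K)
    (b : Set (IrrCharacter K)) :
    IsCentralIn (Subgroup.centralizer (P : Set G)) (br P (bIdem M K b)) :=
  ⟨suppIn_br P _, Fixed.br ((bIdem_central K b).2.mono hCK) (centralizer_le_normalizer hM P)⟩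

theorem br_bIdem_mul_self {P K : Subgroup G} (hP : IsPGroup p P) {b : Set (IrrCharacter K)}
    (hb : IsPBlock M b) (hfix : Fixed P (bIdem M K b)) :
    br P (bIdem M K b) * br P (bIdem M K b) = br P (bIdem M K b) := by
  have := res_charP hM
  have := Fintype.ofFinite G
  rw [← br_mul (p := p) hP hfix hfix, bIdem_mul_self hM hb]

theorem memI_brauerOmega_sub_one_iff {P : Subgroup G} {β : G → ℂ}
    (hcls : ∀ c ∈ Subgroup.centralizer (P : Set G), ∀ x : G, β (c * x * c⁻¹) = β x)
    (hR : ∀ x, MemLocalRing M (β x))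
    (hz : IsCentralIn (Subgroup.centralizer (P : Set G)) (br P (red M β)))
    (hzz : br P (red M β) * br P (red M β) = br P (red M β))
    {e : Set (IrrCharacter (Subgroup.centralizer (P : Set G)))} (he : IsPBlock M e) :
    (∀ ξ ∈ e, MemLocalIdeal M
        (brauerOmega P β (ξ : Subgroup.centralizer (P : Set G) → ℂ) - 1)) ↔
      br P (red M β) * cb M P e = cb M P e := by
  have key : ∀ ξ ∈ e, (MemLocalIdeal M
      (brauerOmega P β (ξ : Subgroup.centralizer (P : Set G) → ℂ) - 1) ↔
      br P (red M β) * cb M P e = cb M P e) := by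
    intro ξ hξ
    obtain ⟨h1, h2⟩ := res_brauerOmega hM hcls hR ξ
    rw [mul_bIdem_eq_iff hM hz hzz he hξ, ← h1, res_eq_one_iff hM h2]
  obtain ⟨ξ, hξ⟩ := isPBlock_nonempty hM he
  exact ⟨fun h => (key ξ hξ).1 (h ξ hξ), fun h η hη => (key η hη).2 h⟩

/-- Brauer pairs of a block as an idempotent equation. -/
theorem isBrauerPairOf_iff {B : Set (IrrCharacter G)} {P : Subgroup G}
    {e : Set (IrrCharacter (Subgroup.centralizer (P : Set G)))} :
    IsBrauerPairOf p M B P e ↔
      IsBrauerPair p M P e ∧ IsPBlock M B ∧ br P (blk M B) * cb M P e = cb M P e := by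
  refine and_congr_right fun hPe => and_congr_right fun hB => ?_
  exact memI_brauerOmega_sub_one_iff hM
    (fun c _ x => Blocks.isClassFunction_blockCoeff B x c) (Blocks.memR_blockCoeff hM hB)
    (br_blk_central hM P B) (br_blk_mul_self hM hPe.1 hB) hPe.2

theorem fixed_iff_stabilizes {Q : Subgroup G}
    {f : Set (IrrCharacter (Subgroup.centralizer (Q : Set G)))} (hf : IsPBlock M f)
    {S : Subgroup G} (hS : S ≤ Subgroup.normalizer (Q : Set G)) :
    (∀ x ∈ S, StabilizesBlock (Subgroup.centralizer (Q : Set G)) f x) ↔ Fixed S (cb M Q f) :=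
  forall₂_congr fun _ hx => stabilizesBlock_iff hM hf (mem_normalizer_centralizer (hS hx))

/-- Normal inclusion of Brauer pairs as idempotent equations. -/
theorem isNormalSubpair_iff {Q P : Subgroup G}
    {f : Set (IrrCharacter (Subgroup.centralizer (Q : Set G)))}
    {e : Set (IrrCharacter (Subgroup.centralizer (P : Set G)))} :
    IsNormalSubpair p M Q f P e ↔ IsBrauerPair p M Q f ∧ IsBrauerPair p M P e ∧ Q ≤ P ∧
      P ≤ Subgroup.normalizer (Q : Set G) ∧ Fixed P (cb M Q f) ∧
      br P (cb M Q f) * cb M P e = cb M P e := by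
  refine and_congr_right fun hQf => and_congr_right fun hPe => and_congr_right fun hQP =>
    and_congr_right fun hPN => ?_
  rw [fixed_iff_stabilizes hM hQf.2 hPN]
  refine and_congr_right fun hfix => ?_
  have hCC : Subgroup.centralizer (P : Set G) ≤ Subgroup.centralizer (Q : Set G) :=
    Subgroup.centralizer_le hQP
  have hred : red M (subgroupBlockCoeff (Subgroup.centralizer (Q : Set G)) f) = cb M Q f :=
    red_subgroupBlockCoeff hM _ f
  rw [memI_brauerOmega_sub_one_iff hM (e := e) ?_ (memR_subgroupBlockCoeff hM hQf.2)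
    (by rw [hred]; exact br_bIdem_central hM hCC f)
    (by rw [hred]; exact br_bIdem_mul_self hM hPe.1 hQf.2 hfix) hPe.2, hred]
  intro c hc x
  have hc' := hCC (inv_mem hc)
  have := subgroupBlockCoeff_conj_of_fixed hM hQf.2 (Subgroup.le_normalizer hc')
    ((bIdem_central _ f).2 _ hc') x
  rwa [inv_inv] at this

/-- Two indices with the same subgroup and the same idempotent agree. -/
theorem idx_ext {a b : BrauerPairIdx G} (h : a.1 = b.1) (ha : IsPBlock M a.2) (hb : IsPBlock M b.2)
    (he : cb M a.1 a.2 = cb M b.1 b.2) : a = b := by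
  obtain ⟨P, e⟩ := a
  obtain ⟨P', e'⟩ := b
  obtain rfl : P = P' := h
  exact congrArg (Sigma.mk P) (bIdem_injective hM ha hb he)

end Cfsg.Agent.BrauerPairs

namespace Cfsg.Agent.BrauerPairs

open Cfsg Cfsg.Agent.Blocks

variable {G : Type*} [Group G] [Finite G] {p : ℕ} {M : Ideal AlgInt}

/-- Conjugation of Brauer pair indices. -/
def conjIdx (g : G) (a : BrauerPairIdx G) : BrauerPairIdx G :=
  ⟨conjSub g a.1, conjBlock a.1 g a.2⟩

variable (hM : IsPModular p M)
include hM

theorem conjIdx_conjIdx (g h : G) {a : BrauerPairIdx G} (ha : IsPBlock M a.2) :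
    conjIdx g (conjIdx h a) = conjIdx (g * h) a := by
  have : Fact p.Prime := ⟨hM.1⟩
  refine idx_ext hM (conjSub_mul g h a.1)
    (isPBlock_conjBlock _ _ (isPBlock_conjBlock _ _ ha)) (isPBlock_conjBlock _ _ ha) ?_
  show cb M (conjSub g (conjSub h a.1)) (conjBlock _ g (conjBlock a.1 h a.2)) =
    cb M (conjSub (g * h) a.1) (conjBlock a.1 (g * h) a.2)
  rw [← cj_cb hM, ← cj_cb hM, ← cj_cb hM, cj_mul]

theorem conjIdx_one {a : BrauerPairIdx G} (ha : IsPBlock M a.2) : conjIdx 1 a = a := by
  have : Fact p.Prime := ⟨hM.1⟩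
  refine idx_ext hM (conjSub_one a.1) (isPBlock_conjBlock _ _ ha) ha ?_
  show cb M (conjSub 1 a.1) (conjBlock a.1 1 a.2) = _
  rw [← cj_cb hM, cj_one]

theorem isBrauerPair_conj {P : Subgroup G}
    {e : Set (IrrCharacter (Subgroup.centralizer (P : Set G)))} (h : IsBrauerPair p M P e) (g : G) :
    IsBrauerPair p M (conjSub g P) (conjBlock P g e) := by
  let _ := hM
  exact ⟨h.1.map _, isPBlock_conjBlock _ _ h.2⟩

theorem isBrauerPairOf_conj [Fact p.Prime] {B : Set (IrrCharacter G)} {P : Subgroup G}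
    {e : Set (IrrCharacter (Subgroup.centralizer (P : Set G)))}
    (h : IsBrauerPairOf p M B P e) (g : G) :
    IsBrauerPairOf p M B (conjSub g P) (conjBlock P g e) := by
  obtain ⟨hp, hB, he⟩ := (isBrauerPairOf_iff hM).1 h
  refine (isBrauerPairOf_iff hM).2 ⟨isBrauerPair_conj hM hp g, hB, ?_⟩
  have hfix : cj g (blk M B) = blk M B := fixed_blk B g (Subgroup.mem_top g)
  rw [← cj_cb hM, ← hfix, ← cj_br, ← map_mul, he]

theorem normalSubpairRel_conj [Fact p.Prime] {a b : BrauerPairIdx G}
    (h : NormalSubpairRel p M a b) (g : G) :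
    NormalSubpairRel p M (conjIdx g a) (conjIdx g b) := by
  obtain ⟨hQ, hP, hQP, hPN, hfix, he⟩ := (isNormalSubpair_iff hM).1 h
  refine (isNormalSubpair_iff hM).2 ⟨isBrauerPair_conj hM hQ g, isBrauerPair_conj hM hP g,
    conjSub_mono g hQP, ?_, ?_, ?_⟩
  · intro u hu
    have hu' := hPN (mem_conjSub.1 hu)
    rw [← conjSub_eq_self_iff] at hu'
    rw [← conjSub_eq_self_iff]
    show conjSub u (conjSub g a.1) = conjSub g a.1
    conv_rhs => rw [← hu']
    rw [conjSub_mul, conjSub_mul]
    congr 1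
    group
  · intro u hu
    show cj u (cb M (conjSub g a.1) (conjBlock a.1 g a.2)) =
      cb M (conjSub g a.1) (conjBlock a.1 g a.2)
    rw [← cj_cb hM]
    conv_rhs => rw [← hfix _ (mem_conjSub.1 hu)]
    rw [← cj_mul, ← cj_mul]
    congr 2
    group
  · show br (conjSub g b.1) (cb M (conjSub g a.1) (conjBlock a.1 g a.2)) *
      cb M (conjSub g b.1) (conjBlock b.1 g b.2) = cb M (conjSub g b.1) (conjBlock b.1 g b.2)
    rw [← cj_cb hM, ← cj_cb hM, ← cj_br, ← map_mul, he]

theorem subpairLE_conj [Fact p.Prime] {Q P : Subgroup G}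
    {f : Set (IrrCharacter (Subgroup.centralizer (Q : Set G)))}
    {e : Set (IrrCharacter (Subgroup.centralizer (P : Set G)))}
    (h : SubpairLE p M Q f P e) (g : G) :
    SubpairLE p M (conjSub g Q) (conjBlock Q g f) (conjSub g P) (conjBlock P g e) :=
  Relation.ReflTransGen.lift (conjIdx g) (fun _ _ h' => normalSubpairRel_conj hM h' g) _ _ h

end Cfsg.Agent.BrauerPairs
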