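import Cfsg.Agent.Lib.SecondMain.Rank

/-!
# The columns of a union of blocks at the `p`-singular elements

For a homomorphism `f : N →* G` and a set `b` of characters of `G`, `localW M b f` is the set of the
characters of `N` whose central characters, pushed to `G` along `f`, are congruent to those of `b`.
`natCast_card_mul_sub_blockRank`: for a union of blocks `U` of `N`, `|N| * (k(U) - l(U))` is the sum
of the squares of the columns of `U` at the `p`-singular elements.
`localSum_eq_centralizer`: such a column is computed in the centralizer of the `p`-part.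
-/

set_option autoImplicit false

open scoped ComplexConjugate

namespace Cfsg.Agent.BrauerPairs

open Cfsg Blocks SecondMain

variable {G : Type*} [Group G] {p : ℕ} {M : Ideal AlgInt}

section Union

variable [Finite G]

open scoped Classical in
/-- The rank of a union of blocks as a trace. -/
theorem blockRank_union_eq (hM : IsPModular p M) {U : Set (IrrCharacter G)}
    (hU : ∀ χ ∈ U, blockOf M (χ : G → ℂ) ⊆ U) [Fintype G] :
    (blockRank p U : ℂ) = ∑ᶠ χ ∈ U, classInner (pRegularPart p (χ : G → ℂ)) (χ : G → ℂ) := by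
  have := Fintype.ofFinite (IrrCharacter G)
  have hsum : ∀ ψ ∈ U, pRegularPart p (ψ : G → ℂ) =
      ∑ φ ∈ U.toFinset, classInner (pRegularPart p (ψ : G → ℂ)) (φ : G → ℂ) • (φ : G → ℂ) := by
    intro ψ hψ
    refine (pRegularPart_eq_sum hM (isPBlock_blockOf hM ψ) (mem_blockOf_self hM ψ)).trans
      (Finset.sum_subset (Set.toFinset_mono (hU ψ hψ)) fun φ _ hφ => ?_)
    rw [classInner_pRegularPart_eq_zero hM (isPBlock_blockOf hM ψ) (mem_blockOf_self hM ψ)
      (fun h => hφ (Set.mem_toFinset.2 h)), zero_smul]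
  set W := Submodule.span ℂ ((fun χ : IrrCharacter G => pRegularPart p (χ : G → ℂ)) '' U) with hW
  let ip : IrrCharacter G → (G → ℂ) →ₗ[ℂ] ℂ := fun χ =>
    { toFun := fun f => classInner f (χ : G → ℂ)
      map_add' := fun f g => Cfsg.Agent.Char.classInner_add_left f g _
      map_smul' := fun a f => by simp [Cfsg.Agent.Char.classInner_smul_left] }
  set Φ : (G → ℂ) →ₗ[ℂ] (G → ℂ) :=
    ∑ χ ∈ U.toFinset, (ip χ).smulRight (pRegularPart p (χ : G → ℂ)) with hΦ
  have hΦapp : ∀ f, Φ f = ∑ χ ∈ U.toFinset,
      classInner f (χ : G → ℂ) • pRegularPart p (χ : G → ℂ) := fun f => by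
    simp [hΦ, ip, LinearMap.sum_apply]
  have hproj : LinearMap.IsProj W Φ := by
    refine ⟨fun f => ?_, fun f hf => ?_⟩
    · rw [hΦapp]
      exact Submodule.sum_mem _ fun χ hχ =>
        W.smul_mem _ (Submodule.subset_span ⟨χ, Set.mem_toFinset.1 hχ, rfl⟩)
    · induction hf using Submodule.span_induction with
      | mem f hf =>
        obtain ⟨ψ, hψ, rfl⟩ := hf
        show Φ (pRegularPart p (ψ : G → ℂ)) = pRegularPart p (ψ : G → ℂ)
        rw [hΦapp]
        conv_rhs => rw [show pRegularPart p (ψ : G → ℂ) =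
          pRegularPart p (pRegularPart p (ψ : G → ℂ)) from by
            funext x; simp only [pRegularPart]; split_ifs <;> rfl]
        conv_rhs => arg 2; rw [hsum ψ hψ]
        funext x
        simp only [Finset.sum_apply, Pi.smul_apply, smul_eq_mul, pRegularPart]
        split_ifs <;> simp
      | zero => simp
      | add f g _ _ hf hg => rw [map_add, hf, hg]
      | smul a f _ hf => rw [map_smul, hf]
  have htr := hproj.trace
  rw [blockRank, ← hW, ← htr, hΦ, map_sum, finsum_mem_eq_toFinset_sum]
  exact Finset.sum_congr rfl fun χ _ => by rw [LinearMap.trace_smulRight]; rfl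

open scoped Classical in
/-- For a union of blocks, `|G| * (k - l)` is the sum of the squares of the singular columns. -/
theorem natCast_card_mul_sub_blockRank (hM : IsPModular p M) {U : Set (IrrCharacter G)}
    (hU : ∀ χ ∈ U, blockOf M (χ : G → ℂ) ⊆ U) [Fintype G] :
    (Nat.card G : ℂ) * ((Nat.card U : ℂ) - (blockRank p U : ℂ))
      = ∑ g ∈ Finset.univ.filter (fun g : G => p ∣ orderOf g), colSum U g g := by
  have := Fintype.ofFinite (IrrCharacter G)
  have h1 : ∀ χ : IrrCharacter G,
      (Nat.card G : ℂ) * (1 - classInner (pRegularPart p (χ : G → ℂ)) (χ : G → ℂ))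
      = ∑ g ∈ Finset.univ.filter (fun g : G => p ∣ orderOf g),
          (χ : G → ℂ) g * conj ((χ : G → ℂ) g) := by
    intro χ
    rw [← Char.classInner_irr_self χ.2, mul_sub, classInner, classInner, ← mul_assoc, ← mul_assoc,
      mul_inv_cancel₀ (Nat.cast_ne_zero.mpr Nat.card_pos.ne'), one_mul, one_mul,
      ← Finset.sum_sub_distrib, Finset.sum_filter]
    refine Finset.sum_congr rfl fun g _ => ?_
    by_cases hg : p ∣ orderOf g
    · rw [pRegularPart_of_singular hg, if_pos hg, zero_mul, sub_zero]
    · rw [pRegularPart_of_regular hg, if_neg hg, sub_self]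
  rw [blockRank_union_eq hM hU, finsum_mem_eq_toFinset_sum, Nat.card_eq_fintype_card (α := U),
    ← Set.toFinset_card, ← nsmul_one U.toFinset.card, ← Finset.sum_const, ← Finset.sum_sub_distrib,
    Finset.mul_sum]
  simp only [colSum, finsum_mem_eq_toFinset_sum]
  rw [Finset.sum_comm]
  exact Finset.sum_congr rfl fun χ _ => h1 χ

end Union

variable {b : Set (IrrCharacter G)}

/-- The characters of `N` whose central characters, pushed to `G` along `f`, are congruent to those
of `b`. -/
def localW (M : Ideal AlgInt) (b : Set (IrrCharacter G)) {N : Type*} [Group N] (f : N →* G) :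
    Set (IrrCharacter N) :=
  {ξ | ∀ χ ∈ b, ∀ g : G,
    MemLocalIdeal M (omega (ξ : N → ℂ) (fun k => classInd g (f k)) - centralChar (χ : G → ℂ) g)}

/-- The square of the column of `localW M b f`. -/
noncomputable def localSum (M : Ideal AlgInt) (b : Set (IrrCharacter G)) {N : Type*} [Group N]
    (f : N →* G) (k : N) : ℂ :=
  colSum (localW M b f) k k

theorem isClassFunction_classInd_comp {N : Type*} [Group N] (f : N →* G) (g : G) :
    IsClassFunction N fun k => classInd g (f k) := fun x h => by
  show classInd g (f (h * x * h⁻¹)) = _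
  rw [map_mul, map_mul, map_inv]
  exact isClassFunction_classInd g (f x) (f h)

theorem localSum_congr {N N' : Type*} [Group N] [Group N'] (e : N ≃* N') (f : N →* G)
    (f' : N' →* G) (he : ∀ k, f' (e k) = f k) (k : N) :
    localSum M b f k = localSum M b f' (e k) := by
  let F : IrrCharacter N → IrrCharacter N' := fun χ =>
    ⟨fun h => (χ : N → ℂ) (e.symm h), Char.IsIrrCharacter.comp_equiv χ.2 e.symm⟩
  let F' : IrrCharacter N' → IrrCharacter N := fun χ =>
    ⟨fun h => (χ : N' → ℂ) (e h), Char.IsIrrCharacter.comp_equiv χ.2 e⟩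
  have homega : ∀ (ξ : IrrCharacter N) (g : G),
      omega ((F ξ : IrrCharacter N') : N' → ℂ) (fun k => classInd g (f' k))
        = omega (ξ : N → ℂ) (fun k => classInd g (f k)) := by
    intro ξ g
    simp only [omega]
    rw [← finsum_comp_equiv e.toEquiv]
    simp [F, he]
  refine finsum_mem_eq_of_bijOn F ⟨fun ξ hξ χ hχ g => ?_, ?_, fun ξ hξ => ⟨F' ξ, ?_, ?_⟩⟩
    fun ξ _ => by simp [F]
  · rw [homega]
    exact hξ χ hχ g
  · intro ξ _ ξ' _ h
    exact Subtype.ext (funext fun h' => by
      simpa [F] using congrArg (fun φ : IrrCharacter N' => (φ : N' → ℂ) (e h')) h)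
  · intro χ hχ g
    have h2 : F (F' ξ) = ξ := Subtype.ext (funext fun h' => by simp [F, F'])
    rw [← homega, h2]
    exact hξ χ hχ g
  · exact Subtype.ext (funext fun h' => by simp [F, F'])

variable [Finite G]

omit [Finite G] in
theorem blockOf_subset_localW (hM : IsPModular p M) {N : Type*} [Group N] [Finite N] (f : N →* G)
    {ψ : IrrCharacter N} (hψ : ψ ∈ localW M b f) : blockOf M (ψ : N → ℂ) ⊆ localW M b f :=
  fun _φ hφ χ hχ g => memI_sub_trans hM (memI_sub_comm (intRing_congr hM
    (omega_mem_intRing hM (isClassFunction_classInd_comp f g)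
      fun _k => classInd_mem (locRing hM) g _) hφ)) (hψ χ hχ g)

theorem localW_subtype_eq (hM : IsPModular p M) (hb : IsPBlock M b) (N : Subgroup G) :
    localW M b N.subtype
      = {ψ : IrrCharacter N | ∃ β : Set (IrrCharacter N), ψ ∈ β ∧ IsInducedBlock M N β b} := by
  ext ψ
  constructor
  · intro h
    refine ⟨blockOf M (ψ : N → ℂ), mem_blockOf_self hM ψ, isPBlock_blockOf hM ψ, hb,
      fun ξ hξ χ hχ g => ?_⟩
    rw [inducedCentralChar_eq_omega hM]
    exact blockOf_subset_localW hM N.subtype h hξ χ hχ g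
  · rintro ⟨β, hψ, hβ⟩ χ hχ g
    have h := hβ.2.2 ψ hψ χ hχ g
    rw [inducedCentralChar_eq_omega hM] at h
    exact h

theorem localW_id_eq (hM : IsPModular p M) (hb : IsPBlock M b) :
    localW M b (MonoidHom.id G) = b := by
  have h : ∀ (ψ : IrrCharacter G) (g : G),
      omega (ψ : G → ℂ) (fun k => classInd g (MonoidHom.id G k)) = centralChar (ψ : G → ℂ) g :=
    fun ψ g => congrFun (omegaFun_classInd g) ψ
  ext ψ
  constructor
  · intro hψ
    obtain ⟨χ, hχ⟩ := isPBlock_nonempty hM hb
    rw [isPBlock_eq_blockOf hM hb hχ]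
    intro g
    have h1 := hψ χ hχ g
    rw [h] at h1
    exact memI_sub_comm h1
  · intro hψ χ hχ g
    rw [h]
    exact sameBlock_of_mem hM hb hψ hχ g

omit [Finite G] in
/-- The column of `localW M b f` at `u * v` lives in the centralizer of the `p`-part `u`. -/
theorem localSum_eq_centralizer (hM : IsPModular p M) {N : Type*} [Group N] [Finite N]
    (f : N →* G) {u : N} (hu : ∃ k, orderOf u = p ^ k) {C : Subgroup N}
    (hC : ∀ g, g ∈ C ↔ Commute u g) {v : C} (hv : ¬ p ∣ orderOf v) :
    localSum M b f (u * (v : N)) = localSum M b (f.comp C.subtype) v := by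
  classical
  let S : Set (Set (IrrCharacter N)) := {B | IsPBlock M B ∧ B ⊆ localW M b f}
  let S' : Set (Set (IrrCharacter C)) := ⋃ B ∈ S, inducedSet M C B
  have hS : ⋃₀ S = localW M b f := by
    ext ψ
    exact ⟨fun ⟨B, hB, hψ⟩ => hB.2 hψ, fun hψ => ⟨blockOf M (ψ : N → ℂ),
      ⟨isPBlock_blockOf hM ψ, blockOf_subset_localW hM f hψ⟩, mem_blockOf_self hM ψ⟩⟩
  have hS' : ⋃₀ S' = localW M b (f.comp C.subtype) := by
    ext ξ
    constructor
    · rintro ⟨β, hβ, hξ⟩ χ hχ g
      obtain ⟨B, hB, hind⟩ := Set.mem_iUnion₂.mp hβ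
      obtain ⟨ψ, hψ⟩ := isPBlock_nonempty hM hB.1
      exact memI_sub_trans hM (omega_restrict_congr hM hind hξ hψ
        (isClassFunction_classInd_comp f g) fun k => classInd_mem (locRing hM) g _)
        (hB.2 hψ χ hχ g)
    · intro hξ
      obtain ⟨B, hind⟩ := exists_induced_centralizer hM hu hC (isPBlock_blockOf hM ξ)
      refine ⟨blockOf M (ξ : C → ℂ), Set.mem_iUnion₂.mpr ⟨B, ⟨hind.2.1, fun ψ hψ χ hχ g => ?_⟩,
        hind⟩, mem_blockOf_self hM ξ⟩
      exact memI_sub_trans hM (memI_sub_comm (omega_restrict_congr hM hind (mem_blockOf_self hM ξ)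
        hψ (isClassFunction_classInd_comp f g) fun k => classInd_mem (locRing hM) g _))
        (hξ χ hχ g)
  have hfin : S.Finite := Set.toFinite _
  show ∑ᶠ ψ ∈ localW M b f, _ = ∑ᶠ ξ ∈ localW M b (f.comp C.subtype), _
  rw [← hS, ← hS', ← finsum_blocks_eq hM (S := S) (fun B h => h.1),
    ← finsum_blocks_eq hM (S := S') (fun β h => by
      obtain ⟨B, -, hind⟩ := Set.mem_iUnion₂.mp h
      exact hind.1)]
  rw [finsum_mem_biUnion (t := fun B => inducedSet M C B) (fun B hB B' hB' hne =>
    Set.disjoint_left.mpr fun β h h' => hne (induced_unique hM h h')) hfin fun B _ => Set.toFinite _]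
  exact finsum_mem_congr rfl fun B hB => colSum_eq_sum hM hB.1 hu hC hv hv

end Cfsg.Agent.BrauerPairs
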